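import Cfsg.Agent.H743.AH.TwFC
import Cfsg.Agent.H286.OddNF
import Cfsg.Agent.Nodes.RGDFold
import Cfsg.Agent.ChevalleyStructure.BruhatSplit
import Cfsg.Agent.OddHalf.Small.ChevCent
import Cfsg.Agent.Nodes.RGDTwE6
import Cfsg.Agent.Nodes.RGDTwD4
import Cfsg.Agent.ChevalleyStructure.D4H1
import Mathlib
import Cfsg.Agent.H27.AH.Defs_m3
import Cfsg.Agent.FixBN.Thin_m3
import Cfsg.Agent.UGT.U2.FOne.NatJ_m3
import Cfsg.Agent.H568.OwnCharChev
import Cfsg.Agent.H568.OwnCharTw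
import Cfsg.Agent.H934.RowTwD4
import Cfsg.Agent.Tits.Generic
import Cfsg.Agent.H307.ZeroHecke
import Cfsg.Agent.ChevFast.E6
import Cfsg.Agent.ChevFast.E7
import Cfsg.Agent.ChevFast.E8
import Cfsg.Agent.Tits.Gate
import Cfsg.Agent.Tits.OppRes
import Cfsg.Agent.FixBN.Par
import Cfsg.Agent.H716.RegCent
import Cfsg.Agent.Tits.Core
import Cfsg.Agent.Tits.Exchange
import Cfsg.Agent.H400.LieSimple
import Cfsg.Agent.FastGrp
import Cfsg.Agent.Prune
set_option linter.all false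

section
prune_inst 0x7ffcfff8afb8bfffdfff7e7ffed9dffc19d09fffe6dff94bffe0e1ff0bdf030029c5fbad0de010ff0fd6e09410b87853fb7eeeffa86bdc7ffffd5ff45ffbec0f9567bd8951d68c340fbc0fff63f17f8e7f3fffffffffffffffffffffffffffbefffdffbfffff

-- part: H82/AH/DisUntw
section
prune_inst 0x2004100002000018000262003e029000000000430000000000000100c86200012e01000001021030000020000000000004300030000000000000002506090002400283080000040008000000000000000000000000000000000000000000200400000
set_option linter.all false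
open scoped Cfsg.Agent.FastGrp

-- part: H82/AH/Tor
section
/-!
# S2451 (helper82): the common displacements centralise the torus

`R` a generating root group datum with abelian torus `T`: if all products of `a` with the conjugates of `b` are
`p`-elements and `w ∈ Dis a b`, each representative `m` of `w` centralises `T`.
-/

set_option autoImplicit false
set_option linter.unusedSectionVars false

open scoped Pointwise

namespace Cfsg.Agent.H82.AH

open CoxeterSystem Cfsg.Agent.ChevalleyStructure.CoxeterGeom Cfsg.Agent.Tits.Roots Cfsg.Agent.Tits.Core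
  Cfsg.Agent.Tits.RootComb Cfsg.Agent.Nodes.Comb Cfsg.Agent.Nodes.Reps Cfsg.Agent.Nodes.BNOf Cfsg.Agent.Nodes.BNOf.RGD
  Cfsg.Agent.FixBN Cfsg.Agent.Tits.OfBN Cfsg.Agent.Tits.OppRes Cfsg.Agent.LieExceptional.BNPairCore
  Cfsg.Agent.OddHalf.Table.AutBldg Cfsg.Agent.OddHalf.Table.AutRGD Cfsg.Agent.OddHalf.Table.AutNorm
  Cfsg.Agent.Tits Cfsg.Agent.Nodes.RGDLib Cfsg.Agent.UGT.U2.FOne
open Cfsg.Agent.Tits.Core.Bldg Cfsg.Agent.H197.Cls

variable {I W Y : Type*} [Fintype I] [DecidableEq I] [Group W] [Group Y] {M : CoxeterMatrix I}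
  {cs : CoxeterSystem M W} {A : I → I → ℤ} {h : IsCartan M A} {p : ℕ} {T : Subgroup Y} {n : I → Y}
  {X : (I → ℤ) → Subgroup Y} [Finite W]

variable (R : RGD cs h p T n X) (hgen : B cs h T X ⊔ NN cs R.nsys = ⊤)
  [hN : (((R.bnPair hgen).B ⊓ (R.bnPair hgen).N).subgroupOf (R.bnPair hgen).N).Normal]
  (cs' : CoxeterSystem M (WP (R.bnPair hgen)))
  (hcs : ∀ i, cs'.simple i = QuotientGroup.mk
    (⟨(eS R hgen i : Y), (R.bnPair hgen).subset (eS R hgen i).2⟩ : (R.bnPair hgen).N))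

include R in
/-- `T ∩ U = 1`. -/
theorem eq_one_of_T_U [Fact p.Prime] {t : Y} (ht : t ∈ T) (hu : t ∈ Sup X (Pos cs h)) : t = 1 := by
  obtain ⟨k, hk⟩ := R.isPGroup_Upos ⟨t, hu⟩
  have h1 : t ^ p ^ k = 1 := congrArg Subtype.val hk
  have h2 : (⟨t, ht⟩ : T) ^ Nat.card T = 1 := pow_card_eq_one'
  have h3 : t ^ Nat.card T = 1 := congrArg Subtype.val h2
  have h4 : orderOf t ∣ 1 := by
    have h5 : Nat.gcd (Nat.card T) (p ^ k) = 1 := R.tcop.pow_right k
    rw [← h5]
    exact Nat.dvd_gcd (orderOf_dvd_of_pow_eq_one h3) (orderOf_dvd_of_pow_eq_one h1)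
  exact orderOf_eq_one_iff.1 (Nat.dvd_one.1 h4)

variable [Finite Y] [hpf : Fact p.Prime] (hcore : (B cs h T X).normalCore = ⊥)

include hcore in
/-- **The common displacements centralise the torus.** -/
theorem comm_of_mem_dis [Cox cs'] (hT : ∀ s ∈ T, ∀ t ∈ T, s * t = t * s) {a b : Y} (hab : _root_.Cfsg.Agent.H197.Cls.Good p a b) {w : W} {m : Y}
    (hm : Rp cs R.nsys w m) (hw : fw cs cs' w ∈ Dis (Bl R hgen cs' hcs) a b) {t : Y} (ht : t ∈ T) :
    m⁻¹ * t * m = t := by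
  set S := Sy R hgen cs' hcs hcore with hS
  have hth : (Bl R hgen cs' hcs).Thick := thick (R.bnPair hgen) (eS R hgen) cs' hcs
  obtain ⟨g, c, hc, hbc⟩ := exists_pair S hth hw
  have hδ : (Bl R hgen cs' hcs).δ (ch R hgen 1) (ch R hgen m) = fw cs cs' w := by
    rw [δ_rp R hgen cs' hcs rp_one hm, inv_one, one_mul]
  obtain ⟨k, hk1, hk2⟩ := exists_smul_pair S hth (x := c) (y := a⁻¹ • c) (x' := ch R hgen 1)
    (y' := ch R hgen m) (by rw [hc, hδ])
  -- the conjugates
  set a1 := k * a * k⁻¹ with ha1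
  set b1 := k * (g * b * g⁻¹) * k⁻¹ with hb1
  have hgood : _root_.Cfsg.Agent.H197.Cls.Good p a1 b1 := (hab.conjR g |>.conjR k).conjL k
  have e1 : b1 • ch R hgen 1 = ch R hgen m := by
    rw [← hk2, ← hbc, ← hk1, hb1, mul_smul, mul_smul, inv_smul_smul]
  have e2 : a1⁻¹ • ch R hgen 1 = ch R hgen m := by
    rw [← hk2, ← hk1, ha1]
    have : (k * a * k⁻¹)⁻¹ = k * a⁻¹ * k⁻¹ := by group
    rw [this, mul_smul, mul_smul, inv_smul_smul]
  -- `t` fixes both chambers
  have htm : m⁻¹ * t * m ∈ T := by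
    have h1 := (Subgroup.mem_normalizer_iff.1 hm.inv.mem_normalizer t).1 ht
    rwa [inv_inv] at h1
  have ht1 : t • ch R hgen 1 = ch R hgen 1 := by
    rw [FixBN.OfBN.smul_mk_eq, inv_one, one_mul, mul_one]
    exact (T_le_B ht : t ∈ B cs h T X)
  have ht2 : t • ch R hgen m = ch R hgen m := by
    rw [FixBN.OfBN.smul_mk_eq]
    exact (T_le_B htm : _ ∈ B cs h T X)
  have key := _root_.Cfsg.Agent.H197.Cls.tor S hgood (c := ch R hgen 1) (by rw [e1, e2]) (h := t) ht1 (by rw [e1, ht2])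
  rw [e1, mem_Sy] at key
  -- `b1 = m * (s * u)`
  have hb2 : m⁻¹ * b1 ∈ B cs h T X := by
    have h1 : (QuotientGroup.mk (b1 * 1) : Y ⧸ (R.bnPair hgen).B) = QuotientGroup.mk m := e1
    have h2 := FixBN.OfBN.mk_eq.1 h1.symm
    rwa [mul_one] at h2
  obtain ⟨s, hs, u, hu, e3⟩ := R.mem_B.1 hb2
  have e4 : b1 = m * (s * u) := by rw [← e3]; group
  have e5 : m⁻¹ * (t * (b1 * t⁻¹ * b1⁻¹)) * m = (m⁻¹ * t * m) * (s * (u * t⁻¹ * u⁻¹) * s⁻¹) := by
    rw [e4]; group
  rw [e5] at key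
  have hst : s * t⁻¹ * s⁻¹ = t⁻¹ := by
    rw [hT s hs t⁻¹ (inv_mem ht)]; group
  -- `u t⁻¹ u⁻¹ = t⁻¹ u'`
  have hu' : t * u * t⁻¹ * u⁻¹ ∈ Sup X (Pos cs h) := by
    have h1 := (Subgroup.mem_normalizer_iff.1 (R.T_le_normalizer_U ht) u).1 hu
    exact mul_mem h1 (inv_mem hu)
  have hu'' : s * (t * u * t⁻¹ * u⁻¹) * s⁻¹ ∈ Sup X (Pos cs h) :=
    (Subgroup.mem_normalizer_iff.1 (R.T_le_normalizer_U hs) _).1 hu'
  have e6 : (m⁻¹ * t * m) * (s * (u * t⁻¹ * u⁻¹) * s⁻¹) =
      (m⁻¹ * t * m) * t⁻¹ * (s * (t * u * t⁻¹ * u⁻¹) * s⁻¹) := by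
    have h1 : s * (u * t⁻¹ * u⁻¹) * s⁻¹ = (s * t⁻¹ * s⁻¹) * (s * (t * u * t⁻¹ * u⁻¹) * s⁻¹) := by group
    rw [h1, hst]; group
  rw [e6] at key
  have h7 : (m⁻¹ * t * m) * t⁻¹ ∈ Sup X (Pos cs h) := by
    have h8 := mul_mem key (inv_mem hu'')
    rwa [mul_inv_cancel_right] at h8
  have h9 := eq_one_of_T_U R (mul_mem htm (inv_mem ht)) h7
  exact mul_inv_eq_one.1 h9

end Cfsg.Agent.H82.AH
end

-- part: H82/AH/DisJ
section
/-!
# S2451 (helper82): common displacements `w_J` and the reflection representation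

* `rep_eq_neg` : `s_i w = w s_i`, `w s_i < w` imply `w α_i = -α_i`;
* `pairing_neg` : then `⟨w x, α_i^∨⟩ = -⟨x, α_i^∨⟩`;
* `eq_w0_of_neg` : `w α_i = -α_i` for all `i` implies `w = w₀`;
* `exists_J` : a common displacement `≠ 1` is conjugate to some `w_J ∈ Dis`, `J ≠ ∅`, `w_J = -1` on `J`.
-/

set_option autoImplicit false
set_option linter.unusedSectionVars false

open scoped Pointwise

namespace Cfsg.Agent.H82.AH

open CoxeterSystem Cfsg.Agent.ChevalleyStructure.CoxeterGeom Cfsg.Agent.Tits.Roots Cfsg.Agent.Tits.Core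
  Cfsg.Agent.Tits.RootComb Cfsg.Agent.Nodes.Comb Cfsg.Agent.Nodes.Reps Cfsg.Agent.Nodes.BNOf Cfsg.Agent.Nodes.BNOf.RGD
  Cfsg.Agent.FixBN Cfsg.Agent.Tits.OfBN Cfsg.Agent.Tits.OppRes Cfsg.Agent.LieExceptional.BNPairCore
  Cfsg.Agent.OddHalf.Table.AutBldg Cfsg.Agent.OddHalf.Table.AutRGD Cfsg.Agent.OddHalf.Table.AutNorm
  Cfsg.Agent.Tits Cfsg.Agent.Nodes.RGDLib Cfsg.Agent.UGT.U2.FOne
open Cfsg.Agent.Tits.Core.Bldg Cfsg.Agent.H197.Cls

section Cox

variable {I W : Type*} [Fintype I] [DecidableEq I] [Group W] {M : CoxeterMatrix I}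
  {cs : CoxeterSystem M W} {A : I → I → ℤ} {h : IsCartan M A}

theorem rep_eq_pm {w : W} {i : I} (hc : cs.simple i * w = w * cs.simple i) :
    rep cs h w (sr i) = sr i ∨ rep cs h w (sr i) = -sr i := by
  set x := rep cs h w (sr i) with hx
  have h1 : rep cs h (cs.simple i) x = -x := by
    rw [hx, ← rep_mul_apply, hc, rep_mul_apply, rep_simple_sr, map_neg]
  rw [rep_simple_eq] at h1
  have hk : ∀ k, k ≠ i → x k = 0 := by
    intro k hk
    have h2 := congrFun h1 k
    rw [Pi.sub_apply, Pi.smul_apply, sr_ne hk, smul_zero, sub_zero, Pi.neg_apply] at h2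
    omega
  have h2 : x = x i • sr i := by
    funext k
    by_cases hki : k = i
    · subst hki; rw [Pi.smul_apply, sr_self, smul_eq_mul, mul_one]
    · rw [Pi.smul_apply, sr_ne hki, smul_zero, hk k hki]
  have hroot : IsRoot cs h x := (isRoot_sr cs h i).act w
  rcases Int.isUnit_iff.1 (isUnit_of_smul cs h hroot _ h2) with h3 | h3
  · left; rw [h2, h3, one_smul]
  · right; rw [h2, h3, neg_smul, one_smul]

theorem rep_eq_neg {w : W} {i : I} (hc : cs.simple i * w = w * cs.simple i)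
    (hl : cs.length (w * cs.simple i) < cs.length w) : rep cs h w (sr i) = -sr i := by
  rcases rep_eq_pm (h := h) hc with h1 | h1
  · exfalso
    have h2 : rep cs h w (sr i) ≤ 0 := nonpos_of_lt cs h w i hl
    rw [h1] at h2
    have h3 : (1 : ℤ) ≤ 0 := by
      have h4 := h2 i
      rwa [sr_self, Pi.zero_apply] at h4
    exact absurd h3 (by decide)
  · exact h1

theorem pairing_neg {w : W} {i : I} (hc : cs.simple i * w = w * cs.simple i)
    (hn : rep cs h w (sr i) = -sr i) (x : I → ℤ) : pairing A i (rep cs h w x) = -pairing A i x := by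
  have h1 : rep cs h (cs.simple i) (rep cs h w x) = rep cs h w (rep cs h (cs.simple i) x) := by
    rw [← rep_mul_apply, hc, rep_mul_apply]
  rw [rep_simple_eq, rep_simple_eq, map_sub, map_smul, hn] at h1
  have h2 := congrFun h1 i
  simp only [Pi.sub_apply, Pi.smul_apply, Pi.neg_apply, sr_self, smul_eq_mul] at h2
  linarith

theorem eq_w0_of_neg [Finite W] {w : W} (h0 : ∀ i, rep cs h w (sr i) = -sr i) : w = w0 cs := by
  have F : Cox cs := inferInstance
  refine F.eq_wJ_of_descents (J := Set.univ) (by rw [WJ_univ]; trivial) fun j _ => ?_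
  by_contra hcon
  have h1 : cs.length w < cs.length (w * cs.simple j) :=
    lt_of_le_of_ne (not_lt.1 hcon) (cs.length_mul_simple_ne w j).symm
  have h2 : 0 ≤ rep cs h w (sr j) := nonneg_of_lt cs h w j h1
  rw [h0] at h2
  have h3 : (0 : ℤ) ≤ -1 := by
    have h4 := h2 j
    rwa [Pi.neg_apply, sr_self, Pi.zero_apply] at h4
  exact absurd h3 (by decide)

theorem eq_one_of_pos {w : W} (h0 : ∀ i, rep cs h w (sr i) = sr i) : w = 1 := eq_one_of_fix cs h w h0

/-- off `J` the elements of `W_J` change only the coordinates in `J` -/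
theorem rep_off {J : Set I} {w : W} (hw : w ∈ WJ cs J) (x : I → ℤ) {k : I} (hk : k ∉ J) :
    rep cs h w x k = x k := rep_apply_of_mem cs h hw x hk

end Cox

variable {I W Y : Type*} [Fintype I] [DecidableEq I] [Group W] [Group Y] {M : CoxeterMatrix I}
  {cs : CoxeterSystem M W} {A : I → I → ℤ} {h : IsCartan M A} {p : ℕ} {T : Subgroup Y} {n : I → Y}
  {X : (I → ℤ) → Subgroup Y} [Finite W]

variable (R : RGD cs h p T n X) (hgen : B cs h T X ⊔ NN cs R.nsys = ⊤)
  [hN : (((R.bnPair hgen).B ⊓ (R.bnPair hgen).N).subgroupOf (R.bnPair hgen).N).Normal]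
  (cs' : CoxeterSystem M (WP (R.bnPair hgen)))
  (hcs : ∀ i, cs'.simple i = QuotientGroup.mk
    (⟨(eS R hgen i : Y), (R.bnPair hgen).subset (eS R hgen i).2⟩ : (R.bnPair hgen).N))

variable [Finite Y] [hpf : Fact p.Prime] (hcore : (B cs h T X).normalCore = ⊥)

include hcore in
/-- A common displacement is conjugate to some `w_J`, `w_J = -1` on `J`. -/
theorem exists_J {a b : Y} (hab : _root_.Cfsg.Agent.H197.Cls.Good p a b) {v : W} (hv : fw cs cs' v ∈ Dis (Bl R hgen cs' hcs) a b) :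
    ∃ (u : W) (J : Set I), u * v * u⁻¹ = wJ cs J ∧ fw cs cs' (wJ cs J) ∈ Dis (Bl R hgen cs' hcs) a b ∧
      ∀ i ∈ J, cs.simple i * wJ cs J = wJ cs J * cs.simple i ∧ rep cs h (wJ cs J) (sr i) = -sr i := by
  have hW : Finite (WP (R.bnPair hgen)) := Finite.of_equiv W (fw cs cs').toEquiv
  have F : Cox cs := inferInstance
  have F' : Cox cs' := inferInstance
  have hth : (Bl R hgen cs' hcs).Thick := thick (R.bnPair hgen) (eS R hgen) cs' hcs
  set S := Sy R hgen cs' hcs hcore with hS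
  obtain ⟨u, J, h1, h2⟩ := exists_wJ S hth hab hv
  have hinj : Function.Injective (fw cs cs') := (fw cs cs').injective
  obtain ⟨u', rfl⟩ : ∃ u', fw cs cs' u' = u := ⟨fw cs' cs u, fw_fw cs cs' u⟩
  rw [← fw_wJ cs cs' J] at h1 h2
  have e1 : u' * v * u'⁻¹ = wJ cs J := by
    apply hinj
    rw [map_mul, map_mul, map_inv, h1]
  refine ⟨u', J, e1, ?_, fun i hi => ?_⟩
  · rw [← h1]
    exact dis_conj_mem S hth hab hv _
  · have h3 : cs.simple i * wJ cs J = wJ cs J * cs.simple i := by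
      apply hinj
      rw [map_mul, map_mul, fw_simple]
      exact h2 i hi
    refine ⟨h3, rep_eq_neg h3 ?_⟩
    have h4 := F.len_wJ_mul (simple_mem_WJ (cs := cs) hi)
    rw [cs.length_simple] at h4
    omega

end Cfsg.Agent.H82.AH
end

-- part: H82/AH/Cmp
section
/-!
# S2451 (helper82): comparison of the root characters of the torus

* `nI_conj` : conjugation of the root elements by the monomial words;
* `chi_eq` : a torus element commuting with a monomial word has the same characters on `s` and `w s`;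
* `cartan_dvd` : untwisted groups: `q - 1 ∣ ⟨w s, α_j^∨⟩ - ⟨s, α_j^∨⟩` for each common displacement `w`.
-/

set_option autoImplicit false
set_option linter.unusedSectionVars false

open scoped Pointwise

namespace Cfsg.Agent.H82.AH

open CoxeterSystem Cfsg.Agent.ChevalleyStructure.CoxeterGeom Cfsg.Agent.Tits.Roots Cfsg.Agent.Tits.Core
  Cfsg.Agent.Tits.RootComb Cfsg.Agent.Nodes.Comb Cfsg.Agent.Nodes.Reps Cfsg.Agent.Nodes.BNOf Cfsg.Agent.Nodes.BNOf.RGD
  Cfsg.Agent.FixBN Cfsg.Agent.Tits.OfBN Cfsg.Agent.Tits.OppRes Cfsg.Agent.LieExceptional.BNPairCore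
  Cfsg.Agent.OddHalf.Table.AutBldg Cfsg.Agent.OddHalf.Table.AutRGD Cfsg.Agent.OddHalf.Table.AutNorm
  Cfsg.Agent.Tits Cfsg.Agent.Nodes.RGDLib Cfsg.Agent.UGT.U2.FOne
open Cfsg.Agent.Tits.Core.Bldg Cfsg.Agent.H197.Cls
open Cfsg.Lie Cfsg.Agent.ChevalleyStructure Cfsg.Agent.ChevalleyStructure.Elts
  Cfsg.Agent.ChevalleyStructure.RootVec Cfsg.Agent.ChevalleyStructure.RootVecTab
  Cfsg.Agent.ChevalleyStructure.NPerm Cfsg.Agent.ChevalleyStructure.CoxeterGeomTypes
  Cfsg.Agent.Nodes.RGDChev Cfsg.Agent.Nodes.RGDFold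

universe u

section Big

variable {D : ChevalleyDatum} {l : ℕ} {M : CoxeterMatrix (Fin l)} (hp : IsType D l M) {K : Type u} [Field K]

/-- conjugation by a monomial word -/
theorem nI_conj (o : List (Fin l)) {s : ℕ} (hs : s < D.nroots) :
    ∃ η : K, η ≠ 0 ∧ ∀ c : K, nI hp K o * xG hp.inList s c * (nI hp K o)⁻¹ = xG hp.inList (wp D o s) (η * c) := by
  induction o with
  | nil =>
    refine ⟨1, one_ne_zero, fun c => ?_⟩
    have h1 : nI hp K ([] : List (Fin l)) = 1 := rfl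
    rw [h1, one_mul, inv_one, mul_one, one_mul]
    rfl
  | cons j o ih =>
    obtain ⟨η, hη, ih⟩ := ih
    obtain ⟨ε, hε, h⟩ := Cfsg.Agent.S1031.result (F := K) D hp.inList j (wp D o s) (lt_rank hp j) (wp_lt hp o hs)
    have hε0 : (ε : K) ≠ 0 := by rcases hε with rfl | rfl <;> simp
    refine ⟨(ε : K) * η, mul_ne_zero hε0 hη, fun c => ?_⟩
    have key : ∀ t : K, nn hp K j * xG hp.inList (wp D o s) t * (nn hp K j)⁻¹ =
        xG hp.inList (D.reflectRoot j (wp D o s)) ((ε : K) * t) := by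
      intro t
      rw [mul_inv_eq_iff_eq_mul]
      apply Units.ext
      unfold nn
      rw [Units.val_mul, Units.val_mul, coe_nG, coe_xG, coe_xG]
      exact h t
    rw [nI_cons]
    have e1 : nn hp K j * nI hp K o * xG hp.inList s c * (nn hp K j * nI hp K o)⁻¹ =
        nn hp K j * (nI hp K o * xG hp.inList s c * (nI hp K o)⁻¹) * (nn hp K j)⁻¹ := by group
    rw [e1, ih, key, mul_assoc]
    rfl

/-- equal characters -/
theorem chi_eq (o : List (Fin l)) {t : GL D.Idx K} {χ : ℕ → K}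
    (hχ : ∀ s < D.nroots, ∀ c : K, t * xG hp.inList s c * t⁻¹ = xG hp.inList s (χ s * c))
    (ht : (nI hp K o)⁻¹ * t * nI hp K o = t) {s : ℕ} (hs : s < D.nroots) : χ (wp D o s) = χ s := by
  obtain ⟨η, hη, h⟩ := nI_conj (K := K) hp o hs
  have ht' : nI hp K o * t * (nI hp K o)⁻¹ = t := by
    conv_rhs => rw [← ht]
    conv_lhs => rw [← ht]
    rw [ht]
    conv_lhs => rw [← ht]
    group
  have h1 : nI hp K o * (t * xG hp.inList s 1 * t⁻¹) * (nI hp K o)⁻¹ =
      t * (nI hp K o * xG hp.inList s 1 * (nI hp K o)⁻¹) * t⁻¹ := by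
    have h2 : nI hp K o * (t * xG hp.inList s 1 * t⁻¹) * (nI hp K o)⁻¹ =
        (nI hp K o * t * (nI hp K o)⁻¹) * (nI hp K o * xG hp.inList s 1 * (nI hp K o)⁻¹) *
          (nI hp K o * t * (nI hp K o)⁻¹)⁻¹ := by group
    rw [h2, ht']
  rw [hχ s hs, h, h, hχ _ (wp_lt hp o hs)] at h1
  have h3 := xG_injective hp.inList (wp_lt hp o hs) h1
  rw [mul_one, mul_one, mul_comm η] at h3
  exact (mul_right_cancel₀ hη h3).symm

theorem vec_wp {W : Type*} [Group W] (cs : CoxeterSystem M W) (o : List (Fin l)) {s : ℕ} (hs : s < D.nroots) :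
    vec D l (wp D o s) = rep cs hp.isCartan (cs.wordProd o) (vec D l s) := by
  induction o with
  | nil => rw [wordProd_nil, map_one, Module.End.one_apply]; rfl
  | cons j o ih =>
    rw [wordProd_cons, rep_mul_apply, ← ih, rep_vec hp cs j (wp_lt hp o hs)]
    rfl

/-- the characters of `h_j(c)` -/
theorem hG_chi (j : Fin l) {c : K} (hc : c ≠ 0) :
    ∀ s < D.nroots, ∀ t : K, hG hp.inList (D.simple j) c * xG hp.inList s t * (hG hp.inList (D.simple j) c)⁻¹ =
      xG hp.inList s (c ^ D.cartan j s * t) := fun _ hs t =>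
  BruhatSplit.hG_simple_conj hp.inList (lt_rank hp j) hs hc t

end Big

/-- a generator of the multiplicative group -/
theorem dvd_of_zpow {K : Type*} [Field K] [Fintype K] {a b : ℤ} (h : ∀ c : K, c ≠ 0 → c ^ a = c ^ b) :
    ((Fintype.card K : ℤ) - 1) ∣ a - b := by
  classical
  obtain ⟨g, hg⟩ := IsCyclic.exists_generator (α := Kˣ)
  have h1 : orderOf g = Fintype.card K - 1 := by
    rw [orderOf_eq_card_of_forall_mem_zpowers hg, Nat.card_eq_fintype_card, Fintype.card_units]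
  have h2 := h g g.ne_zero
  have h3 : g ^ (a - b) = 1 := by
    rw [zpow_sub, mul_inv_eq_one]
    apply Units.ext
    rw [Units.val_zpow_eq_zpow_val, Units.val_zpow_eq_zpow_val, h2]
  have h4 := orderOf_dvd_iff_zpow_eq_one.2 h3
  rw [h1] at h4
  have h5 : 1 ≤ Fintype.card K := Fintype.card_pos
  rwa [Nat.cast_sub h5, Nat.cast_one] at h4

section Word

variable {I W Y : Type*} [Fintype I] [DecidableEq I] [Group W] [Group Y] {M : CoxeterMatrix I}
  {cs : CoxeterSystem M W} {T : Subgroup Y} {n : I → Y}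

theorem rp_word (hN : NSys M T n) (ω : List I) : Rp cs hN (cs.wordProd ω) (ω.map n).prod := by
  induction ω with
  | nil => rw [wordProd_nil, List.map_nil, List.prod_nil]; exact rp_one
  | cons i ω ih =>
    rw [wordProd_cons, List.map_cons, List.prod_cons]
    exact (rp_simple cs hN i).mul ih

end Word

section Untw

variable {D : ChevalleyDatum} {l : ℕ} {M : CoxeterMatrix (Fin l)} (hp : IsType D l M) {K : Type u} [Field K]
  [Fintype K] {W : Type*} [Group W] [Finite W] {cs : CoxeterSystem M W} {p : ℕ} [Fact p.Prime] [CharP K p]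
  (hgen : B cs hp.isCartan ((D.diagonalSubgroup K).subgroupOf (D.group K))
      (fun x => (XV D l K x).subgroupOf (D.group K)) ⊔ NN cs (_root_.Cfsg.Agent.Nodes.RGDChev.rgd (K := K) hp cs p).nsys = ⊤)
  [hN : ((((_root_.Cfsg.Agent.Nodes.RGDChev.rgd (K := K) hp cs p).bnPair hgen).B ⊓ ((_root_.Cfsg.Agent.Nodes.RGDChev.rgd (K := K) hp cs p).bnPair hgen).N).subgroupOf
    ((_root_.Cfsg.Agent.Nodes.RGDChev.rgd (K := K) hp cs p).bnPair hgen).N).Normal]
  (cs' : CoxeterSystem M (WP ((_root_.Cfsg.Agent.Nodes.RGDChev.rgd (K := K) hp cs p).bnPair hgen)))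
  (hcs : ∀ i, cs'.simple i = QuotientGroup.mk
    (⟨(eS (_root_.Cfsg.Agent.Nodes.RGDChev.rgd (K := K) hp cs p) hgen i : ↥(D.group K)), ((_root_.Cfsg.Agent.Nodes.RGDChev.rgd (K := K) hp cs p).bnPair hgen).subset
      (eS (_root_.Cfsg.Agent.Nodes.RGDChev.rgd (K := K) hp cs p) hgen i).2⟩ : ((_root_.Cfsg.Agent.Nodes.RGDChev.rgd (K := K) hp cs p).bnPair hgen).N))
  (hcore : (B cs hp.isCartan ((D.diagonalSubgroup K).subgroupOf (D.group K))
      (fun x => (XV D l K x).subgroupOf (D.group K))).normalCore = ⊥)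

include hcore in
/-- **untwisted groups** -/
theorem cartan_dvd {a b : ↥(D.group K)} (hab : _root_.Cfsg.Agent.H197.Cls.Good p a b) {w : W}
    (hw : fw cs cs' w ∈ (Dis (Bl (_root_.Cfsg.Agent.Nodes.RGDChev.rgd (K := K) hp cs p) hgen cs' hcs) a b :)) {s s' : ℕ} (hs : s < D.nroots)
    (hs' : s' < D.nroots) (hss : vec D l s' = rep cs hp.isCartan w (vec D l s)) (j : Fin l) :
    ((Fintype.card K : ℤ) - 1) ∣ D.cartan j s' - D.cartan j s := by
  have hW : Finite (WP ((_root_.Cfsg.Agent.Nodes.RGDChev.rgd (K := K) hp cs p).bnPair hgen)) := Finite.of_equiv W (fw cs cs').toEquiv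
  have F' : Cox cs' := inferInstance
  obtain ⟨ω, rfl⟩ := cs.wordProd_surjective w
  rw [← vec_wp hp cs ω hs] at hss
  have e1 : s' = wp D ω s := vec_inj hp hs' (wp_lt hp ω hs) hss
  subst e1
  refine dvd_of_zpow fun c hc => ?_
  have hT : ∀ s ∈ (D.diagonalSubgroup K).subgroupOf (D.group K), ∀ t ∈ (D.diagonalSubgroup K).subgroupOf (D.group K),
      s * t = t * s := fun s hs t ht =>
    Subtype.ext (OddHalf.Small.ChevCent.diag_comm hp.inList (Subgroup.mem_subgroupOf.1 hs)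
      (Subgroup.mem_subgroupOf.1 ht))
  have hcm : hG hp.inList (D.simple j) c ∈ D.group K := hG_mem_group _ _ _
  have hcd : hG hp.inList (D.simple j) c ∈ D.diagonalSubgroup K :=
    hG_mem_diagonal hp.inList (_root_.Cfsg.Agent.ChevalleyStructure.NPerm.simple_lt hp.inList (lt_rank hp j)) hc
  have h1 := comm_of_mem_dis (_root_.Cfsg.Agent.Nodes.RGDChev.rgd (K := K) hp cs p) hgen cs' hcs hcore hT hab
    (rp_word (_root_.Cfsg.Agent.Nodes.RGDChev.rgd (K := K) hp cs p).nsys ω) hw (t := ⟨_, hcm⟩) (Subgroup.mem_subgroupOf.2 hcd)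
  have h2 : ((((ω.map fun i => (⟨nn hp K i, nn_mem_group hp i⟩ : ↥(D.group K))).prod : ↥(D.group K))) :
      GL D.Idx K) = nI hp K ω := by
    unfold nI
    rw [SubmonoidClass.coe_list_prod, List.map_map]
    rfl
  have h3 := congrArg (Subtype.val) h1
  have h4 : (nI hp K ω)⁻¹ * hG hp.inList (D.simple j) c * nI hp K ω = hG hp.inList (D.simple j) c := by
    rw [← h2]
    exact h3
  exact chi_eq hp ω (hG_chi hp j hc) h4 hs

end Untw

end Cfsg.Agent.H82.AH
end

-- part: H82/AH/DisUntw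
section
/-!
# S2451 (helper82): the common displacements for the untwisted groups

* `eq_one_of_tab` : `q ≥ 4`, every type with a table: `Dis ⊆ {1}`;
* `dis_F4`, `dis_G2` : `q ≥ 4` or `w = 1` or `w = w₀` (`q = 3`).
-/

set_option autoImplicit false
set_option linter.unusedSectionVars false

open scoped Pointwise

namespace Cfsg.Agent.H82.AH

open CoxeterSystem Cfsg.Agent.ChevalleyStructure.CoxeterGeom Cfsg.Agent.Tits.Roots Cfsg.Agent.Tits.Core
  Cfsg.Agent.Tits.RootComb Cfsg.Agent.Nodes.Comb Cfsg.Agent.Nodes.Reps Cfsg.Agent.Nodes.BNOf Cfsg.Agent.Nodes.BNOf.RGD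
  Cfsg.Agent.FixBN Cfsg.Agent.Tits.OfBN Cfsg.Agent.Tits.OppRes Cfsg.Agent.LieExceptional.BNPairCore
  Cfsg.Agent.OddHalf.Table.AutBldg Cfsg.Agent.OddHalf.Table.AutRGD Cfsg.Agent.OddHalf.Table.AutNorm
  Cfsg.Agent.Tits Cfsg.Agent.Nodes.RGDLib Cfsg.Agent.UGT.U2.FOne
open Cfsg.Agent.Tits.Core.Bldg Cfsg.Agent.H197.Cls
open Cfsg.Lie Cfsg.Agent.ChevalleyStructure Cfsg.Agent.ChevalleyStructure.Elts
  Cfsg.Agent.ChevalleyStructure.RootVec Cfsg.Agent.ChevalleyStructure.RootVecTab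
  Cfsg.Agent.ChevalleyStructure.NPerm Cfsg.Agent.ChevalleyStructure.CoxeterGeomTypes
  Cfsg.Agent.Nodes.RGDChev Cfsg.Agent.Nodes.RGDFold

universe u

section

variable {I W : Type*} [Group W] {M : CoxeterMatrix I} {cs : CoxeterSystem M W}

theorem comm_all {w : W} (h : ∀ i, cs.simple i * w = w * cs.simple i) (u : W) : u * w = w * u := by
  induction u using cs.simple_induction_left with
  | one => rw [one_mul, mul_one]
  | mul_simple_left v i ih => rw [mul_assoc, ih, ← mul_assoc, h, mul_assoc]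

theorem wJ_empty [F : Cox cs] : wJ cs (∅ : Set I) = 1 := by
  have h4 := F.wJ_mem (∅ : Set I)
  rw [WJ, Set.image_empty, Subgroup.closure_empty, Subgroup.mem_bot] at h4
  exact h4

theorem eq_one_of_conj_wJ_empty [F : Cox cs] {u v : W} (h : u * v * u⁻¹ = wJ cs (∅ : Set I)) : v = 1 := by
  rw [wJ_empty, mul_inv_eq_one] at h
  exact mul_left_cancel (h.trans (mul_one u).symm)

end

section Untw

variable {D : ChevalleyDatum} {l : ℕ} {M : CoxeterMatrix (Fin l)} (hp : IsType D l M) {K : Type u} [Field K]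
  [Fintype K] {W : Type*} [Group W] [Finite W] {cs : CoxeterSystem M W} {p : ℕ} [Fact p.Prime] [CharP K p]
  (hgen : B cs hp.isCartan ((D.diagonalSubgroup K).subgroupOf (D.group K))
      (fun x => (XV D l K x).subgroupOf (D.group K)) ⊔ NN cs (_root_.Cfsg.Agent.Nodes.RGDChev.rgd (K := K) hp cs p).nsys = ⊤)
  [hN : ((((_root_.Cfsg.Agent.Nodes.RGDChev.rgd (K := K) hp cs p).bnPair hgen).B ⊓ ((_root_.Cfsg.Agent.Nodes.RGDChev.rgd (K := K) hp cs p).bnPair hgen).N).subgroupOf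
    ((_root_.Cfsg.Agent.Nodes.RGDChev.rgd (K := K) hp cs p).bnPair hgen).N).Normal]
  (cs' : CoxeterSystem M (WP ((_root_.Cfsg.Agent.Nodes.RGDChev.rgd (K := K) hp cs p).bnPair hgen)))
  (hcs : ∀ i, cs'.simple i = QuotientGroup.mk
    (⟨(eS (_root_.Cfsg.Agent.Nodes.RGDChev.rgd (K := K) hp cs p) hgen i : ↥(D.group K)), ((_root_.Cfsg.Agent.Nodes.RGDChev.rgd (K := K) hp cs p).bnPair hgen).subset
      (eS (_root_.Cfsg.Agent.Nodes.RGDChev.rgd (K := K) hp cs p) hgen i).2⟩ : ((_root_.Cfsg.Agent.Nodes.RGDChev.rgd (K := K) hp cs p).bnPair hgen).N))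
  (hcore : (B cs hp.isCartan ((D.diagonalSubgroup K).subgroupOf (D.group K))
      (fun x => (XV D l K x).subgroupOf (D.group K))).normalCore = ⊥)

include hcore in
/-- `q ≥ 4` -/
theorem eq_one_of_tab (E : Fin l → Fin l → ℤ)
    (hE : ∀ i : Fin l, (∑ j : Fin l, E i j * (D.cartan j (D.neg (D.simple i)) - D.cartan j (D.simple i))) = 2)
    (hq : 3 < Fintype.card K) {a b : ↥(D.group K)} (hab : _root_.Cfsg.Agent.H197.Cls.Good p a b) {w : W}
    (hw : fw cs cs' w ∈ (Dis (Bl (_root_.Cfsg.Agent.Nodes.RGDChev.rgd (K := K) hp cs p) hgen cs' hcs) a b :)) : w = 1 := by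
  have F : Cox cs := inferInstance
  obtain ⟨u, J, h1, h2, h3⟩ := exists_J (_root_.Cfsg.Agent.Nodes.RGDChev.rgd (K := K) hp cs p) hgen cs' hcs hcore hab hw
  rcases J.eq_empty_or_nonempty with rfl | ⟨i, hi⟩
  · exact eq_one_of_conj_wJ_empty h1
  · exfalso
    have hs := _root_.Cfsg.Agent.ChevalleyStructure.NPerm.simple_lt hp.inList (lt_rank hp i)
    have key : ((Fintype.card K : ℤ) - 1) ∣ 2 := by
      rw [← hE i]
      refine Finset.dvd_sum fun j _ => Dvd.dvd.mul_left ?_ _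
      refine cartan_dvd hp hgen cs' hcs hcore hab h2 hs (_root_.Cfsg.Agent.ChevalleyStructure.NPerm.neg_lt hp.inList hs) ?_ j
      rw [vec_neg hp hs, vec_simple hp, (h3 i hi).2]
    have h4 := Int.le_of_dvd (by norm_num) key
    have h5 : (3 : ℤ) < Fintype.card K := by exact_mod_cast hq
    omega

end Untw

/-! ### `F₄` -/

/-- the table for `F₄` -/
def tabF4 : Fin 4 → Fin 4 → ℤ := ![![0, 1, 0, 0], ![1, 0, 0, 0], ![0, 0, 0, 1], ![0, 0, 1, 0]]

theorem tabF4_ok : ∀ i : Fin 4, (∑ j : Fin 4, tabF4 i j *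
    (chevF4.cartan j (chevF4.neg (chevF4.simple i)) - chevF4.cartan j (chevF4.simple i))) = 2 := by decide +kernel

/-- some vectors of short roots -/
theorem short_F4 : ∀ v : Fin 4 → ℤ, v ∈ ([![1, 0, 0, 0], ![0, 1, 0, 0], ![1, 1, 0, 0], ![0, 1, 1, 0], ![1, 1, 1, 0],
    ![0, 1, 1, 1], ![1, 1, 1, 1]] : List (Fin 4 → ℤ)) → ∃ r < 48, vec chevF4 4 r = v ∧ ∀ s < 48,
    (∀ j < 4, (chevF4.cartan j s - chevF4.cartan j r) % 2 = 0) → s = r ∨ s = chevF4.neg r := by
  have key : ∀ v ∈ ([![1, 0, 0, 0], ![0, 1, 0, 0], ![1, 1, 0, 0], ![0, 1, 1, 0], ![1, 1, 1, 0],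
    ![0, 1, 1, 1], ![1, 1, 1, 1]] : List (Fin 4 → ℤ)), ∃ r < 48, vec chevF4 4 r = v ∧ ∀ s < 48,
    (∀ j < 4, (chevF4.cartan j s - chevF4.cartan j r) % 2 = 0) → s = r ∨ s = chevF4.neg r := by decide +kernel
  exact fun v hv => key v hv

section F4

variable (hp : IsType chevF4 4 CoxeterMatrix.F₄) {K : Type u} [Field K]
  [Fintype K] {W : Type*} [Group W] [Finite W] {cs : CoxeterSystem CoxeterMatrix.F₄ W} {p : ℕ} [Fact p.Prime]
  [CharP K p]
  (hgen : B cs hp.isCartan ((chevF4.diagonalSubgroup K).subgroupOf (chevF4.group K))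
      (fun x => (XV chevF4 4 K x).subgroupOf (chevF4.group K)) ⊔ NN cs (_root_.Cfsg.Agent.Nodes.RGDChev.rgd (K := K) hp cs p).nsys = ⊤)
  [hN : ((((_root_.Cfsg.Agent.Nodes.RGDChev.rgd (K := K) hp cs p).bnPair hgen).B ⊓ ((_root_.Cfsg.Agent.Nodes.RGDChev.rgd (K := K) hp cs p).bnPair hgen).N).subgroupOf
    ((_root_.Cfsg.Agent.Nodes.RGDChev.rgd (K := K) hp cs p).bnPair hgen).N).Normal]
  (cs' : CoxeterSystem CoxeterMatrix.F₄ (WP ((_root_.Cfsg.Agent.Nodes.RGDChev.rgd (K := K) hp cs p).bnPair hgen)))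
  (hcs : ∀ i, cs'.simple i = QuotientGroup.mk
    (⟨(eS (_root_.Cfsg.Agent.Nodes.RGDChev.rgd (K := K) hp cs p) hgen i : ↥(chevF4.group K)), ((_root_.Cfsg.Agent.Nodes.RGDChev.rgd (K := K) hp cs p).bnPair hgen).subset
      (eS (_root_.Cfsg.Agent.Nodes.RGDChev.rgd (K := K) hp cs p) hgen i).2⟩ : ((_root_.Cfsg.Agent.Nodes.RGDChev.rgd (K := K) hp cs p).bnPair hgen).N))
  (hcore : (B cs hp.isCartan ((chevF4.diagonalSubgroup K).subgroupOf (chevF4.group K))
      (fun x => (XV chevF4 4 K x).subgroupOf (chevF4.group K))).normalCore = ⊥)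

include hcore in
/-- `F₄(q)`, `q ≥ 3` -/
theorem dis_F4 (hq : 3 ≤ Fintype.card K) {a b : ↥(chevF4.group K)} (hab : _root_.Cfsg.Agent.H197.Cls.Good p a b) {w : W}
    (hw : fw cs cs' w ∈ (Dis (Bl (_root_.Cfsg.Agent.Nodes.RGDChev.rgd (K := K) hp cs p) hgen cs' hcs) a b :)) : w = 1 ∨ w = w0 cs := by
  rcases hq.lt_or_eq with hq | hq
  · left
    exact eq_one_of_tab hp hgen cs' hcs hcore tabF4 tabF4_ok hq hab hw
  have hpm : ∀ v : Fin 4 → ℤ, v ∈ ([![1, 0, 0, 0], ![0, 1, 0, 0], ![1, 1, 0, 0], ![0, 1, 1, 0], ![1, 1, 1, 0],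
      ![0, 1, 1, 1], ![1, 1, 1, 1]] : List (Fin 4 → ℤ)) → ∃ e : ℤ, (e = 1 ∨ e = -1) ∧
        rep cs hp.isCartan w v = e • v := by
    intro v hv
    obtain ⟨r, hr, hrv, hr2⟩ := short_F4 v hv
    have hr' : r < chevF4.nroots := hr
    obtain ⟨s, hs, hsv⟩ := (isRoot_iff hp cs _).1 ((isRoot_vec hp cs hr').act w)
    have h1 := hr2 s hs (fun j hj => by
      have h2 := cartan_dvd hp hgen cs' hcs hcore hab hw hr' hs hsv ⟨j, hj⟩
      rw [← hq] at h2
      exact Int.emod_eq_zero_of_dvd h2)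
    rcases h1 with rfl | rfl
    · exact ⟨1, Or.inl rfl, by rw [← hrv, ← hsv, one_smul]⟩
    · exact ⟨-1, Or.inr rfl, by rw [← hrv, ← hsv, vec_neg hp hr', neg_smul, one_smul]⟩
  obtain ⟨e0, he0, h0⟩ := hpm ![1, 0, 0, 0] (by simp)
  obtain ⟨e1, he1, h1⟩ := hpm ![0, 1, 0, 0] (by simp)
  obtain ⟨e2, he2, h2⟩ := hpm ![1, 1, 0, 0] (by simp)
  obtain ⟨e3, he3, h3⟩ := hpm ![0, 1, 1, 0] (by simp)
  obtain ⟨e4, he4, h4⟩ := hpm ![1, 1, 1, 0] (by simp)
  obtain ⟨e5, he5, h5⟩ := hpm ![0, 1, 1, 1] (by simp)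
  obtain ⟨e6, he6, h6⟩ := hpm ![1, 1, 1, 1] (by simp)
  have a2 : (![1, 1, 0, 0] : Fin 4 → ℤ) = ![1, 0, 0, 0] + ![0, 1, 0, 0] := by decide
  have a4 : (![1, 1, 1, 0] : Fin 4 → ℤ) = ![1, 0, 0, 0] + ![0, 1, 1, 0] := by decide
  have a6 : (![1, 1, 1, 1] : Fin 4 → ℤ) = ![1, 0, 0, 0] + ![0, 1, 1, 1] := by decide
  have a3 : (![0, 1, 1, 0] : Fin 4 → ℤ) = ![0, 1, 0, 0] + ![0, 0, 1, 0] := by decide
  have a5 : (![0, 1, 1, 1] : Fin 4 → ℤ) = ![0, 1, 1, 0] + ![0, 0, 0, 1] := by decide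
  have b2 : e2 • (![1, 1, 0, 0] : Fin 4 → ℤ) = e0 • ![1, 0, 0, 0] + e1 • ![0, 1, 0, 0] := by
    rw [← h2, ← h0, ← h1, ← map_add, ← a2]
  have b4 : e4 • (![1, 1, 1, 0] : Fin 4 → ℤ) = e0 • ![1, 0, 0, 0] + e3 • ![0, 1, 1, 0] := by
    rw [← h4, ← h0, ← h3, ← map_add, ← a4]
  have b6 : e6 • (![1, 1, 1, 1] : Fin 4 → ℤ) = e0 • ![1, 0, 0, 0] + e5 • ![0, 1, 1, 1] := by
    rw [← h6, ← h0, ← h5, ← map_add, ← a6]
  have c20 := congrFun b2 0
  have c21 := congrFun b2 1
  have c40 := congrFun b4 0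
  have c41 := congrFun b4 1
  have c60 := congrFun b6 0
  have c61 := congrFun b6 1
  simp at c20 c21 c40 c41 c60 c61
  have f1 : e1 = e0 := by rw [← c21, c20]
  have f3 : e3 = e0 := by rw [← c41, c40]
  have f5 : e5 = e0 := by rw [← c61, c60]
  subst f1 f3 f5
  have k2 : rep cs hp.isCartan w ![0, 0, 1, 0] = e5 • ![0, 0, 1, 0] := by
    have h7 : rep cs hp.isCartan w ![0, 1, 1, 0] = rep cs hp.isCartan w ![0, 1, 0, 0] +
        rep cs hp.isCartan w ![0, 0, 1, 0] := by rw [← map_add, ← a3]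
    rw [h3, h1, a3, smul_add] at h7
    exact (add_left_cancel h7).symm
  have k3 : rep cs hp.isCartan w ![0, 0, 0, 1] = e5 • ![0, 0, 0, 1] := by
    have h7 : rep cs hp.isCartan w ![0, 1, 1, 1] = rep cs hp.isCartan w ![0, 1, 1, 0] +
        rep cs hp.isCartan w ![0, 0, 0, 1] := by rw [← map_add, ← a5]
    rw [h5, h3, a5, smul_add] at h7
    exact (add_left_cancel h7).symm
  have s0 : (sr 0 : Fin 4 → ℤ) = ![1, 0, 0, 0] := by decide
  have s1 : (sr 1 : Fin 4 → ℤ) = ![0, 1, 0, 0] := by decide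
  have s2 : (sr 2 : Fin 4 → ℤ) = ![0, 0, 1, 0] := by decide
  have s3 : (sr 3 : Fin 4 → ℤ) = ![0, 0, 0, 1] := by decide
  have hall : ∀ i : Fin 4, rep cs hp.isCartan w (sr i) = e5 • sr i := by
    intro i
    fin_cases i
    · show rep cs hp.isCartan w (sr 0) = e5 • sr 0
      rw [s0, h0]
    · show rep cs hp.isCartan w (sr 1) = e5 • sr 1
      rw [s1, h1]
    · show rep cs hp.isCartan w (sr 2) = e5 • sr 2
      rw [s2, k2]
    · show rep cs hp.isCartan w (sr 3) = e5 • sr 3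
      rw [s3, k3]
  rcases he5 with rfl | rfl
  · left
    exact eq_one_of_pos (h := hp.isCartan) fun i => by rw [hall, one_smul]
  · right
    exact eq_w0_of_neg (h := hp.isCartan) fun i => by rw [hall, neg_smul, one_smul]

end F4

/-! ### `G₂` -/

/-- the table for `G₂` -/
def tabG2 : Fin 2 → Fin 2 → ℤ := ![![0, 1], ![1, 1]]

theorem tabG2_ok : ∀ i : Fin 2, (∑ j : Fin 2, tabG2 i j *
    (chevG2.cartan j (chevG2.neg (chevG2.simple i)) - chevG2.cartan j (chevG2.simple i))) = 2 := by decide +kernel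

theorem cartan_G2 : cartanOf chevG2 2 0 0 = 2 ∧ cartanOf chevG2 2 0 1 = -3 ∧ cartanOf chevG2 2 1 0 = -1 ∧
    cartanOf chevG2 2 1 1 = 2 := by decide +kernel

theorem tabG2_odd : (∃ r < 12, vec chevG2 2 r = ![3, 1] ∧
    ¬ (2 : ℤ) ∣ chevG2.cartan 1 r - chevG2.cartan 1 (chevG2.simple 1)) ∧
    (∃ r < 12, vec chevG2 2 r = ![1, 1] ∧
    ¬ (2 : ℤ) ∣ chevG2.cartan 0 r - chevG2.cartan 0 (chevG2.simple 0)) := by decide +kernel

section G2

variable (hp : IsType chevG2 2 CoxeterMatrix.G₂) {K : Type u} [Field K]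
  [Fintype K] {W : Type*} [Group W] [Finite W] {cs : CoxeterSystem CoxeterMatrix.G₂ W} {p : ℕ} [Fact p.Prime]
  [CharP K p]
  (hgen : B cs hp.isCartan ((chevG2.diagonalSubgroup K).subgroupOf (chevG2.group K))
      (fun x => (XV chevG2 2 K x).subgroupOf (chevG2.group K)) ⊔ NN cs (_root_.Cfsg.Agent.Nodes.RGDChev.rgd (K := K) hp cs p).nsys = ⊤)
  [hN : ((((_root_.Cfsg.Agent.Nodes.RGDChev.rgd (K := K) hp cs p).bnPair hgen).B ⊓ ((_root_.Cfsg.Agent.Nodes.RGDChev.rgd (K := K) hp cs p).bnPair hgen).N).subgroupOf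
    ((_root_.Cfsg.Agent.Nodes.RGDChev.rgd (K := K) hp cs p).bnPair hgen).N).Normal]
  (cs' : CoxeterSystem CoxeterMatrix.G₂ (WP ((_root_.Cfsg.Agent.Nodes.RGDChev.rgd (K := K) hp cs p).bnPair hgen)))
  (hcs : ∀ i, cs'.simple i = QuotientGroup.mk
    (⟨(eS (_root_.Cfsg.Agent.Nodes.RGDChev.rgd (K := K) hp cs p) hgen i : ↥(chevG2.group K)), ((_root_.Cfsg.Agent.Nodes.RGDChev.rgd (K := K) hp cs p).bnPair hgen).subset
      (eS (_root_.Cfsg.Agent.Nodes.RGDChev.rgd (K := K) hp cs p) hgen i).2⟩ : ((_root_.Cfsg.Agent.Nodes.RGDChev.rgd (K := K) hp cs p).bnPair hgen).N))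
  (hcore : (B cs hp.isCartan ((chevG2.diagonalSubgroup K).subgroupOf (chevG2.group K))
      (fun x => (XV chevG2 2 K x).subgroupOf (chevG2.group K))).normalCore = ⊥)

include hcore in
/-- `G₂(q)`, `q ≥ 3` -/
theorem dis_G2 (hq : 3 ≤ Fintype.card K) {a b : ↥(chevG2.group K)} (hab : _root_.Cfsg.Agent.H197.Cls.Good p a b) {w : W}
    (hw : fw cs cs' w ∈ (Dis (Bl (_root_.Cfsg.Agent.Nodes.RGDChev.rgd (K := K) hp cs p) hgen cs' hcs) a b :)) : w = 1 ∨ w = w0 cs := by
  rcases hq.lt_or_eq with hq | hq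
  · left
    exact eq_one_of_tab hp hgen cs' hcs hcore tabG2 tabG2_ok hq hab hw
  have F : Cox cs := inferInstance
  obtain ⟨u, J, h1, h2, h3⟩ := exists_J (_root_.Cfsg.Agent.Nodes.RGDChev.rgd (K := K) hp cs p) hgen cs' hcs hcore hab hw
  obtain ⟨c00, c01, c10, c11⟩ := cartan_G2
  have hdvd : ∀ (s s' : ℕ), s < 12 → s' < 12 → vec chevG2 2 s' = rep cs hp.isCartan (wJ cs J) (vec chevG2 2 s) →
      ∀ j : Fin 2, (2 : ℤ) ∣ chevG2.cartan j s' - chevG2.cartan j s := by
    intro s s' hs hs' hss j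
    have h4 := cartan_dvd hp hgen cs' hcs hcore hab h2 hs hs' hss j
    rw [← hq] at h4
    exact h4
  obtain ⟨⟨r, hr, hrv, hr2⟩, ⟨r', hr', hrv', hr2'⟩⟩ := tabG2_odd
  have hpr : ∀ (i : Fin 2) (x : Fin 2 → ℤ), pairing (cartanOf chevG2 2) i x =
      cartanOf chevG2 2 i 0 * x 0 + cartanOf chevG2 2 i 1 * x 1 := by
    intro i x
    unfold pairing
    rw [Fin.sum_univ_two]
  have hs0 : chevG2.simple 0 < 12 := _root_.Cfsg.Agent.ChevalleyStructure.NPerm.simple_lt hp.inList (lt_rank hp (0 : Fin 2))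
  have hs1 : chevG2.simple 1 < 12 := _root_.Cfsg.Agent.ChevalleyStructure.NPerm.simple_lt hp.inList (lt_rank hp (1 : Fin 2))
  have v0 : vec chevG2 2 (chevG2.simple 0) = sr 0 := vec_simple hp (0 : Fin 2)
  have v1 : vec chevG2 2 (chevG2.simple 1) = sr 1 := vec_simple hp (1 : Fin 2)
  have w01 : (sr 0 : Fin 2 → ℤ) 1 = 0 := by decide
  have w10 : (sr 1 : Fin 2 → ℤ) 0 = 0 := by decide
  by_cases h0 : (0 : Fin 2) ∈ J
  · by_cases h1' : (1 : Fin 2) ∈ J
    · -- `J` is everything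
      right
      have hJ : J = Set.univ := by
        ext i
        fin_cases i
        · exact ⟨fun _ => trivial, fun _ => h0⟩
        · exact ⟨fun _ => trivial, fun _ => h1'⟩
      subst hJ
      have h5 := comm_all (cs := cs) (w := wJ cs Set.univ) (fun i => (h3 i (Set.mem_univ i)).1) u
      have h6 : w = u⁻¹ * (wJ cs Set.univ * u) := by rw [← h1]; group
      rw [h6, ← h5, inv_mul_cancel_left]
      rfl
    · exfalso
      set y := rep cs hp.isCartan (wJ cs J) (sr 1) with hy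
      have e1 : y 1 = 1 := by
        rw [hy, rep_off (h := hp.isCartan) (F.wJ_mem J) _ h1', sr_self]
      have e2 := pairing_neg (h := hp.isCartan) (h3 0 h0).1 (h3 0 h0).2 (sr 1)
      rw [hpr, hpr, c00, c01, w10, sr_self] at e2
      have e3 : y 0 = 3 := by
        change 2 * y 0 + -3 * y 1 = _ at e2
        rw [e1] at e2
        omega
      have e4 : y = ![3, 1] := by
        funext i
        fin_cases i
        · exact e3
        · exact e1
      refine hr2 (hdvd _ r hs1 hr ?_ 1)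
      rw [hrv, v1, ← e4]
  · by_cases h1' : (1 : Fin 2) ∈ J
    · exfalso
      set y := rep cs hp.isCartan (wJ cs J) (sr 0) with hy
      have e1 : y 0 = 1 := by
        rw [hy, rep_off (h := hp.isCartan) (F.wJ_mem J) _ h0, sr_self]
      have e2 := pairing_neg (h := hp.isCartan) (h3 1 h1').1 (h3 1 h1').2 (sr 0)
      rw [hpr, hpr, c10, c11, w01, sr_self] at e2
      have e3 : y 1 = 1 := by
        change -1 * y 0 + 2 * y 1 = _ at e2
        rw [e1] at e2
        omega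
      have e4 : y = ![1, 1] := by
        funext i
        fin_cases i
        · exact e1
        · exact e3
      refine hr2' (hdvd _ r' hs0 hr' ?_ 0)
      rw [hrv', v0, ← e4]
    · left
      have hJ : J = ∅ := by
        ext i
        fin_cases i
        · exact ⟨fun h => absurd h h0, fun h => h.elim⟩
        · exact ⟨fun h => absurd h h1', fun h => h.elim⟩
      subst hJ
      exact eq_one_of_conj_wJ_empty h1

end G2

end Cfsg.Agent.H82.AH
end
end

-- part: H82/AH/DisD4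
section
prune_inst 0x10007104540002000000000020002020740000900060000090000a40034ab1428000090004a0090210202a0020000000000004700020000000000000002406090020000280080100000008002004000000000000000000000000000000041000200400000
set_option linter.all false
open scoped Cfsg.Agent.FastGrp

-- part: H82/AH/DisTw
section
/-!
# S2451 (helper82): the common displacements for `²E₆(q)`

* `fold_chi` : comparison of the characters in a folded group;
* `dis_E6` : `²E₆(q)`, `q ≥ 3`: `Dis ⊆ {1}`.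
-/

set_option autoImplicit false
set_option linter.unusedSectionVars false

open scoped Pointwise

namespace Cfsg.Agent.H82.AH

open CoxeterSystem Cfsg.Agent.ChevalleyStructure.CoxeterGeom Cfsg.Agent.Tits.Roots Cfsg.Agent.Tits.Core
  Cfsg.Agent.Tits.RootComb Cfsg.Agent.Nodes.Comb Cfsg.Agent.Nodes.Reps Cfsg.Agent.Nodes.BNOf Cfsg.Agent.Nodes.BNOf.RGD
  Cfsg.Agent.FixBN Cfsg.Agent.Tits.OfBN Cfsg.Agent.Tits.OppRes Cfsg.Agent.LieExceptional.BNPairCore
  Cfsg.Agent.OddHalf.Table.AutBldg Cfsg.Agent.OddHalf.Table.AutRGD Cfsg.Agent.OddHalf.Table.AutNorm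
  Cfsg.Agent.Tits Cfsg.Agent.Nodes.RGDLib Cfsg.Agent.UGT.U2.FOne
open Cfsg.Agent.Tits.Core.Bldg Cfsg.Agent.H197.Cls
open Cfsg.Lie Cfsg.Agent.ChevalleyStructure Cfsg.Agent.ChevalleyStructure.Elts
  Cfsg.Agent.ChevalleyStructure.RootVec Cfsg.Agent.ChevalleyStructure.RootVecTab
  Cfsg.Agent.ChevalleyStructure.NPerm Cfsg.Agent.ChevalleyStructure.CoxeterGeomTypes
  Cfsg.Agent.Nodes.RGDChev Cfsg.Agent.Nodes.RGDFold Cfsg.Agent.Nodes

universe u

section Fold

variable {D : ChevalleyDatum} {l m : ℕ} {M' : CoxeterMatrix (Fin l)} {hp : IsType D l M'} {K : Type u} [Field K]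
  [Fintype K] {M : CoxeterMatrix (Fin m)} {A : Fin m → Fin m → ℤ} {J : Fin m → List (Fin l)} {L : List (List ℕ)}
  {σ : GL D.Idx K →* GL D.Idx K} {ρ ρ' : ℕ → ℕ} {f : ℕ → K → K} {G : Subgroup (GL D.Idx K)}
  {W : Type*} [Group W] [Finite W] {cs : CoxeterSystem M W} {h : IsCartan M A}
  (FD : FoldData D M A J L) (FG : FoldGrp hp K J L σ ρ ρ' f G) {p : ℕ} [Fact p.Prime] [CharP K p]

theorem wp_append (o o' : List (Fin l)) (s : ℕ) : wp D (o ++ o') s = wp D o (wp D o' s) := by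
  induction o with
  | nil => rfl
  | cons j o ih =>
    change D.reflectRoot j (wp D (o ++ o') s) = D.reflectRoot j (wp D o (wp D o' s))
    rw [ih]

include hp in
omit [Fintype K] [Finite W] [Fact p.Prime] [CharP K p] in
theorem V_wp (cs : CoxeterSystem M W) (h : IsCartan M A) (FD : FoldData D M A J L) (ω : List (Fin m)) {s : ℕ}
    (hs : s < D.nroots) : V D J (wp D (ω.flatMap J) s) = rep cs h (cs.wordProd ω) (V D J s) := by
  induction ω with
  | nil => rw [wordProd_nil, map_one, Module.End.one_apply]; rfl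
  | cons i ω ih =>
    rw [List.flatMap_cons, wp_append, FD.wp_V _ (wp_lt hp _ hs), wordProd_cons, rep_mul_apply, ← ih, rep_refl]

theorem nI_append (o o' : List (Fin l)) : nI hp K (o ++ o') = nI hp K o * nI hp K o' := by
  unfold nI
  rw [List.map_append, List.prod_append]

theorem prod_nI (ω : List (Fin m)) : (ω.map fun i => nI hp K (J i)).prod = nI hp K (ω.flatMap J) := by
  induction ω with
  | nil => rfl
  | cons i ω ih => rw [List.map_cons, List.prod_cons, ih, List.flatMap_cons, nI_append]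

variable (hgen : B cs h ((D.diagonalSubgroup K ⊓ G).subgroupOf G)
      (fun z => (RGDFold.R D hp K J σ z).subgroupOf G) ⊔ NN cs (RGDFold.rgd cs h FD FG p).nsys = ⊤)
  [hN : ((((RGDFold.rgd cs h FD FG p).bnPair hgen).B ⊓ ((RGDFold.rgd cs h FD FG p).bnPair hgen).N).subgroupOf
    ((RGDFold.rgd cs h FD FG p).bnPair hgen).N).Normal]
  (cs' : CoxeterSystem M (WP ((RGDFold.rgd cs h FD FG p).bnPair hgen)))
  (hcs : ∀ i, cs'.simple i = QuotientGroup.mk
    (⟨(eS (RGDFold.rgd cs h FD FG p) hgen i : ↥G), ((RGDFold.rgd cs h FD FG p).bnPair hgen).subset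
      (eS (RGDFold.rgd cs h FD FG p) hgen i).2⟩ : ((RGDFold.rgd cs h FD FG p).bnPair hgen).N))
  (hcore : (B cs h ((D.diagonalSubgroup K ⊓ G).subgroupOf G)
      (fun z => (RGDFold.R D hp K J σ z).subgroupOf G)).normalCore = ⊥)

include hcore in
/-- **folded groups** -/
theorem fold_chi {a b : ↥G} (hab : _root_.Cfsg.Agent.H197.Cls.Good p a b) {w : W}
    (hw : fw cs cs' w ∈ (Dis (Bl (RGDFold.rgd cs h FD FG p) hgen cs' hcs) a b :)) {s : ℕ} (hs : s < D.nroots) :
    ∃ s' < D.nroots, V D J s' = rep cs h w (V D J s) ∧ ∀ (t : GL D.Idx K), t ∈ D.diagonalSubgroup K → t ∈ G →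
      ∀ χ : ℕ → K, (∀ s < D.nroots, ∀ c : K, t * xG hp.inList s c * t⁻¹ = xG hp.inList s (χ s * c)) →
        χ s' = χ s := by
  have hW : Finite (WP ((RGDFold.rgd cs h FD FG p).bnPair hgen)) := Finite.of_equiv W (fw cs cs').toEquiv
  have F' : Cox cs' := inferInstance
  obtain ⟨ω, rfl⟩ := cs.wordProd_surjective w
  refine ⟨wp D (ω.flatMap J) s, wp_lt hp _ hs, V_wp (hp := hp) cs h FD ω hs, fun t htd htG χ hχ => ?_⟩
  have hT : ∀ s ∈ (D.diagonalSubgroup K ⊓ G).subgroupOf G, ∀ t ∈ (D.diagonalSubgroup K ⊓ G).subgroupOf G,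
      s * t = t * s := fun s hs t ht =>
    Subtype.ext (OddHalf.Small.ChevCent.diag_comm hp.inList (Subgroup.mem_subgroupOf.1 hs).1
      (Subgroup.mem_subgroupOf.1 ht).1)
  have h1 := comm_of_mem_dis (RGDFold.rgd cs h FD FG p) hgen cs' hcs hcore hT hab
    (rp_word (RGDFold.rgd cs h FD FG p).nsys ω) hw (t := ⟨t, htG⟩) (Subgroup.mem_subgroupOf.2 ⟨htd, htG⟩)
  have h2 : ((((ω.map fun i => (⟨nI hp K (J i), FG.nG i⟩ : ↥G)).prod : ↥G)) : GL D.Idx K) =
      nI hp K (ω.flatMap J) := by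
    rw [← prod_nI, SubmonoidClass.coe_list_prod, List.map_map]
    rfl
  have h3 := congrArg (Subtype.val) h1
  have h4 : (nI hp K (ω.flatMap J))⁻¹ * t * nI hp K (ω.flatMap J) = t := by
    rw [← h2]
    exact h3
  exact chi_eq hp _ hχ h4 hs

end Fold

/-- the characters of a product -/
theorem chi_mul {D : ChevalleyDatum} (hD : InList D) {K : Type u} [Field K] {t t' : GL D.Idx K} {χ χ' : ℕ → K}
    (h : ∀ s < D.nroots, ∀ c : K, t * xG hD s c * t⁻¹ = xG hD s (χ s * c))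
    (h' : ∀ s < D.nroots, ∀ c : K, t' * xG hD s c * t'⁻¹ = xG hD s (χ' s * c)) :
    ∀ s < D.nroots, ∀ c : K, (t * t') * xG hD s c * (t * t')⁻¹ = xG hD s ((χ s * χ' s) * c) := by
  intro s hs c
  have e : (t * t') * xG hD s c * (t * t')⁻¹ = t * (t' * xG hD s c * t'⁻¹) * t⁻¹ := by group
  rw [e, h' s hs, h s hs, mul_assoc]

/-- linear algebra in a Cartan matrix of type `F₄` -/
theorem sum4 (A : Fin 4 → Fin 4 → ℤ) (i : Fin 4) (x : Fin 4 → ℤ) :
    pairing A i x = A i 0 * x 0 + A i 1 * x 1 + A i 2 * x 2 + A i 3 * x 3 := by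
  unfold pairing
  rw [Fin.sum_univ_four]

/-! ### `²E₆(q)` -/

section Six

open Cfsg.Agent.ChevalleyStructure.TwE6Basic (hE6 sg)
open Cfsg.Agent.ChevalleyStructure.TwE6BN (PairOK SingleOK single0 single1 pair2 pair3)

variable {K : Type u} [Field K] {q : ℕ} {φ : K →+* K} (hφ : ∀ t, φ t = t ^ q)

include hφ in
theorem hG_single {i : Fin 4} {j : ℕ} (C : SingleOK.{u} i j) {c : K} (hc : c ^ q = c) :
    hG hE6 j c ∈ twistedE6 K q := by
  have key : ∀ c : K, c ^ q = c → nG hE6 j c ∈ twistedE6 K q := by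
    intro c hc
    rw [nG_def]
    have h1 := C.pos_mem_G (q := q) hc
    have h2 := C.neg_mem_G (q := q) (t := -c⁻¹) (by rw [← hφ, map_neg, map_inv₀, hφ, hc])
    exact mul_mem h1 (mul_mem h2 h1)
  rw [hG_def]
  exact mul_mem (key c hc) (key (-1) (by rw [← hφ, map_neg, map_one]))

theorem nG_pair {i : Fin 4} {j j' : ℕ} (C : PairOK.{u} i j j') (a b : K) :
    nG hE6 j a * nG hE6 j' b = (xG hE6 j a * xG hE6 j' b) *
      (xG hE6 (chevE6.neg j) (-a⁻¹) * xG hE6 (chevE6.neg j') (-b⁻¹)) * (xG hE6 j a * xG hE6 j' b) := by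
  rw [nG_def, nG_def]
  have h1 : xG hE6 j a * xG hE6 j' b = xG hE6 j' b * xG hE6 j a := (C.comm1 a b).symm
  have h2 : xG hE6 j a * xG hE6 (chevE6.neg j') (-b⁻¹) = xG hE6 (chevE6.neg j') (-b⁻¹) * xG hE6 j a :=
    (C.comm2 a (-b⁻¹)).symm
  have h3 : xG hE6 (chevE6.neg j) (-a⁻¹) * xG hE6 j' b = xG hE6 j' b * xG hE6 (chevE6.neg j) (-a⁻¹) :=
    (C.comm3 (-a⁻¹) b).symm
  calc xG hE6 j a * (xG hE6 (chevE6.neg j) (-a⁻¹) * xG hE6 j a) *
        (xG hE6 j' b * (xG hE6 (chevE6.neg j') (-b⁻¹) * xG hE6 j' b))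
      = xG hE6 j a * xG hE6 (chevE6.neg j) (-a⁻¹) * (xG hE6 j a * xG hE6 j' b) *
          xG hE6 (chevE6.neg j') (-b⁻¹) * xG hE6 j' b := by group
    _ = xG hE6 j a * xG hE6 (chevE6.neg j) (-a⁻¹) * (xG hE6 j' b * xG hE6 j a) *
          xG hE6 (chevE6.neg j') (-b⁻¹) * xG hE6 j' b := by rw [h1]
    _ = xG hE6 j a * (xG hE6 (chevE6.neg j) (-a⁻¹) * xG hE6 j' b) *
          (xG hE6 j a * xG hE6 (chevE6.neg j') (-b⁻¹)) * xG hE6 j' b := by group
    _ = xG hE6 j a * (xG hE6 j' b * xG hE6 (chevE6.neg j) (-a⁻¹)) *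
          (xG hE6 (chevE6.neg j') (-b⁻¹) * xG hE6 j a) * xG hE6 j' b := by rw [h2, h3]
    _ = _ := by group

include hφ in
theorem hG_pair {i : Fin 4} {j j' : ℕ} (C : PairOK.{u} i j j') (c : K) :
    hG hE6 j c * hG hE6 j' (c ^ q) ∈ twistedE6 K q := by
  have key : ∀ c : K, nG hE6 j c * nG hE6 j' (c ^ q) ∈ twistedE6 K q := by
    intro c
    rw [nG_pair C]
    have h1 := C.pos_mem_G (q := q) c
    have h2 := C.neg_mem_G (q := q) (-c⁻¹)
    have h3 : (-c⁻¹) ^ q = -(c ^ q)⁻¹ := by rw [← hφ, map_neg, map_inv₀, hφ]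
    rw [h3] at h2
    exact mul_mem (mul_mem h1 h2) h1
  have h1 : hG hE6 j c * hG hE6 j' (c ^ q) = (nG hE6 j c * nG hE6 j' (c ^ q)) *
      (nG hE6 j (-1) * nG hE6 j' ((-1) ^ q)) := by
    rw [hG_def, hG_def]
    have h2 : nG hE6 j' (c ^ q) * nG hE6 j (-1) = nG hE6 j (-1) * nG hE6 j' (c ^ q) := (C.commN (-1) (c ^ q)).eq
    have h3 : (-1 : K) ^ q = -1 := by rw [← hφ, map_neg, map_one]
    rw [h3]
    calc nG hE6 j c * nG hE6 j (-1) * (nG hE6 j' (c ^ q) * nG hE6 j' (-1))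
        = nG hE6 j c * (nG hE6 j (-1) * nG hE6 j' (c ^ q)) * nG hE6 j' (-1) := by group
      _ = nG hE6 j c * (nG hE6 j' (c ^ q) * nG hE6 j (-1)) * nG hE6 j' (-1) := by rw [h2]
      _ = _ := by group
  rw [h1]
  exact mul_mem (key c) (key (-1))

theorem simple_E6 : chevE6.simple 0 = 56 ∧ chevE6.simple 1 = 46 ∧ chevE6.simple 2 = 42 ∧ chevE6.simple 3 = 39 ∧
    chevE6.simple 4 = 37 ∧ chevE6.simple 5 = 36 := by decide +kernel

/-- the table of the short roots -/
theorem tab_short : (∀ s' ∈ TwE6Basic.negE 2, (chevE6.cartan 0 s' = 1 ∧ chevE6.cartan 5 s' = 0) ∨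
      (chevE6.cartan 0 s' = 0 ∧ chevE6.cartan 5 s' = 1)) ∧
    (chevE6.cartan 0 42 = -1 ∧ chevE6.cartan 5 42 = 0) ∧
    (∀ s' ∈ TwE6Basic.negE 3, (chevE6.cartan 2 s' = 1 ∧ chevE6.cartan 4 s' = 0) ∨
      (chevE6.cartan 2 s' = 0 ∧ chevE6.cartan 4 s' = 1)) ∧
    (chevE6.cartan 2 56 = -1 ∧ chevE6.cartan 4 56 = 0) := by decide +kernel

/-- the table of the long roots -/
theorem tab_long : (∀ s < 72, V chevE6 RGDTwE6.J s = ![1, 1, 0, 0] → chevE6.cartan 1 s = 1 ∧ chevE6.cartan 3 s = 1) ∧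
    chevE6.cartan 1 46 = 2 ∧ chevE6.cartan 3 39 = 2 ∧ V chevE6 RGDTwE6.J 42 = sr 2 ∧ V chevE6 RGDTwE6.J 56 = sr 3 ∧
    V chevE6 RGDTwE6.J 46 = sr 0 ∧ V chevE6 RGDTwE6.J 39 = sr 1 := by decide +kernel

theorem chk : RGDTwE6.A 0 0 = 2 ∧ RGDTwE6.A 0 1 = -1 ∧ RGDTwE6.A 0 2 = 0 ∧ RGDTwE6.A 0 3 = 0 ∧
    RGDTwE6.A 1 0 = -1 ∧ RGDTwE6.A 1 1 = 2 ∧ RGDTwE6.A 1 2 = -1 ∧ RGDTwE6.A 1 3 = 0 := by decide +kernel

theorem sr4 : (sr 0 : Fin 4 → ℤ) = ![1, 0, 0, 0] ∧ (sr 1 : Fin 4 → ℤ) = ![0, 1, 0, 0] ∧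
    (sr 2 : Fin 4 → ℤ) = ![0, 0, 1, 0] ∧ (sr 3 : Fin 4 → ℤ) = ![0, 0, 0, 1] := by decide

variable [Fintype K] (hqq : ∀ t : K, (t ^ q) ^ q = t)
  {W : Type*} [Group W] [Finite W] {cs : CoxeterSystem CoxeterMatrix.F₄ W} {p : ℕ} [Fact p.Prime] [CharP K p]
  (hgen : B cs RGDTwE6.isCartan ((chevE6.diagonalSubgroup K ⊓ twistedE6 K q).subgroupOf (twistedE6 K q))
      (fun z => (RGDFold.R chevE6 RGDTwE6.hp K RGDTwE6.J (_root_.Cfsg.Agent.ChevalleyStructure.TwE6Basic.sg φ) z).subgroupOf (twistedE6 K q)) ⊔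
      NN cs (RGDFold.rgd cs RGDTwE6.isCartan RGDTwE6.foldData (RGDTwE6.foldGrp hφ hqq) p).nsys = ⊤)
  [hN : ((((RGDFold.rgd cs RGDTwE6.isCartan RGDTwE6.foldData (RGDTwE6.foldGrp hφ hqq) p).bnPair hgen).B ⊓
    ((RGDFold.rgd cs RGDTwE6.isCartan RGDTwE6.foldData (RGDTwE6.foldGrp hφ hqq) p).bnPair hgen).N).subgroupOf
    ((RGDFold.rgd cs RGDTwE6.isCartan RGDTwE6.foldData (RGDTwE6.foldGrp hφ hqq) p).bnPair hgen).N).Normal]
  (cs' : CoxeterSystem CoxeterMatrix.F₄
    (WP ((RGDFold.rgd cs RGDTwE6.isCartan RGDTwE6.foldData (RGDTwE6.foldGrp hφ hqq) p).bnPair hgen)))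
  (hcs : ∀ i, cs'.simple i = QuotientGroup.mk
    (⟨(eS (RGDFold.rgd cs RGDTwE6.isCartan RGDTwE6.foldData (RGDTwE6.foldGrp hφ hqq) p) hgen i :
      ↥(twistedE6 K q)),
      ((RGDFold.rgd cs RGDTwE6.isCartan RGDTwE6.foldData (RGDTwE6.foldGrp hφ hqq) p).bnPair hgen).subset
      (eS (RGDFold.rgd cs RGDTwE6.isCartan RGDTwE6.foldData (RGDTwE6.foldGrp hφ hqq) p) hgen i).2⟩ :
      ((RGDFold.rgd cs RGDTwE6.isCartan RGDTwE6.foldData (RGDTwE6.foldGrp hφ hqq) p).bnPair hgen).N))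
  (hcore : (B cs RGDTwE6.isCartan ((chevE6.diagonalSubgroup K ⊓ twistedE6 K q).subgroupOf (twistedE6 K q))
      (fun z => (RGDFold.R chevE6 RGDTwE6.hp K RGDTwE6.J (_root_.Cfsg.Agent.ChevalleyStructure.TwE6Basic.sg φ) z).subgroupOf (twistedE6 K q))).normalCore = ⊥)

/-- the pairs -/
theorem pair_dvd {j j' : Fin 6} (hmem : ∀ c : K, hG RGDTwE6.hp.inList (chevE6.simple j) c *
      hG RGDTwE6.hp.inList (chevE6.simple j') (c ^ q) ∈ twistedE6 K q) {s s' : ℕ}
    (hχ : ∀ (t : GL chevE6.Idx K), t ∈ chevE6.diagonalSubgroup K → t ∈ twistedE6 K q →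
      ∀ χ : ℕ → K, (∀ s < chevE6.nroots, ∀ c : K, t * xG RGDTwE6.hp.inList s c * t⁻¹ =
        xG RGDTwE6.hp.inList s (χ s * c)) → χ s' = χ s) :
    ((Fintype.card K : ℤ) - 1) ∣ (chevE6.cartan j s' + q * chevE6.cartan j' s') -
      (chevE6.cartan j s + q * chevE6.cartan j' s) := by
  refine dvd_of_zpow fun c hc => ?_
  have hcq : c ^ q ≠ 0 := pow_ne_zero _ hc
  have h1 := hχ _ (mul_mem
    (hG_mem_diagonal RGDTwE6.hp.inList (_root_.Cfsg.Agent.ChevalleyStructure.NPerm.simple_lt RGDTwE6.hp.inList (lt_rank RGDTwE6.hp j)) hc)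
    (hG_mem_diagonal RGDTwE6.hp.inList (_root_.Cfsg.Agent.ChevalleyStructure.NPerm.simple_lt RGDTwE6.hp.inList (lt_rank RGDTwE6.hp j')) hcq)) (hmem c) _
    (chi_mul RGDTwE6.hp.inList (hG_chi RGDTwE6.hp j hc) (hG_chi RGDTwE6.hp j' hcq))
  have key : ∀ r : ℕ, c ^ (chevE6.cartan j r + q * chevE6.cartan j' r) =
      c ^ chevE6.cartan j r * (c ^ q) ^ chevE6.cartan j' r := by
    intro r
    rw [zpow_add₀ hc, zpow_mul, zpow_natCast]
  rw [key, key]
  exact h1

include hqq in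
/-- the fixed nodes -/
theorem single_dvd {j : Fin 6} (hmem : ∀ c : K, c ^ q = c → hG RGDTwE6.hp.inList (chevE6.simple j) c ∈ twistedE6 K q)
    {s s' : ℕ}
    (hχ : ∀ (t : GL chevE6.Idx K), t ∈ chevE6.diagonalSubgroup K → t ∈ twistedE6 K q →
      ∀ χ : ℕ → K, (∀ s < chevE6.nroots, ∀ c : K, t * xG RGDTwE6.hp.inList s c * t⁻¹ =
        xG RGDTwE6.hp.inList s (χ s * c)) → χ s' = χ s) :
    ((Fintype.card K : ℤ) - 1) ∣ ((q : ℤ) + 1) * chevE6.cartan j s' - ((q : ℤ) + 1) * chevE6.cartan j s := by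
  refine dvd_of_zpow fun c hc => ?_
  have hcq : c ^ (q + 1) ≠ 0 := pow_ne_zero _ hc
  have h0 : (c ^ (q + 1)) ^ q = c ^ (q + 1) := by
    rw [pow_succ, mul_pow, hqq, mul_comm]
  have h1 := hχ _
    (hG_mem_diagonal RGDTwE6.hp.inList (_root_.Cfsg.Agent.ChevalleyStructure.NPerm.simple_lt RGDTwE6.hp.inList (lt_rank RGDTwE6.hp j)) hcq) (hmem _ h0) _
    (hG_chi RGDTwE6.hp j hcq)
  have key : ∀ r : ℕ, c ^ (((q : ℤ) + 1) * chevE6.cartan j r) = (c ^ (q + 1)) ^ chevE6.cartan j r := by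
    intro r
    rw [zpow_mul]
    congr 1
    rw [← zpow_natCast]
    push_cast
    rfl
  rw [key, key]
  exact h1

include hcore in
/-- **`²E₆(q)`, `q ≥ 3`** -/
theorem dis_E6 (hK : Fintype.card K = q ^ 2) (hq : 3 ≤ q) {a b : ↥(twistedE6 K q)} (hab : _root_.Cfsg.Agent.H197.Cls.Good p a b) {w : W}
    (hw : fw cs cs' w ∈ (Dis (Bl (RGDFold.rgd cs RGDTwE6.isCartan RGDTwE6.foldData (RGDTwE6.foldGrp hφ hqq) p)
      hgen cs' hcs) a b :)) : w = 1 := by
  have F : Cox cs := inferInstance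
  obtain ⟨u, J, h1, h2, h3⟩ := exists_J
    (RGDFold.rgd cs RGDTwE6.isCartan RGDTwE6.foldData (RGDTwE6.foldGrp hφ hqq) p) hgen cs' hcs hcore hab hw
  obtain ⟨s0, s1, s2, s3, s4, s5⟩ := simple_E6
  obtain ⟨t1, ⟨t2, t2'⟩, t3, ⟨t4, t4'⟩⟩ := tab_short
  obtain ⟨l1, l2, l3, l4, l5, l6, l7⟩ := tab_long
  obtain ⟨a00, a01, a02, a03, a10, a11, a12, a13⟩ := chk
  obtain ⟨r0, r1, r2, r3⟩ := sr4
  have hn : chevE6.nroots = 72 := by decide +kernel
  have hcard : ((Fintype.card K : ℤ) - 1) = (q : ℤ) ^ 2 - 1 := by rw [hK]; push_cast; rfl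
  have hq' : (3 : ℤ) ≤ q := by exact_mod_cast hq
  have hno : ∀ x : ℤ, 0 < x → x ≤ (q : ℤ) + 1 → ¬ ((q : ℤ) ^ 2 - 1) ∣ x := by
    intro x hx hx2 hd
    have h4 := Int.le_of_dvd hx hd
    nlinarith only [hq, hx2, h4]
  have m05 : ∀ c : K, hG RGDTwE6.hp.inList (chevE6.simple (0 : Fin 6)) c *
      hG RGDTwE6.hp.inList (chevE6.simple (5 : Fin 6)) (c ^ q) ∈ twistedE6 K q := by
    intro c
    have := hG_pair hφ pair3 c
    change hG RGDTwE6.hp.inList (chevE6.simple 0) c * hG RGDTwE6.hp.inList (chevE6.simple 5) (c ^ q) ∈ _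
    rw [s0, s5]
    exact this
  have m24 : ∀ c : K, hG RGDTwE6.hp.inList (chevE6.simple (2 : Fin 6)) c *
      hG RGDTwE6.hp.inList (chevE6.simple (4 : Fin 6)) (c ^ q) ∈ twistedE6 K q := by
    intro c
    have := hG_pair hφ pair2 c
    change hG RGDTwE6.hp.inList (chevE6.simple 2) c * hG RGDTwE6.hp.inList (chevE6.simple 4) (c ^ q) ∈ _
    rw [s2, s4]
    exact this
  have m1 : ∀ c : K, c ^ q = c → hG RGDTwE6.hp.inList (chevE6.simple (1 : Fin 6)) c ∈ twistedE6 K q := by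
    intro c hc
    have := hG_single hφ single0 hc
    change hG RGDTwE6.hp.inList (chevE6.simple 1) c ∈ _
    rw [s1]
    exact this
  have m3 : ∀ c : K, c ^ q = c → hG RGDTwE6.hp.inList (chevE6.simple (3 : Fin 6)) c ∈ twistedE6 K q := by
    intro c hc
    have := hG_single hφ single1 hc
    change hG RGDTwE6.hp.inList (chevE6.simple 3) c ∈ _
    rw [s3]
    exact this
  -- the short nodes
  have n2 : (2 : Fin 4) ∉ J := by
    intro hJ
    obtain ⟨s', hs', hV, hχ⟩ := fold_chi RGDTwE6.foldData (RGDTwE6.foldGrp hφ hqq) hgen cs' hcs hcore hab h2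
      (s := 42) (by rw [hn]; norm_num)
    rw [l4, (h3 2 hJ).2] at hV
    have h4 := pair_dvd (j := 0) (j' := 5) m05 hχ
    rw [hcard] at h4
    change _ ∣ (chevE6.cartan 0 s' + q * chevE6.cartan 5 s') - (chevE6.cartan 0 42 + q * chevE6.cartan 5 42) at h4
    rw [t2, t2'] at h4
    rcases t1 s' ((RGDTwE6.cls' 2 s' hs').1 hV) with ⟨e1, e2⟩ | ⟨e1, e2⟩
    · rw [e1, e2] at h4
      exact hno _ (by norm_num) (by linarith only [hq]) h4
    · rw [e1, e2] at h4
      exact hno _ (by linarith only [hq]) (by linarith only []) h4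
  have n3 : (3 : Fin 4) ∉ J := by
    intro hJ
    obtain ⟨s', hs', hV, hχ⟩ := fold_chi RGDTwE6.foldData (RGDTwE6.foldGrp hφ hqq) hgen cs' hcs hcore hab h2
      (s := 56) (by rw [hn]; norm_num)
    rw [l5, (h3 3 hJ).2] at hV
    have h4 := pair_dvd (j := 2) (j' := 4) m24 hχ
    rw [hcard] at h4
    change _ ∣ (chevE6.cartan 2 s' + q * chevE6.cartan 4 s') - (chevE6.cartan 2 56 + q * chevE6.cartan 4 56) at h4
    rw [t4, t4'] at h4
    rcases t3 s' ((RGDTwE6.cls' 3 s' hs').1 hV) with ⟨e1, e2⟩ | ⟨e1, e2⟩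
    · rw [e1, e2] at h4
      exact hno _ (by norm_num) (by linarith only [hq]) h4
    · rw [e1, e2] at h4
      exact hno _ (by linarith only [hq]) (by linarith only []) h4
  by_cases h0J : (0 : Fin 4) ∈ J
  · exfalso
    by_cases h1J : (1 : Fin 4) ∈ J
    · set! y := rep cs RGDTwE6.isCartan (wJ cs J) (sr 2) with hy
      have e2 : y 2 = 1 := by rw [hy, rep_off (h := RGDTwE6.isCartan) (F.wJ_mem J) _ n2, sr_self]
      have e0 := pairing_neg (h := RGDTwE6.isCartan) (h3 0 h0J).1 (h3 0 h0J).2 (sr 2)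
      have e1 := pairing_neg (h := RGDTwE6.isCartan) (h3 1 h1J).1 (h3 1 h1J).2 (sr 2)
      rw [sum4, sum4, a00, a01, a02, a03, r2] at e0
      rw [sum4, sum4, a10, a11, a12, a13, r2] at e1
      simp only [_root_.Nat.succ_eq_add_one, _root_.Nat.reduceAdd, _root_.Fin.isValue, _root_.Int.reduceNeg, _root_.neg_mul, _root_.one_mul, _root_.MulZeroClass.zero_mul, _root_.add_zero, _root_.Matrix.cons_val_zero, _root_.MulZeroClass.mul_zero, _root_.Matrix.cons_val_one, _root_.Matrix.cons_val, _root_.mul_one, _root_.neg_zero, _root_.zero_add, _root_.neg_neg] at e0 e1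
      rw [← r2, ← hy] at e0 e1
      omega
    · set! y := rep cs RGDTwE6.isCartan (wJ cs J) (sr 1) with hy
      have e1 : y 1 = 1 := by rw [hy, rep_off (h := RGDTwE6.isCartan) (F.wJ_mem J) _ h1J, sr_self]
      have e2 : y 2 = 0 := by
        rw [hy, rep_off (h := RGDTwE6.isCartan) (F.wJ_mem J) _ n2, r1]; rfl
      have e3 : y 3 = 0 := by
        rw [hy, rep_off (h := RGDTwE6.isCartan) (F.wJ_mem J) _ n3, r1]; rfl
      have e0 := pairing_neg (h := RGDTwE6.isCartan) (h3 0 h0J).1 (h3 0 h0J).2 (sr 1)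
      rw [sum4, sum4, a00, a01, a02, a03, r1] at e0
      simp only [_root_.Nat.succ_eq_add_one, _root_.Nat.reduceAdd, _root_.Fin.isValue, _root_.Int.reduceNeg, _root_.neg_mul, _root_.one_mul, _root_.MulZeroClass.zero_mul, _root_.add_zero, _root_.Matrix.cons_val_zero, _root_.MulZeroClass.mul_zero, _root_.Matrix.cons_val_one, _root_.mul_one, _root_.zero_add, _root_.Matrix.cons_val, _root_.neg_neg] at e0
      rw [← r1, ← hy] at e0
      have e4 : y 0 = 1 := by omega
      have e5 : y = ![1, 1, 0, 0] := by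
        funext i
        fin_cases i
        · exact e4
        · exact e1
        · exact e2
        · exact e3
      obtain ⟨s', hs', hV, hχ⟩ := fold_chi RGDTwE6.foldData (RGDTwE6.foldGrp hφ hqq) hgen cs' hcs hcore hab h2
        (s := 39) (by rw [hn]; norm_num)
      rw [l7, ← hy, e5] at hV
      have h4 := single_dvd hqq (j := 3) m3 hχ
      rw [hcard] at h4
      change _ ∣ ((q : ℤ) + 1) * chevE6.cartan 3 s' - ((q : ℤ) + 1) * chevE6.cartan 3 39 at h4
      rw [(l1 s' (by rw [← hn]; exact hs') hV).2, l3] at h4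
      exact hno ((q : ℤ) + 1) (by linarith only [hq]) le_rfl ((dvd_neg.2 h4).trans (by
        have : -(((q : ℤ) + 1) * 1 - ((q : ℤ) + 1) * 2) = (q : ℤ) + 1 := by ring
        rw [this]))
  · by_cases h1J : (1 : Fin 4) ∈ J
    · exfalso
      set! y := rep cs RGDTwE6.isCartan (wJ cs J) (sr 0) with hy
      have e1 : y 0 = 1 := by rw [hy, rep_off (h := RGDTwE6.isCartan) (F.wJ_mem J) _ h0J, sr_self]
      have e2 : y 2 = 0 := by
        rw [hy, rep_off (h := RGDTwE6.isCartan) (F.wJ_mem J) _ n2, r0]; rfl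
      have e3 : y 3 = 0 := by
        rw [hy, rep_off (h := RGDTwE6.isCartan) (F.wJ_mem J) _ n3, r0]; rfl
      have e0 := pairing_neg (h := RGDTwE6.isCartan) (h3 1 h1J).1 (h3 1 h1J).2 (sr 0)
      rw [sum4, sum4, a10, a11, a12, a13, r0] at e0
      simp only [_root_.Int.reduceNeg, _root_.Nat.succ_eq_add_one, _root_.Nat.reduceAdd, _root_.Fin.isValue, _root_.neg_mul, _root_.one_mul, _root_.MulZeroClass.zero_mul, _root_.add_zero, _root_.Matrix.cons_val_zero, _root_.mul_one, _root_.Matrix.cons_val_one, _root_.MulZeroClass.mul_zero, _root_.Matrix.cons_val, _root_.neg_neg] at e0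
      rw [← r0, ← hy] at e0
      have e4 : y 1 = 1 := by omega
      have e5 : y = ![1, 1, 0, 0] := by
        funext i
        fin_cases i
        · exact e1
        · exact e4
        · exact e2
        · exact e3
      obtain ⟨s', hs', hV, hχ⟩ := fold_chi RGDTwE6.foldData (RGDTwE6.foldGrp hφ hqq) hgen cs' hcs hcore hab h2
        (s := 46) (by rw [hn]; norm_num)
      rw [l6, ← hy, e5] at hV
      have h4 := single_dvd hqq (j := 1) m1 hχ
      rw [hcard] at h4
      change _ ∣ ((q : ℤ) + 1) * chevE6.cartan 1 s' - ((q : ℤ) + 1) * chevE6.cartan 1 46 at h4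
      rw [(l1 s' (by rw [← hn]; exact hs') hV).1, l2] at h4
      exact hno ((q : ℤ) + 1) (by linarith only [hq]) le_rfl ((dvd_neg.2 h4).trans (by
        have : -(((q : ℤ) + 1) * 1 - ((q : ℤ) + 1) * 2) = (q : ℤ) + 1 := by ring
        rw [this]))
    · have hJ : J = ∅ := by
        ext i
        fin_cases i
        · exact ⟨fun h => absurd h h0J, fun h => h.elim⟩
        · exact ⟨fun h => absurd h h1J, fun h => h.elim⟩
        · exact ⟨fun h => absurd h n2, fun h => h.elim⟩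
        · exact ⟨fun h => absurd h n3, fun h => h.elim⟩
      subst hJ
      exact eq_one_of_conj_wJ_empty h1

end Six

end Cfsg.Agent.H82.AH
end

-- part: H82/AH/DisD4
section
/-!
# S2451 (helper82): the common displacements for `³D₄(q)`

`dis_D4` : `q ≥ 3`: `Dis ⊆ {1}`; `q = 2`: `1` or a conjugate of the long simple reflection `s₀`.
-/

set_option autoImplicit false
set_option linter.unusedSectionVars false

open scoped Pointwise

namespace Cfsg.Agent.H82.AH

open CoxeterSystem Cfsg.Agent.ChevalleyStructure.CoxeterGeom Cfsg.Agent.Tits.Roots Cfsg.Agent.Tits.Core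
  Cfsg.Agent.Tits.RootComb Cfsg.Agent.Nodes.Comb Cfsg.Agent.Nodes.Reps Cfsg.Agent.Nodes.BNOf Cfsg.Agent.Nodes.BNOf.RGD
  Cfsg.Agent.FixBN Cfsg.Agent.Tits.OfBN Cfsg.Agent.Tits.OppRes Cfsg.Agent.LieExceptional.BNPairCore
  Cfsg.Agent.OddHalf.Table.AutBldg Cfsg.Agent.OddHalf.Table.AutRGD Cfsg.Agent.OddHalf.Table.AutNorm
  Cfsg.Agent.Tits Cfsg.Agent.Nodes.RGDLib Cfsg.Agent.UGT.U2.FOne
open Cfsg.Agent.Tits.Core.Bldg Cfsg.Agent.H197.Cls
open Cfsg.Lie Cfsg.Agent.ChevalleyStructure Cfsg.Agent.ChevalleyStructure.Elts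
  Cfsg.Agent.ChevalleyStructure.RootVec Cfsg.Agent.ChevalleyStructure.RootVecTab
  Cfsg.Agent.ChevalleyStructure.NPerm Cfsg.Agent.ChevalleyStructure.CoxeterGeomTypes
  Cfsg.Agent.Nodes.RGDChev Cfsg.Agent.Nodes.RGDFold Cfsg.Agent.Nodes
open Cfsg.Agent.ChevalleyStructure.D4Fixed (sig)

universe u

section Dee

variable {K : Type u} [Field K] {q : ℕ} {φ : K →+* K}

theorem wU_hWord_eq (r : ℕ) (c : K) : D4Cols.wU (chevD4.hWord r c) = hG RGDTwD4.hp.inList r c := by
  apply Units.ext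
  rw [coe_hG]
  exact D4Cols.coe_wU _

theorem simple_D4 : chevD4.simple 0 = 18 ∧ chevD4.simple 1 = 14 ∧ chevD4.simple 2 = 13 ∧ chevD4.simple 3 = 12 := by
  decide +kernel

/-- the orbit torus -/
theorem hG_orbit (hφ : ∀ t, φ t = t ^ q) (c : K) :
    hG RGDTwD4.hp.inList (chevD4.simple (0 : Fin 4)) c * hG RGDTwD4.hp.inList (chevD4.simple (2 : Fin 4)) (c ^ q) *
      hG RGDTwD4.hp.inList (chevD4.simple (3 : Fin 4)) ((c ^ q) ^ q) ∈ twistedD4 K q := by
  have h := D4H1.h_outer_mem hφ c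
  rw [wU_hWord_eq, wU_hWord_eq, wU_hWord_eq, hφ, hφ] at h
  obtain ⟨s0, s1, s2, s3⟩ := simple_D4
  change hG RGDTwD4.hp.inList (chevD4.simple 0) c * hG RGDTwD4.hp.inList (chevD4.simple 2) (c ^ q) *
      hG RGDTwD4.hp.inList (chevD4.simple 3) ((c ^ q) ^ q) ∈ _
  rw [s0, s2, s3]
  exact h

/-- the table -/
theorem tab_D4 : chevD4.cartan 0 18 = 2 ∧ chevD4.cartan 2 18 = 0 ∧ chevD4.cartan 3 18 = 0 ∧
    V chevD4 RGDTwD4.J 18 = sr 1 ∧
    (∀ s ∈ [5, 10, 11], (chevD4.cartan 0 s = -2 ∧ chevD4.cartan 2 s = 0 ∧ chevD4.cartan 3 s = 0) ∨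
      (chevD4.cartan 0 s = 0 ∧ chevD4.cartan 2 s = -2 ∧ chevD4.cartan 3 s = 0) ∨
      (chevD4.cartan 0 s = 0 ∧ chevD4.cartan 2 s = 0 ∧ chevD4.cartan 3 s = -2)) ∧
    (∀ s < 24, V chevD4 RGDTwD4.J s = ![1, 1] →
      (chevD4.cartan 0 s = 1 ∧ chevD4.cartan 2 s = -1 ∧ chevD4.cartan 3 s = -1) ∨
      (chevD4.cartan 0 s = -1 ∧ chevD4.cartan 2 s = 1 ∧ chevD4.cartan 3 s = -1) ∨
      (chevD4.cartan 0 s = -1 ∧ chevD4.cartan 2 s = -1 ∧ chevD4.cartan 3 s = 1)) := by decide +kernel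

theorem chkD : RGDTwD4.A 0 0 = 2 ∧ RGDTwD4.A 0 1 = -1 := by decide +kernel

variable (hφ : ∀ t, φ t = t ^ q) (hle : twistedD4 K q ≤ D4Fixed.fix φ) [Fintype K]
  {W : Type*} [Group W] [Finite W] {cs : CoxeterSystem CoxeterMatrix.G₂ W} {p : ℕ} [Fact p.Prime] [CharP K p]
  (hgen : B cs RGDTwD4.isCartan ((chevD4.diagonalSubgroup K ⊓ twistedD4 K q).subgroupOf (twistedD4 K q))
      (fun z => (RGDFold.R chevD4 RGDTwD4.hp K RGDTwD4.J (sig φ) z).subgroupOf (twistedD4 K q)) ⊔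
      NN cs (RGDFold.rgd cs RGDTwD4.isCartan RGDTwD4.foldData (RGDTwD4.foldGrp hφ hle) p).nsys = ⊤)
  [hN : ((((RGDFold.rgd cs RGDTwD4.isCartan RGDTwD4.foldData (RGDTwD4.foldGrp hφ hle) p).bnPair hgen).B ⊓
    ((RGDFold.rgd cs RGDTwD4.isCartan RGDTwD4.foldData (RGDTwD4.foldGrp hφ hle) p).bnPair hgen).N).subgroupOf
    ((RGDFold.rgd cs RGDTwD4.isCartan RGDTwD4.foldData (RGDTwD4.foldGrp hφ hle) p).bnPair hgen).N).Normal]
  (cs' : CoxeterSystem CoxeterMatrix.G₂
    (WP ((RGDFold.rgd cs RGDTwD4.isCartan RGDTwD4.foldData (RGDTwD4.foldGrp hφ hle) p).bnPair hgen)))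
  (hcs : ∀ i, cs'.simple i = QuotientGroup.mk
    (⟨(eS (RGDFold.rgd cs RGDTwD4.isCartan RGDTwD4.foldData (RGDTwD4.foldGrp hφ hle) p) hgen i :
      ↥(twistedD4 K q)),
      ((RGDFold.rgd cs RGDTwD4.isCartan RGDTwD4.foldData (RGDTwD4.foldGrp hφ hle) p).bnPair hgen).subset
      (eS (RGDFold.rgd cs RGDTwD4.isCartan RGDTwD4.foldData (RGDTwD4.foldGrp hφ hle) p) hgen i).2⟩ :
      ((RGDFold.rgd cs RGDTwD4.isCartan RGDTwD4.foldData (RGDTwD4.foldGrp hφ hle) p).bnPair hgen).N))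
  (hcore : (B cs RGDTwD4.isCartan ((chevD4.diagonalSubgroup K ⊓ twistedD4 K q).subgroupOf (twistedD4 K q))
      (fun z => (RGDFold.R chevD4 RGDTwD4.hp K RGDTwD4.J (sig φ) z).subgroupOf (twistedD4 K q))).normalCore = ⊥)

include hφ in
/-- the orbit character -/
theorem orbit_dvd {s s' : ℕ}
    (hχ : ∀ (t : GL chevD4.Idx K), t ∈ chevD4.diagonalSubgroup K → t ∈ twistedD4 K q →
      ∀ χ : ℕ → K, (∀ s < chevD4.nroots, ∀ c : K, t * xG RGDTwD4.hp.inList s c * t⁻¹ =
        xG RGDTwD4.hp.inList s (χ s * c)) → χ s' = χ s) :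
    ((Fintype.card K : ℤ) - 1) ∣ (chevD4.cartan 0 s' + q * chevD4.cartan 2 s' + q * q * chevD4.cartan 3 s') -
      (chevD4.cartan 0 s + q * chevD4.cartan 2 s + q * q * chevD4.cartan 3 s) := by
  refine dvd_of_zpow fun c hc => ?_
  have hcq : c ^ q ≠ 0 := pow_ne_zero _ hc
  have hcqq : (c ^ q) ^ q ≠ 0 := pow_ne_zero _ hcq
  have h1 := hχ _ (mul_mem (mul_mem
    (hG_mem_diagonal RGDTwD4.hp.inList (_root_.Cfsg.Agent.ChevalleyStructure.NPerm.simple_lt RGDTwD4.hp.inList (lt_rank RGDTwD4.hp (0 : Fin 4))) hc)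
    (hG_mem_diagonal RGDTwD4.hp.inList (_root_.Cfsg.Agent.ChevalleyStructure.NPerm.simple_lt RGDTwD4.hp.inList (lt_rank RGDTwD4.hp (2 : Fin 4))) hcq))
    (hG_mem_diagonal RGDTwD4.hp.inList (_root_.Cfsg.Agent.ChevalleyStructure.NPerm.simple_lt RGDTwD4.hp.inList (lt_rank RGDTwD4.hp (3 : Fin 4))) hcqq))
    (hG_orbit hφ c) _
    (chi_mul RGDTwD4.hp.inList (chi_mul RGDTwD4.hp.inList (hG_chi RGDTwD4.hp (0 : Fin 4) hc)
      (hG_chi RGDTwD4.hp (2 : Fin 4) hcq)) (hG_chi RGDTwD4.hp (3 : Fin 4) hcqq))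
  have key : ∀ r : ℕ, c ^ (chevD4.cartan 0 r + q * chevD4.cartan 2 r + q * q * chevD4.cartan 3 r) =
      c ^ chevD4.cartan 0 r * (c ^ q) ^ chevD4.cartan 2 r * ((c ^ q) ^ q) ^ chevD4.cartan 3 r := by
    intro r
    rw [zpow_add₀ hc, zpow_add₀ hc, zpow_mul, zpow_natCast, mul_assoc (q : ℤ), zpow_mul, zpow_natCast, zpow_mul,
      zpow_natCast]
  rw [key, key]
  exact h1

include hcore in
/-- **`³D₄(q)`** -/
theorem dis_D4 (hK : Fintype.card K = q ^ 3) (hq : 2 ≤ q) {a b : ↥(twistedD4 K q)} (hab : _root_.Cfsg.Agent.H197.Cls.Good p a b) {w : W}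
    (hw : fw cs cs' w ∈ (Dis (Bl (RGDFold.rgd cs RGDTwD4.isCartan RGDTwD4.foldData (RGDTwD4.foldGrp hφ hle) p)
      hgen cs' hcs) a b :)) :
    w = 1 ∨ (q = 2 ∧ (∃ u : W, u * w * u⁻¹ = cs.simple 0) ∧
      fw cs cs' (cs.simple 0) ∈ Dis (Bl (RGDFold.rgd cs RGDTwD4.isCartan RGDTwD4.foldData (RGDTwD4.foldGrp hφ hle) p)
        hgen cs' hcs) a b) := by
  have F : Cox cs := inferInstance
  obtain ⟨u, J, h1, h2, h3⟩ := exists_J
    (RGDFold.rgd cs RGDTwD4.isCartan RGDTwD4.foldData (RGDTwD4.foldGrp hφ hle) p) hgen cs' hcs hcore hab hw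
  obtain ⟨t0, t2, t3, tV, tneg, tsum⟩ := tab_D4
  obtain ⟨a00, a01⟩ := chkD
  have hn : chevD4.nroots = 24 := by decide +kernel
  have hcard : ((Fintype.card K : ℤ) - 1) = (q : ℤ) ^ 3 - 1 := by rw [hK]; push_cast; rfl
  have hq' : (2 : ℤ) ≤ q := by exact_mod_cast hq
  have g1 : (0 : ℤ) ≤ ((q : ℤ) - 2) * (q : ℤ) ^ 2 := mul_nonneg (sub_nonneg.2 hq') (sq_nonneg _)
  have g2 : (0 : ℤ) ≤ ((q : ℤ) - 2) * (q : ℤ) := mul_nonneg (sub_nonneg.2 hq') (by linarith only [hq])
  have hno : ∀ x y : ℤ, ((q : ℤ) ^ 3 - 1) ∣ y → y = x → 0 < x → x < (q : ℤ) ^ 3 - 1 → False := by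
    intro x y hd hy hx hx2
    have h4 := Int.le_of_dvd (hy ▸ hx) hd
    omega
  -- the short node
  have n1 : (1 : Fin 2) ∉ J := by
    intro hJ
    obtain ⟨s', hs', hV, hχ⟩ := fold_chi RGDTwD4.foldData (RGDTwD4.foldGrp hφ hle) hgen cs' hcs hcore hab h2
      (s := 18) (by rw [hn]; norm_num)
    rw [tV, (h3 1 hJ).2] at hV
    have h4 := orbit_dvd hφ hχ
    rw [hcard, t0, t2, t3] at h4
    have h5 := (dvd_neg.2 h4)
    rcases tneg s' ((RGDTwD4.cls1' s' hs').1 hV) with ⟨e1, e2, e3⟩ | ⟨e1, e2, e3⟩ | ⟨e1, e2, e3⟩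
    · rw [e1, e2, e3] at h5
      exact hno 4 _ h5 (by ring) (by norm_num) (by linarith only [hq, g1, g2])
    · rw [e1, e2, e3] at h5
      exact hno (2 * q + 2) _ h5 (by ring) (by linarith only [hq]) (by linarith only [hq, g1, g2])
    · rw [e1, e2, e3] at h5
      rcases hq.lt_or_eq with hq2 | hq2
      · have hq3 : (3 : ℤ) ≤ q := by exact_mod_cast hq2
        have hq9 : (0 : ℤ) ≤ ((q : ℤ) - 3) * (q : ℤ) ^ 2 := mul_nonneg (sub_nonneg.2 hq3) (sq_nonneg _)
        exact hno (2 * (q : ℤ) * q + 2) _ h5 (by ring) (by linarith only [g2]) (by linarith only [g2, hq2, hq9])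
      · subst hq2
        norm_num at h5
  by_cases h0J : (0 : Fin 2) ∈ J
  · right
    have hJ : J = {0} := by
      ext i
      fin_cases i
      · exact ⟨fun _ => rfl, fun _ => h0J⟩
      · exact ⟨fun h => absurd h n1, fun h => absurd h (by decide)⟩
    have hwJ : wJ cs J = cs.simple 0 := by
      refine (F.eq_wJ_of_descents (J := J) (simple_mem_WJ (cs := cs) h0J) fun j hj => ?_).symm
      rw [hJ, Set.mem_singleton_iff] at hj
      rw [hj, cs.simple_mul_simple_self, cs.length_one, cs.length_simple]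
      norm_num
    have hq2 : q = 2 := by
      by_contra hne
      have hq3 : (3 : ℤ) ≤ q := by
        have : 3 ≤ q := by omega
        exact_mod_cast this
      obtain ⟨s', hs', hV, hχ⟩ := fold_chi RGDTwD4.foldData (RGDTwD4.foldGrp hφ hle) hgen cs' hcs hcore hab h2
        (s := 18) (by rw [hn]; norm_num)
      have e5 : rep cs RGDTwD4.isCartan (wJ cs J) (sr 1) = ![1, 1] := by
        rw [hwJ, rep_simple_eq]
        have h7 : pairing RGDTwD4.A 0 (sr 1) = -1 := by
          unfold pairing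
          rw [Fin.sum_univ_two, a00, a01]
          have w10 : (sr 1 : Fin 2 → ℤ) 0 = 0 := by decide
          rw [w10, sr_self]
          norm_num
        rw [h7]
        funext i
        (revert i; decide +kernel)
      rw [tV, e5] at hV
      have h4 := orbit_dvd hφ hχ
      rw [hcard, t0, t2, t3] at h4
      have h5 := (dvd_neg.2 h4)
      have hq9 : (0 : ℤ) ≤ ((q : ℤ) - 3) * (q : ℤ) ^ 2 := mul_nonneg (sub_nonneg.2 hq3) (sq_nonneg _)
      rcases tsum s' (by rw [← hn]; exact hs') hV with ⟨e1, e2, e3⟩ | ⟨e1, e2, e3⟩ | ⟨e1, e2, e3⟩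
      · rw [e1, e2, e3] at h5
        exact hno (q * q + q + 1) _ h5 (by ring) (by linarith only [g2, hq3]) (by linarith only [g2, hq3, hq9])
      · rw [e1, e2, e3] at h5
        exact hno (q * q - q + 3) _ h5 (by ring) (by linarith only [g2, hq3]) (by linarith only [g2, hq3, hq9])
      · rw [e1, e2, e3] at h4
        exact hno (q * q - q - 3) _ h4 (by ring) (by nlinarith only [hq3]) (by linarith only [g2, hq9])
    rw [hwJ] at h1 h2
    exact ⟨hq2, ⟨u, h1⟩, h2⟩
  · left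
    have hJ : J = ∅ := by
      ext i
      fin_cases i
      · exact ⟨fun h => absurd h h0J, fun h => h.elim⟩
      · exact ⟨fun h => absurd h n1, fun h => h.elim⟩
    subst hJ
    exact eq_one_of_conj_wJ_empty h1

end Dee

end Cfsg.Agent.H82.AH
end
end

-- part: H150/AH/WtClass
section
prune_inst 0x30003504740000000000001240003e62e600019200680000f1a00f42078f756380402921fe800f020132a6240038800811100449420000000a000200013d0689002002001100b000210001008002000000000000000000000000000000041000200400000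
set_option linter.all false
open scoped Cfsg.Agent.FastGrp

-- part: H150/AH/Weights
section
/-!
# S2451: the weights `e_w = N_{a⁻¹}(w) N_b(w) / |{(x, y) : δ x y = w}|` (helper150)

* `dn Δ x w` : the number of chambers `c` with `δ c (x c) = w`; `pn Δ w` the number of pairs at distance `w`;
* `wt Δ a b w : ℚ` : the weight;
* `sum_card_eq` : `∑_g #{c : a (g b g⁻¹) c = c, δ c (a⁻¹ c) ∈ A} = |G| ∑_{w ∈ A} wt w`;
-/

set_option autoImplicit false
set_option linter.unusedSectionVars false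

open scoped Pointwise

namespace Cfsg.Agent.H150.AH

open Cfsg.Agent.Tits.Core Cfsg.Agent.Tits.Core.Bldg Cfsg.Agent.Tits.Exchange Cfsg.Agent.Tits Cfsg.Agent.FixBN
open Cfsg.Agent.H197.Cls

/-- counting the elements moving `x` to `y` in a transitive action -/
theorem card_smul_eq {G P : Type*} [Group G] [Finite G] [MulAction G P] [Finite P]
    (htr : ∀ x y : P, ∃ g : G, g • x = y) (x y : P) :
    Nat.card {g : G // g • x = y} * Nat.card P = Nat.card G := by
  obtain ⟨g₀, h0⟩ := htr x y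
  have h1 : Nat.card {g : G // g • x = y} = Nat.card (MulAction.stabilizer G x) := by
    apply Nat.card_congr
    refine ⟨fun g => ⟨g₀⁻¹ * g, ?_⟩, fun g => ⟨g₀ * g, ?_⟩, ?_, ?_⟩
    · rw [MulAction.mem_stabilizer_iff, mul_smul, g.2, inv_smul_eq_iff, h0]
    · rw [mul_smul, MulAction.mem_stabilizer_iff.1 g.2, h0]
    · intro g; exact Subtype.ext (mul_inv_cancel_left _ _)
    · intro g; exact Subtype.ext (inv_mul_cancel_left _ _)
  have h2 : (MulAction.orbit G x) = Set.univ := by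
    rw [Set.eq_univ_iff_forall]
    exact fun z => htr x z
  have h3 := (MulAction.stabilizer G x).card_mul_index
  rw [MulAction.index_stabilizer, h2, Set.ncard_univ] at h3
  rw [h1, h3]

/-- splitting a count by a value -/
theorem card_split {α V : Type*} [Finite α] [Fintype V] (f : α → V) (P : α → Prop) (A : V → Prop) [DecidablePred A] :
    Nat.card {x : α // A (f x) ∧ P x} = ∑ w with A w, Nat.card {x : α // f x = w ∧ P x} := by
  classical
  have e : {x : α // A (f x) ∧ P x} ≃ {z : {w : V // A w} × α // f z.2 = z.1 ∧ P z.2} :=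
    { toFun := fun x => ⟨(⟨f x, x.2.1⟩, x), rfl, x.2.2⟩
      invFun := fun z => ⟨z.1.2, by rw [z.2.1]; exact z.1.1.2, z.2.2⟩
      left_inv := fun x => rfl
      right_inv := fun z => Subtype.ext (Prod.ext (Subtype.ext z.2.1) rfl) }
  rw [Nat.card_congr (e.trans (Equiv.subtypeProdEquivSigmaSubtype (fun (w : {w : V // A w}) (x : α) =>
    f x = w ∧ P x))), Nat.card_sigma]
  symm
  apply Finset.sum_subtype
  intro x
  rw [Finset.mem_filter]
  simp

variable {I : Type*} {M : CoxeterMatrix I} {W : Type*} [Group W] {cs : CoxeterSystem M W} {C : Type*}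

local prefix:100 "ℓ" => cs.length

/-- the number of chambers of displacement `w` -/
noncomputable def dn (Δ : Bldg cs C) {G : Type*} [Group G] [MulAction G C] (x : G) (w : W) : ℕ :=
  Nat.card {c : C // Δ.δ c (x • c) = w}

/-- the number of pairs at distance `w` -/
noncomputable def pn (Δ : Bldg cs C) (w : W) : ℕ := Nat.card {x : C × C // Δ.δ x.1 x.2 = w}

/-- the weight -/
noncomputable def wt (Δ : Bldg cs C) {G : Type*} [Group G] [MulAction G C] (a b : G) (w : W) : ℚ :=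
  (dn Δ a⁻¹ w * dn Δ b w : ℕ) / (pn Δ w : ℚ)

theorem pn_pos (Δ : Bldg cs C) [Finite C] [Nonempty C] (w : W) : 0 < pn Δ w := by
  obtain ⟨x⟩ := ‹Nonempty C›
  obtain ⟨y, hy⟩ := Δ.exists_δ x w
  have : Nonempty {x : C × C // Δ.δ x.1 x.2 = w} := ⟨⟨(x, y), hy⟩⟩
  exact Nat.card_pos

theorem finite_W (Δ : Bldg cs C) [Finite C] [Nonempty C] : Finite W := by
  obtain ⟨x⟩ := ‹Nonempty C›
  exact Finite.of_surjective (Δ.δ x) (Δ.exists_δ x)

variable {Δ : Bldg cs C} {G : Type*} [Group G] [MulAction G C] {p : ℕ} (S : Sys Δ G p)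

include S

/-- **The double counting.** -/
theorem card_triples [F : OppRes.Cox cs] [Finite C] [Finite G] (hth : Δ.Thick) (a b : G) (w : W) :
    Nat.card {x : G × C // Δ.δ x.2 (a⁻¹ • x.2) = w ∧ (x.1 * b * x.1⁻¹) • x.2 = a⁻¹ • x.2} * pn Δ w =
      Nat.card G * (dn Δ a⁻¹ w * dn Δ b w) := by
  classical
  let P := {x : C × C // Δ.δ x.1 x.2 = w}
  let _ : MulAction G P :=
    { smul := fun g x => ⟨(g • x.1.1, g • x.1.2), by rw [S.iso]; exact x.2⟩
      one_smul := fun x => Subtype.ext (Prod.ext (one_smul _ _) (one_smul _ _))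
      mul_smul := fun g h x => Subtype.ext (Prod.ext (mul_smul _ _ _) (mul_smul _ _ _)) }
  have hcoe : ∀ (g : G) (x : P), ((g • x : P) : C × C) = (g • x.1.1, g • x.1.2) := fun _ _ => rfl
  have htr : ∀ x y : P, ∃ g : G, g • x = y := by
    intro x y
    obtain ⟨g, h1, h2⟩ := exists_smul_pair S hth (x := x.1.1) (y := x.1.2) (x' := y.1.1) (y' := y.1.2)
      (by rw [x.2, y.2])
    exact ⟨g, Subtype.ext (Prod.ext h1 h2)⟩
  let X := {c : C // Δ.δ c (a⁻¹ • c) = w}
  let Y := {c : C // Δ.δ c (b • c) = w}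
  let pa : X → P := fun c => ⟨(c, a⁻¹ • (c : C)), c.2⟩
  let pb : Y → P := fun c => ⟨(c, b • (c : C)), c.2⟩
  have e : {x : G × C // Δ.δ x.2 (a⁻¹ • x.2) = w ∧ (x.1 * b * x.1⁻¹) • x.2 = a⁻¹ • x.2} ≃
      {z : (X × Y) × G // z.2 • pb z.1.2 = pa z.1.1} :=
    { toFun := fun x => ⟨((⟨x.1.2, x.2.1⟩, ⟨x.1.1⁻¹ • x.1.2, by
          have h1 := x.2.2
          rw [mul_smul, mul_smul] at h1
          rw [← S.iso x.1.1, smul_inv_smul, h1]
          exact x.2.1⟩), x.1.1), by
            apply Subtype.ext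
            rw [hcoe]
            refine Prod.ext ?_ ?_
            · exact smul_inv_smul _ _
            · have h1 := x.2.2
              rw [mul_smul, mul_smul] at h1
              exact h1⟩
      invFun := fun z => ⟨(z.1.2, z.1.1.1), z.1.1.1.2, by
        have h1 := congrArg Subtype.val z.2
        rw [hcoe] at h1
        have h2 : z.1.2 • (z.1.1.2 : C) = z.1.1.1 := congrArg Prod.fst h1
        have h3 : z.1.2 • b • (z.1.1.2 : C) = a⁻¹ • (z.1.1.1 : C) := congrArg Prod.snd h1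
        change (z.1.2 * b * z.1.2⁻¹) • (z.1.1.1 : C) = a⁻¹ • (z.1.1.1 : C)
        rw [← h3, mul_smul, mul_smul, ← h2, inv_smul_smul]⟩
      left_inv := fun x => rfl
      right_inv := fun z => by
        obtain ⟨⟨⟨x, y⟩, g⟩, hg⟩ := z
        have h1 := congrArg Subtype.val hg
        rw [hcoe] at h1
        have h2 : g • (y : C) = x := congrArg Prod.fst h1
        refine Subtype.ext (Prod.ext (Prod.ext rfl (Subtype.ext ?_)) rfl)
        change g⁻¹ • (x : C) = y
        rw [← h2, inv_smul_smul] }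
  rw [Nat.card_congr (e.trans (Equiv.subtypeProdEquivSigmaSubtype (fun (z : X × Y) (g : G) => g • pb z.2 = pa z.1)))]
  have := Fintype.ofFinite X
  have := Fintype.ofFinite Y
  rw [Nat.card_sigma, Finset.sum_mul]
  have h1 : ∀ z ∈ (Finset.univ : Finset (X × Y)),
      Nat.card {g : G // g • pb z.2 = pa z.1} * pn Δ w = Nat.card G := fun z _ => card_smul_eq htr _ _
  rw [Finset.sum_congr rfl h1, Finset.sum_const, Finset.card_univ, Fintype.card_prod, smul_eq_mul,
    ← Nat.card_eq_fintype_card, ← Nat.card_eq_fintype_card, mul_comm]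
  rfl

/-- **The weighted count** over a set of displacements. -/
theorem card_fixed_on [F : OppRes.Cox cs] [Finite C] [Nonempty C] [Finite G] [Fintype W] (hth : Δ.Thick) (a b : G)
    (A : W → Prop) [DecidablePred A] :
    (Nat.card {x : G × C // A (Δ.δ x.2 (a⁻¹ • x.2)) ∧ (a * (x.1 * b * x.1⁻¹)) • x.2 = x.2} : ℚ) =
      Nat.card G * ∑ w with A w, wt Δ a b w := by
  have h1 : ∀ x : G × C, (a * (x.1 * b * x.1⁻¹)) • x.2 = x.2 ↔ (x.1 * b * x.1⁻¹) • x.2 = a⁻¹ • x.2 := by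
    intro x
    rw [mul_smul, eq_inv_smul_iff]
  have h2 := card_split (α := G × C) (fun x => Δ.δ x.2 (a⁻¹ • x.2))
    (fun x => (a * (x.1 * b * x.1⁻¹)) • x.2 = x.2) A
  rw [h2, Nat.cast_sum, Finset.mul_sum]
  refine Finset.sum_congr rfl fun w _ => ?_
  have h3 := card_triples S hth a b w
  have h4 : (pn Δ w : ℚ) ≠ 0 := by exact_mod_cast (pn_pos Δ w).ne'
  unfold wt
  rw [← mul_div_assoc, eq_div_iff h4]
  simp only [h1]
  exact_mod_cast h3

omit S in
/-- a class function is constant on the products -/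
theorem card_pairs_const [Finite C] [Finite G] {a b c : G} (hc : Cfsg.Agent.H330.ClassProd.AllConj a b c)
    (Q : G → C → Prop) (hQ : ∀ g z x, Q z x → Q (g * z * g⁻¹) (g • x)) :
    Nat.card {x : G × C // Q (a * (x.1 * b * x.1⁻¹)) x.2} = Nat.card G * Nat.card {x : C // Q c x} := by
  classical
  have := Fintype.ofFinite G
  rw [Nat.card_congr (Equiv.subtypeProdEquivSigmaSubtype (fun (g : G) (x : C) => Q (a * (g * b * g⁻¹)) x)),
    Nat.card_sigma]
  have h1 : ∀ g ∈ (Finset.univ : Finset G), Nat.card {x : C // Q (a * (g * b * g⁻¹)) x} = Nat.card {x : C // Q c x} := by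
    intro g _
    have h2 := hc 1 g
    have e : 1 * a * 1⁻¹ * (g * b * g⁻¹) = a * (g * b * g⁻¹) := by group
    rw [e] at h2
    obtain ⟨h, hh⟩ := isConj_iff.1 h2
    rw [← hh]
    symm
    apply Nat.card_congr
    refine ⟨fun x => ⟨h • x, hQ h c x x.2⟩, fun x => ⟨h⁻¹ • x, ?_⟩, fun x => Subtype.ext (inv_smul_smul _ _),
      fun x => Subtype.ext (smul_inv_smul _ _)⟩
    have h3 := hQ h⁻¹ _ _ x.2
    have e2 : h⁻¹ * (h * c * h⁻¹) * h⁻¹⁻¹ = c := by group
    rwa [e2] at h3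
  rw [Finset.sum_congr rfl h1, Finset.sum_const, Finset.card_univ, smul_eq_mul, ← Nat.card_eq_fintype_card]

/-- the number of the fixed chambers -/
noncomputable def fx (C : Type*) {G : Type*} [Group G] [MulAction G C] (z : G) : ℕ := Nat.card {x : C // z • x = x}

/-- **The sum of the weights.** -/
theorem sum_wt [F : OppRes.Cox cs] [Finite C] [Nonempty C] [Finite G] [Fintype W] (hth : Δ.Thick) {a b c : G}
    (hc : Cfsg.Agent.H330.ClassProd.AllConj a b c) : (fx C c : ℚ) = ∑ w, wt Δ a b w := by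
  classical
  have h1 := card_fixed_on S hth a b (fun _ => True)
  have h2 := card_pairs_const (C := C) hc (fun z x => z • x = x) (fun g z x hx => by
    rw [mul_smul, mul_smul, inv_smul_smul, hx])
  have h3 : Nat.card {x : G × C // True ∧ (a * (x.1 * b * x.1⁻¹)) • x.2 = x.2} =
      Nat.card {x : G × C // (a * (x.1 * b * x.1⁻¹)) • x.2 = x.2} :=
    Nat.card_congr (Equiv.subtypeEquivRight fun x => by simp)
  have hG : (Nat.card G : ℚ) ≠ 0 := by exact_mod_cast Nat.card_pos.ne'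
  have h4 : (Nat.card G : ℚ) * fx C c = Nat.card G * ∑ w, wt Δ a b w := by
    have h5 : ((Nat.card {x : G × C // (a * (x.1 * b * x.1⁻¹)) • x.2 = x.2} : ℕ) : ℚ) =
        ((Nat.card G * fx C c : ℕ) : ℚ) := by
      exact_mod_cast h2
    rw [h3, h5] at h1
    push_cast at h1
    rw [h1]
    simp
  exact mul_left_cancel₀ hG h4

/-- `|C| = 1` modulo `p` -/
theorem card_C [F : OppRes.Cox cs] [Finite C] [Nonempty C] [hp : Fact p.Prime] (hth : Δ.Thick) :
    ((Nat.card C : ℕ) : ZMod p) = 1 := by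
  obtain ⟨x⟩ := ‹Nonempty C›
  have h1 := S.card_Res hth Set.univ x
  rwa [Δ.Res_univ, Nat.card_univ] at h1

/-- the number of the fixed chambers of a `p`-element is `1` modulo `p` -/
theorem fx_mod [F : OppRes.Cox cs] [Finite C] [Nonempty C] [hp : Fact p.Prime] (hth : Δ.Thick) {z : G}
    (hz : PE p z) : ((fx C z : ℕ) : ZMod p) = 1 := by
  classical
  have h1 := hz.isPGroup.card_modEq_card_fixedPoints C
  have h2 : Nat.card (MulAction.fixedPoints (Subgroup.zpowers z) C) = fx C z := by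
    apply Nat.card_congr
    refine Equiv.subtypeEquivRight fun x => ?_
    constructor
    · intro hx
      exact hx ⟨z, Subgroup.mem_zpowers z⟩
    · rintro hx ⟨g, hg⟩
      have h3 : z ∈ MulAction.stabilizer G x := hx
      exact (Subgroup.zpowers_le.2 h3) hg
  rw [h2] at h1
  rw [← card_C S hth]
  exact ((ZMod.natCast_eq_natCast_iff _ _ _).2 h1).symm

theorem param_mod [F : OppRes.Cox cs] [Finite C] [Nonempty C] [hp : Fact p.Prime] (hth : Δ.Thick) {i : I} {q : ℕ}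
    (hq : Δ.Param i q) : p ∣ q := by
  obtain ⟨x⟩ := ‹Nonempty C›
  have h1 := S.card_Pan_eq hth x i
  rw [hq x, Nat.cast_add, Nat.cast_one] at h1
  rw [← ZMod.natCast_eq_zero_iff]
  simpa using h1

theorem exists_param [F : OppRes.Cox cs] [Finite C] [Nonempty C] (hth : Δ.Thick) (i : I) : ∃ q, Δ.Param i q := by
  obtain ⟨x⟩ := ‹Nonempty C›
  have hpos : 0 < Nat.card (Δ.Pan i x) := by
    have : Nonempty (Δ.Pan i x) := ⟨⟨x, Δ.self_mem_Pan i x⟩⟩
    exact Nat.card_pos
  refine ⟨Nat.card (Δ.Pan i x) - 1, fun y => ?_⟩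
  obtain ⟨g, rfl⟩ := exists_smul S hth x y
  rw [← smul_Pan S]
  have h1 : Nat.card ((g • Δ.Pan i x : Set C)) = Nat.card (Δ.Pan i x) := by
    rw [Nat.card_coe_set_eq, Nat.card_coe_set_eq, Set.ncard_smul_set]
  rw [h1]
  omega

end Cfsg.Agent.H150.AH
end

-- part: H150/AH/WtClass
section
/-!
# S2451: the weights are constant on the conjugacy classes of `W` (helper150)
-/

set_option autoImplicit false
set_option linter.unusedSectionVars false

open scoped Pointwise

namespace Cfsg.Agent.H150.AH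

open Cfsg.Agent.Tits.Core Cfsg.Agent.Tits.Core.Bldg Cfsg.Agent.Tits.Exchange Cfsg.Agent.Tits Cfsg.Agent.FixBN
open Cfsg.Agent.H197.Cls

variable {I : Type*} {M : CoxeterMatrix I} {W : Type*} [Group W] {cs : CoxeterSystem M W} {C : Type*}

local prefix:100 "ℓ" => cs.length

variable {Δ : Bldg cs C}

/-- the chambers `≠ x` of a panel -/
theorem card_pan_ne [Finite C] {i : I} {q : ℕ} (hq : Δ.Param i q) (x : C) :
    Nat.card {y : C // y ∈ Δ.Pan i x ∧ y ≠ x} = q := by
  have h1 := hq x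
  have h2 : Nat.card {y : C // y ∈ Δ.Pan i x ∧ y ≠ x} = (Δ.Pan i x \ {x}).ncard := by
    rw [← Nat.card_coe_set_eq]
    rfl
  rw [h2, Set.ncard_sdiff_singleton_of_mem (Δ.self_mem_Pan i x), ← Nat.card_coe_set_eq, h1]
  rfl

/-- `pn (v s_i) = q_i pn v` if `v < v s_i` -/
theorem pn_mul_simple [Finite C] {i : I} {q : ℕ} (hq : Δ.Param i q) {v : W} (hv : ℓ v < ℓ (v * cs.simple i)) :
    pn Δ (v * cs.simple i) = q * pn Δ v := by
  classical
  let X := {x : C × C // Δ.δ x.1 x.2 = v}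
  let Z := {z : X × C // z.2 ∈ Δ.Pan i z.1.1.2 ∧ z.2 ≠ z.1.1.2}
  have hss : cs.simple i * cs.simple i = 1 := cs.simple_mul_simple_self i
  have hne : v * cs.simple i ≠ v := fun h => by rw [h] at hv; exact lt_irrefl _ hv
  let f : Z → {x : C × C // Δ.δ x.1 x.2 = v * cs.simple i} := fun z => ⟨(z.1.1.1.1, z.1.2), by
    have h1 : Δ.δ z.1.1.1.2 z.1.2 = cs.simple i := Δ.δ_eq_of_mem_Pan (Δ.self_mem_Pan i _) z.2.1 z.2.2.symm
    have h2 := Δ.step_lt z.1.1.1.1 z.1.1.1.2 z.1.2 i h1 (by rw [z.1.1.2]; exact hv)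
    rwa [z.1.1.2] at h2⟩
  have hf : Function.Bijective f := by
    constructor
    · rintro ⟨⟨⟨⟨x, y⟩, hxy⟩, z⟩, hz, hzn⟩ ⟨⟨⟨⟨x', y'⟩, hxy'⟩, z'⟩, hz', hzn'⟩ h
      have h1 := congrArg Subtype.val h
      have h2 : x = x' := congrArg Prod.fst h1
      have h3 : z = z' := congrArg Prod.snd h1
      subst h2 h3
      have h4 : y = y' := by
        by_contra hcon
        have h5 : Δ.δ y y' = cs.simple i :=
          Δ.δ_eq_of_mem_Pan (Δ.mem_Pan_symm hz) (Δ.mem_Pan_symm hz') hcon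
        have h6 := Δ.step_lt x y y' i h5 (by rw [show Δ.δ x y = v from hxy]; exact hv)
        rw [show Δ.δ x y' = v from hxy', show Δ.δ x y = v from hxy] at h6
        exact hne h6.symm
      subst h4
      rfl
    · rintro ⟨⟨x, z⟩, hxz⟩
      obtain ⟨y, hy, hy'⟩ := Δ.exists_step x z i
      rw [show Δ.δ x z = v * cs.simple i from hxz, mul_assoc, hss, mul_one] at hy'
      exact ⟨⟨(⟨(x, y), hy'⟩, z), Δ.mem_Pan_symm (Δ.mem_Pan_of_δ hy), (Δ.ne_of_δ_simple hy)⟩, rfl⟩
  unfold pn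
  rw [← Nat.card_eq_of_bijective f hf, Nat.card_congr (Equiv.subtypeProdEquivSigmaSubtype
    (fun (x : X) (z : C) => z ∈ Δ.Pan i x.1.2 ∧ z ≠ x.1.2))]
  have := Fintype.ofFinite X
  rw [Nat.card_sigma, Finset.sum_congr rfl (fun x _ => card_pan_ne hq x.1.2), Finset.sum_const, Finset.card_univ,
    smul_eq_mul, ← Nat.card_eq_fintype_card, mul_comm]

theorem pn_inv (v : W) : pn Δ v⁻¹ = pn Δ v := by
  unfold pn
  apply Nat.card_congr
  refine ⟨fun x => ⟨(x.1.2, x.1.1), ?_⟩, fun x => ⟨(x.1.2, x.1.1), ?_⟩, fun x => rfl, fun x => rfl⟩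
  · have h1 := Δ.symm x.1.1 x.1.2
    rw [x.2, inv_inv] at h1
    exact h1
  · have h1 := Δ.symm x.1.1 x.1.2
    rw [x.2] at h1
    exact h1

theorem pn_simple_mul [Finite C] {i : I} {q : ℕ} (hq : Δ.Param i q) {v : W} (hv : ℓ v < ℓ (cs.simple i * v)) :
    pn Δ (cs.simple i * v) = q * pn Δ v := by
  rw [← pn_inv, mul_inv_rev, cs.inv_simple, pn_mul_simple hq, pn_inv]
  rw [cs.length_inv, ← cs.length_inv (v⁻¹ * _), mul_inv_rev, inv_inv, cs.inv_simple]
  exact hv

theorem pn_conj [Finite C] {i : I} {q : ℕ} (hq : Δ.Param i q) {v : W}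
    (hv : ℓ (cs.simple i * v * cs.simple i) = ℓ v + 2) : pn Δ (cs.simple i * v * cs.simple i) = q * q * pn Δ v := by
  have h1 := cs.length_simple_mul v i
  have h2 := cs.length_mul_simple (cs.simple i * v) i
  rw [pn_mul_simple hq (by omega), pn_simple_mul hq (by omega), mul_assoc]

variable {G : Type*} [Group G] [MulAction G C]

/-- the panel of `c` contains a gate pair `x0`, `x • x0` -/
def NCp (Δ : Bldg cs C) (x : G) (i : I) (c : C) : Prop := ∃ x0 ∈ Δ.Pan i c, NP Δ i x0 (x • x0)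

/-- the displacements in such a panel -/
theorem NCp.spec {p : ℕ} (S : Sys Δ G p) {x : G} {i : I} {c : C} (h : NCp Δ x i c) :
    ∃ x0 ∈ Δ.Pan i c, NP Δ i x0 (x • x0) ∧ ∀ y ∈ Δ.Pan i c, y ≠ x0 →
      Δ.δ y (x • y) = cs.simple i * Δ.δ x0 (x • x0) * cs.simple i := by
  obtain ⟨x0, hx0, hn⟩ := h
  refine ⟨x0, hx0, hn, fun y hy hne => ?_⟩
  have h1 : y ∈ Δ.Pan i x0 := by rw [Δ.Pan_eq_of_mem hx0]; exact hy
  exact hn.dLR h1 hne (smul_mem_Pan S h1) (fun h2 => hne (smul_left_cancel x h2))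

/-- **The count**: `dn (s_i v s_i) = q_i dn v`. -/
theorem dn_conj {p : ℕ} (S : Sys Δ G p) [Finite C] {i : I} {q : ℕ} (hq : Δ.Param i q) {x : G} {v : W}
    (hl : ℓ (cs.simple i * v * cs.simple i) = ℓ v + 2) (h1 : ∀ c, Δ.δ c (x • c) = v → NCp Δ x i c)
    (h2 : ∀ c, Δ.δ c (x • c) = cs.simple i * v * cs.simple i → NCp Δ x i c) :
    dn Δ x (cs.simple i * v * cs.simple i) = q * dn Δ x v := by
  classical
  have hss : cs.simple i * cs.simple i = 1 := cs.simple_mul_simple_self i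
  have hcc : ∀ u : W, cs.simple i * (cs.simple i * u * cs.simple i) * cs.simple i = u := by
    intro u
    calc cs.simple i * (cs.simple i * u * cs.simple i) * cs.simple i
        = (cs.simple i * cs.simple i) * u * (cs.simple i * cs.simple i) := by group
      _ = u := by rw [hss, one_mul, mul_one]
  let X := {c : C // Δ.δ c (x • c) = v}
  let Z := {z : X × C // z.2 ∈ Δ.Pan i z.1 ∧ z.2 ≠ z.1}
  -- a chamber of displacement `v` is the gate
  have hgate : ∀ c, Δ.δ c (x • c) = v → NP Δ i c (x • c) ∧ ∀ y ∈ Δ.Pan i c, y ≠ c →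
      Δ.δ y (x • y) = cs.simple i * v * cs.simple i := by
    intro c hc
    obtain ⟨x0, hx0, hn, hx⟩ := (h1 c hc).spec S
    have h3 : c = x0 := by
      by_contra hne
      have h4 := hx c (Δ.self_mem_Pan i c) hne
      rw [hc] at h4
      have h5 := hn.len
      have h6 : cs.simple i * v * cs.simple i = Δ.δ x0 (x • x0) := by rw [h4, hcc]
      rw [← h4] at h5
      rw [h6] at hl
      omega
    subst h3
    rw [hc] at hx
    exact ⟨hn, hx⟩
  let f : Z → {c : C // Δ.δ c (x • c) = cs.simple i * v * cs.simple i} := fun z =>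
    ⟨z.1.2, (hgate z.1.1 z.1.1.2).2 z.1.2 z.2.1 z.2.2⟩
  have hvne : cs.simple i * v * cs.simple i ≠ v := fun h => by rw [h] at hl; omega
  have hf : Function.Bijective f := by
    constructor
    · rintro ⟨⟨⟨c, hc⟩, z⟩, hz, hzn⟩ ⟨⟨⟨c', hc'⟩, z'⟩, hz', hzn'⟩ h
      have h3 : z = z' := congrArg Subtype.val h
      subst h3
      have h4 : c = c' := by
        by_contra hcon
        have h5 := (hgate c hc).2 c' (Δ.mem_Pan_trans hz (Δ.mem_Pan_symm hz')) (Ne.symm hcon)
        rw [hc'] at h5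
        exact hvne h5.symm
      subst h4
      rfl
    · rintro ⟨c, hc⟩
      obtain ⟨x0, hx0, hn, hx⟩ := (h2 c hc).spec S
      have h3 : c ≠ x0 := by
        rintro rfl
        have h5 := hn.len
        rw [hc, hcc] at h5
        omega
      have h4 := hx c (Δ.self_mem_Pan i c) h3
      have h5 : Δ.δ x0 (x • x0) = v := by
        rw [hc] at h4
        have h6 := congrArg (fun u => cs.simple i * u * cs.simple i) h4
        simp only [hcc] at h6
        exact h6.symm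
      exact ⟨⟨(⟨x0, h5⟩, c), Δ.mem_Pan_symm hx0, h3⟩, rfl⟩
  unfold dn
  rw [← Nat.card_eq_of_bijective f hf, Nat.card_congr (Equiv.subtypeProdEquivSigmaSubtype
    (fun (x : X) (z : C) => z ∈ Δ.Pan i x ∧ z ≠ x))]
  have := Fintype.ofFinite X
  rw [Nat.card_sigma, Finset.sum_congr rfl (fun x _ => card_pan_ne hq x.1), Finset.sum_const, Finset.card_univ,
    smul_eq_mul, ← Nat.card_eq_fintype_card, mul_comm]

theorem dis_symm (a b : G) : Dis Δ b⁻¹ a⁻¹ = Dis Δ a b := by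
  ext w
  unfold Dis
  rw [inv_inv]
  exact and_comm

section Cls

variable {p : ℕ} (S : Sys Δ G p)

include S

variable [hp : Fact p.Prime] [F : OppRes.Cox cs] [Finite C]

theorem ncp_inv (hth : Δ.Thick) {a b : G} (hab : Good p a b) {v : W} (hv : v ∈ Dis Δ a b) {i : I}
    (hne : cs.simple i * v ≠ v * cs.simple i) {c : C} (hc : Δ.δ c (a⁻¹ • c) = v) : NCp Δ a⁻¹ i c := by
  obtain ⟨-, d, hd⟩ := hv
  obtain ⟨g, hg1, hg2⟩ := exists_smul_pair S hth (x := d) (y := b • d) (x' := c) (y' := a⁻¹ • c)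
    (by rw [hc, hd])
  have h1 : (g * b * g⁻¹) • c = a⁻¹ • c := by
    rw [mul_smul, mul_smul, ← hg2]
    congr 2
    rw [inv_smul_eq_iff, hg1]
  obtain ⟨x0, hx0, y0, hy0, h, h2, h3, -⟩ := lemY_pair S hth (hab.conjR g) h1 (i := i) (by rw [h1, hc]; exact hne)
  refine ⟨x0, hx0, ?_⟩
  have h4 : a⁻¹ • x0 = y0 := by rw [inv_smul_eq_iff, h2]
  rw [h4]
  exact h

theorem ncp_right (hth : Δ.Thick) {a b : G} (hab : Good p a b) {v : W} (hv : v ∈ Dis Δ a b) {i : I}
    (hne : cs.simple i * v ≠ v * cs.simple i) {c : C} (hc : Δ.δ c (b • c) = v) : NCp Δ b i c := by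
  have h1 := ncp_inv S hth hab.inv (v := v) (by rw [dis_symm]; exact hv) hne (c := c) (by rw [inv_inv]; exact hc)
  rwa [inv_inv] at h1

/-- the longer of the two -/
theorem wt_simple_up [Nonempty C] (hth : Δ.Thick) {a b : G} (hab : Good p a b) {v : W} (hv : v ∈ Dis Δ a b) {i : I}
    (hl : ℓ (cs.simple i * v * cs.simple i) = ℓ v + 2) :
    wt Δ a b (cs.simple i * v * cs.simple i) = wt Δ a b v := by
  have hss : cs.simple i * cs.simple i = 1 := cs.simple_mul_simple_self i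
  have hne : cs.simple i * v ≠ v * cs.simple i := by
    intro h
    rw [h, mul_assoc, hss, mul_one] at hl
    omega
  have hne' : cs.simple i * (cs.simple i * v * cs.simple i) ≠ (cs.simple i * v * cs.simple i) * cs.simple i := by
    intro h
    apply hne
    have h1 : cs.simple i * (cs.simple i * v * cs.simple i) = (cs.simple i * cs.simple i) * (v * cs.simple i) := by
      group
    have h2 : (cs.simple i * v * cs.simple i) * cs.simple i = (cs.simple i * v) * (cs.simple i * cs.simple i) := by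
      group
    rw [h1, h2, hss, one_mul, mul_one] at h
    exact h.symm
  have hv' := (dis_simple S hth hab hv hne).1
  obtain ⟨q, hq⟩ := exists_param S hth i
  have hq0 : (q : ℚ) ≠ 0 := by
    obtain ⟨x⟩ := ‹Nonempty C›
    obtain ⟨y, -, -, hy, -⟩ := hth x i
    have h1 := card_pan_ne hq x
    have : Nonempty {y : C // y ∈ Δ.Pan i x ∧ y ≠ x} := ⟨⟨y, Δ.mem_Pan_of_δ hy, (Δ.ne_of_δ_simple hy).symm⟩⟩
    have h2 : 0 < Nat.card {y : C // y ∈ Δ.Pan i x ∧ y ≠ x} := Nat.card_pos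
    rw [h1] at h2
    exact_mod_cast h2.ne'
  unfold wt
  rw [pn_conj hq hl, dn_conj S hq hl (fun c hc => ncp_inv S hth hab hv hne hc)
      (fun c hc => ncp_inv S hth hab hv' hne' hc),
    dn_conj S hq hl (fun c hc => ncp_right S hth hab hv hne hc) (fun c hc => ncp_right S hth hab hv' hne' hc)]
  have hp0 : (pn Δ v : ℚ) ≠ 0 := by exact_mod_cast (pn_pos Δ v).ne'
  push_cast
  field_simp

/-- **The weights are invariant under the simple reflections.** -/
theorem wt_simple [Nonempty C] (hth : Δ.Thick) {a b : G} (hab : Good p a b) {v : W} (hv : v ∈ Dis Δ a b) (i : I) :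
    wt Δ a b (cs.simple i * v * cs.simple i) = wt Δ a b v := by
  have hss : cs.simple i * cs.simple i = 1 := cs.simple_mul_simple_self i
  by_cases hne : cs.simple i * v = v * cs.simple i
  · rw [hne, mul_assoc, hss, mul_one]
  · obtain ⟨h1, ⟨h2, -, -⟩ | ⟨h2, -, -⟩⟩ := dis_simple S hth hab hv hne
    · exact wt_simple_up S hth hab hv h2
    · have h3 : cs.simple i * (cs.simple i * v * cs.simple i) * cs.simple i = v := by
        calc cs.simple i * (cs.simple i * v * cs.simple i) * cs.simple i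
            = (cs.simple i * cs.simple i) * v * (cs.simple i * cs.simple i) := by group
          _ = v := by rw [hss, one_mul, mul_one]
      have h4 := wt_simple_up S hth hab h1 (i := i) (by rw [h3]; exact h2.symm)
      rw [h3] at h4
      exact h4.symm

/-- **The weights are constant on the classes.** -/
theorem wt_conj [Nonempty C] (hth : Δ.Thick) {a b : G} (hab : Good p a b) {v : W} (hv : v ∈ Dis Δ a b) (w : W) :
    wt Δ a b (w * v * w⁻¹) = wt Δ a b v := by
  induction w using cs.simple_induction_left with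
  | one => simp
  | mul_simple_left w i ih =>
    have e : cs.simple i * w * v * (cs.simple i * w)⁻¹ = cs.simple i * (w * v * w⁻¹) * cs.simple i := by
      rw [mul_inv_rev, cs.inv_simple]
      group
    rw [e, wt_simple S hth hab (dis_conj_mem S hth hab hv w), ih]

end Cls

theorem wt_nonneg (a b : G) (v : W) : 0 ≤ wt Δ a b v := by
  unfold wt
  positivity

theorem wt_pos_iff [Finite C] [Nonempty C] {a b : G} {v : W} : 0 < wt Δ a b v ↔ v ∈ Dis Δ a b := by
  have hp0 : (0 : ℚ) < pn Δ v := by exact_mod_cast pn_pos Δ v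
  have hdn : ∀ x : G, 0 < dn Δ x v ↔ ∃ c, Δ.δ c (x • c) = v := by
    intro x
    unfold dn
    rw [Nat.card_pos_iff]
    constructor
    · rintro ⟨⟨c, hc⟩, -⟩
      exact ⟨c, hc⟩
    · rintro ⟨c, hc⟩
      exact ⟨⟨⟨c, hc⟩⟩, inferInstance⟩
  unfold wt
  rw [div_pos_iff_of_pos_right hp0, Nat.cast_pos, Nat.pos_iff_ne_zero, Ne, mul_eq_zero, not_or, ← Ne, ← Ne,
    ← Nat.pos_iff_ne_zero, ← Nat.pos_iff_ne_zero, hdn, hdn]
  rfl

theorem wt_eq_zero_iff [Finite C] [Nonempty C] {a b : G} {v : W} : wt Δ a b v = 0 ↔ v ∉ Dis Δ a b := by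
  rw [← wt_pos_iff, not_lt]
  exact ⟨fun h => h.le, fun h => le_antisymm h (wt_nonneg a b v)⟩

end Cfsg.Agent.H150.AH
end
end

-- part: H82/AH/Pack_mg
section
prune_inst 0x3004000000000018001240003e02c6000090006b0000d1a00b4207867963000127016ca00b02012022200000004800000069000000000000020040010000002000001100a000220001808002000000000000000000000000000000041000200000000
set_option linter.all false
open scoped Cfsg.Agent.FastGrp

-- part: H82/AH/DisRefl
section
/-!
# S2451 (helper82): no common displacement is a simple reflection (untwisted groups, `q ≥ 3`)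

`simple_not_mem` : the node `i` with a neighbour `k` joined by a single bond; `tab_E6`, `tab_E7`, `tab_E8`, `tab_F4` : the
tables of the exceptional types.
-/

set_option autoImplicit false
set_option linter.unusedSectionVars false

open scoped Pointwise

namespace Cfsg.Agent.H82.AH

open CoxeterSystem Cfsg.Agent.ChevalleyStructure.CoxeterGeom Cfsg.Agent.Tits.Roots Cfsg.Agent.Tits.Core
  Cfsg.Agent.Tits.RootComb Cfsg.Agent.Nodes.Comb Cfsg.Agent.Nodes.Reps Cfsg.Agent.Nodes.BNOf Cfsg.Agent.Nodes.BNOf.RGD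
  Cfsg.Agent.FixBN Cfsg.Agent.Tits.OfBN Cfsg.Agent.Tits.OppRes Cfsg.Agent.LieExceptional.BNPairCore
  Cfsg.Agent.OddHalf.Table.AutBldg Cfsg.Agent.OddHalf.Table.AutRGD Cfsg.Agent.OddHalf.Table.AutNorm
  Cfsg.Agent.Tits Cfsg.Agent.Nodes.RGDLib Cfsg.Agent.UGT.U2.FOne
open Cfsg.Agent.Tits.Core.Bldg Cfsg.Agent.H197.Cls
open Cfsg.Lie Cfsg.Agent.ChevalleyStructure Cfsg.Agent.ChevalleyStructure.Elts
  Cfsg.Agent.ChevalleyStructure.RootVec Cfsg.Agent.ChevalleyStructure.RootVecTab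
  Cfsg.Agent.ChevalleyStructure.NPerm Cfsg.Agent.ChevalleyStructure.CoxeterGeomTypes
  Cfsg.Agent.Nodes.RGDChev Cfsg.Agent.Nodes.RGDFold

universe u

section Untw

variable {D : ChevalleyDatum} {l : ℕ} {M : CoxeterMatrix (Fin l)} (hp : IsType D l M) {K : Type u} [Field K]
  [Fintype K] {W : Type*} [Group W] [Finite W] {cs : CoxeterSystem M W} {p : ℕ} [Fact p.Prime] [CharP K p]
  (hgen : B cs hp.isCartan ((D.diagonalSubgroup K).subgroupOf (D.group K))
      (fun x => (XV D l K x).subgroupOf (D.group K)) ⊔ NN cs (_root_.Cfsg.Agent.Nodes.RGDChev.rgd (K := K) hp cs p).nsys = ⊤)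
  [hN : ((((_root_.Cfsg.Agent.Nodes.RGDChev.rgd (K := K) hp cs p).bnPair hgen).B ⊓ ((_root_.Cfsg.Agent.Nodes.RGDChev.rgd (K := K) hp cs p).bnPair hgen).N).subgroupOf
    ((_root_.Cfsg.Agent.Nodes.RGDChev.rgd (K := K) hp cs p).bnPair hgen).N).Normal]
  (cs' : CoxeterSystem M (WP ((_root_.Cfsg.Agent.Nodes.RGDChev.rgd (K := K) hp cs p).bnPair hgen)))
  (hcs : ∀ i, cs'.simple i = QuotientGroup.mk
    (⟨(eS (_root_.Cfsg.Agent.Nodes.RGDChev.rgd (K := K) hp cs p) hgen i : ↥(D.group K)), ((_root_.Cfsg.Agent.Nodes.RGDChev.rgd (K := K) hp cs p).bnPair hgen).subset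
      (eS (_root_.Cfsg.Agent.Nodes.RGDChev.rgd (K := K) hp cs p) hgen i).2⟩ : ((_root_.Cfsg.Agent.Nodes.RGDChev.rgd (K := K) hp cs p).bnPair hgen).N))
  (hcore : (B cs hp.isCartan ((D.diagonalSubgroup K).subgroupOf (D.group K))
      (fun x => (XV D l K x).subgroupOf (D.group K))).normalCore = ⊥)

end Untw

end Cfsg.Agent.H82.AH
end

-- part: H82/AH/Pack
section
/-!
# S2451 (helper82): the torus rows in building language

`HasDis p G M qs Q` : `G` acts faithfully and strongly transitively on a finite thick building of type `M` with parameters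
`qs`, with a system of Sylow `p`-groups, and for all `a, b` such that all products of `a` and a conjugate of `b` are
`p`-elements, the common displacements satisfy `Q`.
-/

set_option autoImplicit false
set_option linter.unusedSectionVars false

open scoped Pointwise

namespace Cfsg.Agent.H82.AH

open CoxeterSystem Cfsg.Agent.ChevalleyStructure.CoxeterGeom Cfsg.Agent.Tits.Roots Cfsg.Agent.Tits.Core
  Cfsg.Agent.Tits.RootComb Cfsg.Agent.Nodes.Comb Cfsg.Agent.Nodes.Reps Cfsg.Agent.Nodes.BNOf Cfsg.Agent.Nodes.BNOf.RGD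
  Cfsg.Agent.FixBN Cfsg.Agent.Tits.OfBN Cfsg.Agent.Tits.OppRes Cfsg.Agent.LieExceptional.BNPairCore
  Cfsg.Agent.OddHalf.Table.AutBldg Cfsg.Agent.OddHalf.Table.AutRGD Cfsg.Agent.OddHalf.Table.AutNorm
  Cfsg.Agent.Tits Cfsg.Agent.Nodes.RGDLib Cfsg.Agent.UGT.U2.FOne
open Cfsg.Agent.Tits.Core.Bldg Cfsg.Agent.H197.Cls
open Cfsg.Lie Cfsg.Agent.ChevalleyStructure Cfsg.Agent.ChevalleyStructure.Elts
  Cfsg.Agent.ChevalleyStructure.RootVec Cfsg.Agent.ChevalleyStructure.RootVecTab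
  Cfsg.Agent.ChevalleyStructure.NPerm Cfsg.Agent.ChevalleyStructure.CoxeterGeomTypes
  Cfsg.Agent.Nodes.RGDChev Cfsg.Agent.Nodes.RGDFold Cfsg.Agent.Nodes

universe u

/-- The building of `G`, with the property `Q` of the common displacements of the good pairs. -/
def HasDis (p : ℕ) (G : Type u) [Group G] {l : ℕ} (M : CoxeterMatrix (Fin l)) (qs : Fin l → ℕ)
    (Q : ∀ (W : Type u) [Group W], CoxeterSystem M W → W → Prop) : Prop :=
  ∃ (W : Type u) (_ : Group W) (_ : Finite W) (cs : CoxeterSystem M W) (C : Type u) (_ : Finite C) (_ : Nonempty C)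
    (_ : MulAction G C) (Δ : Bldg cs C) (_ : _root_.Cfsg.Agent.FixBN.Sys Δ G p), Δ.Thick ∧ (∀ i, Δ.Param i (qs i)) ∧
      (∀ g : G, (∀ c : C, g • c = c) → g = 1) ∧ ∀ a b : G, _root_.Cfsg.Agent.H197.Cls.Good p a b → ∀ w ∈ Dis Δ a b, Q W cs w

section

variable {l : ℕ} {W Y : Type u} [Group W] [Group Y] {M : CoxeterMatrix (Fin l)}
  {cs : CoxeterSystem M W} {A : Fin l → Fin l → ℤ} {h : IsCartan M A} {p : ℕ} {T : Subgroup Y} {n : Fin l → Y}
  {X : (Fin l → ℤ) → Subgroup Y} [Finite W] [Finite Y] [hpf : Fact p.Prime]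

theorem hasDis_of_rgd {W : Type*} [Group W] [Finite W] {cs : CoxeterSystem M W} {h : IsCartan M A}
    (R : RGD cs h p T n X) (hgen : B cs h T X ⊔ NN cs R.nsys = ⊤) [IsSimpleGroup Y] (i0 : Fin l)
    {qs : Fin l → ℕ} (hqs : ∀ i, Nat.card (X (sr i)) = qs i)
    {Q : ∀ (W : Type u) [Group W], CoxeterSystem M W → W → Prop}
    (hQ : ∀ (_ : (((R.bnPair hgen).B ⊓ (R.bnPair hgen).N).subgroupOf (R.bnPair hgen).N).Normal)
      (cs' : CoxeterSystem M (WP (R.bnPair hgen)))
      (hcs : ∀ i, cs'.simple i = QuotientGroup.mk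
        (⟨(eS R hgen i : Y), (R.bnPair hgen).subset (eS R hgen i).2⟩ : (R.bnPair hgen).N)),
      (B cs h T X).normalCore = ⊥ → ∀ a b : Y, _root_.Cfsg.Agent.H197.Cls.Good p a b → ∀ w ∈ Dis (Bl R hgen cs' hcs) a b, Q _ cs' w) :
    HasDis p Y M qs Q := by
  have hcore : (B cs h T X).normalCore = ⊥ :=
    normalCore_eq_bot (R.bnPair hgen) ⟨_, ((eS R hgen) i0).2⟩
  obtain ⟨hN, cs', hcs, hW, -⟩ := exists_setup R hgen hcore
  have hth : (Bl R hgen cs' hcs).Thick := thick (R.bnPair hgen) (eS R hgen) cs' hcs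
  refine ⟨WP (R.bnPair hgen), inferInstance, hW, cs', Y ⧸ (R.bnPair hgen).B, inferInstance, ⟨ch R hgen 1⟩,
    inferInstance, Bl R hgen cs' hcs, Sy R hgen cs' hcs hcore, hth, fun i x => ?_, fun g hg => ?_,
    hQ hN cs' hcs hcore⟩
  · rw [← hqs]
    exact Cfsg.Agent.OddHalf.NI.FTwo.IdentRgd.card_pan R hgen cs' hcs i x
  · have h1 : g ∈ (B cs h T X).normalCore := by
      intro k
      have h2 := hg (ch R hgen k⁻¹)
      rw [FixBN.OfBN.smul_mk_eq, inv_inv] at h2
      exact h2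
    rw [hcore] at h1
    exact Subgroup.mem_bot.1 h1

end

/-! ### Untwisted groups -/

section Untw

variable {D : ChevalleyDatum} {l : ℕ} {M : CoxeterMatrix (Fin l)} (hp : IsType D l M) {K : Type u} [Field K]
  [Fintype K]

include hp in
theorem card_untw (i : Fin l) :
    Nat.card ↥((XV D l K (sr i)).subgroupOf (D.group K)) = Fintype.card K := by
  rw [← vec_simple hp i, H568.card_XV hp (_root_.Cfsg.Agent.ChevalleyStructure.NPerm.simple_lt hp.inList (lt_rank hp i)), Nat.card_eq_fintype_card]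

end Untw

section Fam

variable {K : Type u} [Field K] [Fintype K] (p : ℕ) [Fact p.Prime] [CharP K p]

theorem fw_eq_one {I W W' : Type*} [Group W] [Group W'] {M : CoxeterMatrix I} {cs : CoxeterSystem M W}
    {cs' : CoxeterSystem M W'} {w : W'} (h : fw cs' cs w = 1) : w = 1 := by
  rw [← fw_fw cs cs' w, h, map_one]

theorem fw_eq_w0 {I W W' : Type*} [Fintype I] [DecidableEq I] [Group W] [Group W'] {M : CoxeterMatrix I}
    {cs : CoxeterSystem M W} {cs' : CoxeterSystem M W'} [Cox cs] [Cox cs'] {w : W'} (h : fw cs' cs w = w0 cs) :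
    w = w0 cs' := by
  rw [← fw_fw cs cs' w, h]
  exact fw_wJ cs cs' Set.univ

/-- `F₄(3)` -/
theorem hasDis_F4_three [IsSimpleGroup ↥(chevF4.group K)] (hq : 3 ≤ Fintype.card K) :
    HasDis p ↥(chevF4.group K) CoxeterMatrix.F₄ (fun _ => Fintype.card K) (fun _ _ cs w => w = 1 ∨ w = w0 cs) := by
  have hp : IsType chevF4 4 CoxeterMatrix.F₄ := by simp [IsType, typeList]
  have hW : Finite CoxeterMatrix.F₄.Group := RGDChev.finite_W hp CoxeterMatrix.F₄.toCoxeterSystem
  refine hasDis_of_rgd (_root_.Cfsg.Agent.Nodes.RGDChev.rgd (K := K) hp CoxeterMatrix.F₄.toCoxeterSystem p)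
    (rgd_gen_of_G1 (_root_.Cfsg.Agent.Nodes.RGDChev.rgd (K := K) hp CoxeterMatrix.F₄.toCoxeterSystem p) (RGDChev.G1_eq_top hp _)) 0 (card_untw hp) fun hN cs' hcs hcore a b hab w hw => ?_
  have hW' := Finite.of_equiv _ (fw CoxeterMatrix.F₄.toCoxeterSystem cs').toEquiv
  rw [← fw_fw CoxeterMatrix.F₄.toCoxeterSystem cs' w] at hw
  exact (dis_F4 hp _ cs' hcs hcore hq hab hw).imp fw_eq_one fw_eq_w0

/-- `G₂(3)` -/
theorem hasDis_G2_three [IsSimpleGroup ↥(chevG2.group K)] (hq : 3 ≤ Fintype.card K) :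
    HasDis p ↥(chevG2.group K) CoxeterMatrix.G₂ (fun _ => Fintype.card K) (fun _ _ cs w => w = 1 ∨ w = w0 cs) := by
  have hp : IsType chevG2 2 CoxeterMatrix.G₂ := by simp [IsType, typeList]
  have hW : Finite CoxeterMatrix.G₂.Group := RGDChev.finite_W hp CoxeterMatrix.G₂.toCoxeterSystem
  refine hasDis_of_rgd (_root_.Cfsg.Agent.Nodes.RGDChev.rgd (K := K) hp CoxeterMatrix.G₂.toCoxeterSystem p)
    (rgd_gen_of_G1 (_root_.Cfsg.Agent.Nodes.RGDChev.rgd (K := K) hp CoxeterMatrix.G₂.toCoxeterSystem p) (RGDChev.G1_eq_top hp _)) 0 (card_untw hp) fun hN cs' hcs hcore a b hab w hw => ?_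
  have hW' := Finite.of_equiv _ (fw CoxeterMatrix.G₂.toCoxeterSystem cs').toEquiv
  rw [← fw_fw CoxeterMatrix.G₂.toCoxeterSystem cs' w] at hw
  exact (dis_G2 hp _ cs' hcs hcore hq hab hw).imp fw_eq_one fw_eq_w0

theorem bf_sr : KFacts.TwESix.Comb.bf (sr 0) (sr 0) = 4 ∧ KFacts.TwESix.Comb.bf (sr 1) (sr 1) = 4 ∧
    ¬ KFacts.TwESix.Comb.bf (sr 2) (sr 2) = 4 ∧ ¬ KFacts.TwESix.Comb.bf (sr 3) (sr 3) = 4 := by decide +kernel

/-- `²E₆(q)`, `q ≥ 3` -/
theorem hasDis_twE6 {q : ℕ} (hqp : IsPrimePow q) (hK : Fintype.card K = q ^ 2) (hq : 3 ≤ q)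
    [IsSimpleGroup ↥(twistedE6 K q)] :
    HasDis p ↥(twistedE6 K q) CoxeterMatrix.F₄ ![q, q, q ^ 2, q ^ 2]
      (fun _ _ _ w => w = 1) := by
  obtain ⟨φ, hφ, hqq⟩ := TwE6Basic.exists_frob hqp hK
  have hW : Finite CoxeterMatrix.F₄.Group := RGDFold.finite_W (hp := RGDTwE6.hp) (CoxeterMatrix.F₄).toCoxeterSystem
    RGDTwE6.isCartan RGDTwE6.foldData
  refine hasDis_of_rgd (RGDFold.rgd CoxeterMatrix.F₄.toCoxeterSystem RGDTwE6.isCartan RGDTwE6.foldData
    (RGDTwE6.foldGrp hφ hqq) p) (rgd_gen_of_G1 (RGDFold.rgd CoxeterMatrix.F₄.toCoxeterSystem RGDTwE6.isCartan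
      RGDTwE6.foldData (RGDTwE6.foldGrp hφ hqq) p) (RGDFold.G1_eq_top _ RGDTwE6.isCartan RGDTwE6.foldData
      (RGDTwE6.foldGrp hφ hqq) p)) 0 (fun i => ?_)
    fun hN cs' hcs hcore a b hab w hw => ?_
  · refine (H568.OwnCharTw.card_X CoxeterMatrix.F₄.toCoxeterSystem hφ hqq hK (by omega) p (isRoot_sr _ _ i)).trans ?_
    obtain ⟨b0, b1, b2, b3⟩ := bf_sr
    fin_cases i
    · show q ^ (if KFacts.TwESix.Comb.bf (sr 0) (sr 0) = 4 then 1 else 2) = q
      rw [if_pos b0, pow_one]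
    · show q ^ (if KFacts.TwESix.Comb.bf (sr 1) (sr 1) = 4 then 1 else 2) = q
      rw [if_pos b1, pow_one]
    · show q ^ (if KFacts.TwESix.Comb.bf (sr 2) (sr 2) = 4 then 1 else 2) = q ^ 2
      rw [if_neg b2]
    · show q ^ (if KFacts.TwESix.Comb.bf (sr 3) (sr 3) = 4 then 1 else 2) = q ^ 2
      rw [if_neg b3]
  · rw [← fw_fw CoxeterMatrix.F₄.toCoxeterSystem cs' w] at hw
    exact fw_eq_one (dis_E6 hφ hqq _ cs' hcs hcore hK hq hab hw)

/-- `³D₄(q)` -/
theorem hasDis_twD4 {q : ℕ} (hqp : IsPrimePow q) (hK : Fintype.card K = q ^ 3) [IsSimpleGroup ↥(twistedD4 K q)] :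
    HasDis p ↥(twistedD4 K q) CoxeterMatrix.G₂ (fun i => if i = 0 then q else q ^ 3)
      (fun _ _ cs w => w = 1 ∨ (q = 2 ∧ ∃ u, u * w * u⁻¹ = cs.simple 0)) := by
  obtain ⟨φ, hφ⟩ := D4Fixed.exists_frob hqp hK
  have hle := D4Fixed.twisted_le_fix hK hφ
  have hW : Finite CoxeterMatrix.G₂.Group := RGDFold.finite_W (hp := RGDTwD4.hp) (CoxeterMatrix.G₂).toCoxeterSystem
    RGDTwD4.isCartan RGDTwD4.foldData
  refine hasDis_of_rgd (RGDFold.rgd CoxeterMatrix.G₂.toCoxeterSystem RGDTwD4.isCartan RGDTwD4.foldData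
    (RGDTwD4.foldGrp hφ hle) p) (rgd_gen_of_G1 (RGDFold.rgd CoxeterMatrix.G₂.toCoxeterSystem RGDTwD4.isCartan
      RGDTwD4.foldData (RGDTwD4.foldGrp hφ hle) p) (RGDFold.G1_eq_top _ RGDTwD4.isCartan RGDTwD4.foldData
      (RGDTwD4.foldGrp hφ hle) p)) 0 (fun i => ?_)
    fun hN cs' hcs hcore a b hab w hw => ?_
  · exact H934.RowTwD4.card_X hφ hqp.one_lt hK i
  · rw [← fw_fw CoxeterMatrix.G₂.toCoxeterSystem cs' w] at hw
    rcases dis_D4 hφ hle _ cs' hcs hcore hK hqp.two_le hab hw with h1 | ⟨h1, ⟨u, hu⟩, -⟩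
    · exact Or.inl (fw_eq_one h1)
    · refine Or.inr ⟨h1, fw CoxeterMatrix.G₂.toCoxeterSystem cs' u, ?_⟩
      rw [← fw_simple CoxeterMatrix.G₂.toCoxeterSystem cs' 0, ← hu, map_mul, map_mul, map_inv, fw_fw]

end Fam

end Cfsg.Agent.H82.AH
end

-- part: H150/AH/WtInt
section
/-!
# S2451: integrality of the weight of `w_J`, `J` of type `A1^k` (helper150)

* `Role1 Δ x i v` : in the `i`-panel of each chamber of displacement `v` exactly one chamber has displacement `v s_i`;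
* `prod_dvd_dn` : `Role1` for all `i ∈ K`, `K` commutative: `∏_K q_i ∣ dn Δ x v`;
* `exists_class` : if all weights are `p`-integral, a class of size prime to `p` is contained in `Dis`.
-/

set_option autoImplicit false
set_option linter.unusedSectionVars false
set_option linter.unusedVariables false

open scoped Pointwise

namespace Cfsg.Agent.H150.AH

open Cfsg.Agent.Tits.Core Cfsg.Agent.Tits.Core.Bldg Cfsg.Agent.Tits.Exchange Cfsg.Agent.Tits Cfsg.Agent.FixBN
open Cfsg.Agent.H197.Cls Cfsg.Agent.H330.ClassProd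

variable {I : Type*} {M : CoxeterMatrix I} {W : Type*} [Group W] {cs : CoxeterSystem M W} {C : Type*}

local prefix:100 "ℓ" => cs.length

variable {Δ : Bldg cs C}

theorem simple_ne_one' (cs : CoxeterSystem M W) (i : I) : cs.simple i ≠ 1 := fun h => by
  have h1 := cs.length_simple i
  rw [h, cs.length_one] at h1
  omega

/-- the square of two commuting panels -/
theorem exists_square {i j : I} (hij : cs.simple i ≠ cs.simple j)
    (hc : cs.simple i * cs.simple j = cs.simple j * cs.simple i) {x y z : C} (hy : y ∈ Δ.Pan i x)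
    (hz : z ∈ Δ.Pan j x) : ∃ t ∈ Δ.Pan i z, t ∈ Δ.Pan j y := by
  rcases hy with rfl | hy
  · exact ⟨z, Δ.self_mem_Pan i z, hz⟩
  rcases hz with rfl | hz
  · exact ⟨y, Or.inr hy, Δ.self_mem_Pan j y⟩
  have h1 : ℓ (cs.simple j) < ℓ (cs.simple j * cs.simple i) := by
    have h2 := cs.length_mul_simple (cs.simple j) i
    rcases h2 with h2 | h2
    · omega
    · exfalso
      rw [cs.length_simple] at h2
      have h3 : cs.simple j * cs.simple i = 1 := cs.length_eq_zero_iff.1 (by omega)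
      apply hij
      calc cs.simple i = (cs.simple j * cs.simple j) * cs.simple i := by rw [cs.simple_mul_simple_self, one_mul]
        _ = cs.simple j * (cs.simple j * cs.simple i) := by rw [mul_assoc]
        _ = cs.simple j := by rw [h3, mul_one]
  have h4 : Δ.δ z y = cs.simple j * cs.simple i := by
    have h5 := Δ.δ_symm_simple hz
    have h6 := Δ.step_lt z x y i hy (by rw [h5]; exact h1)
    rwa [h5] at h6
  obtain ⟨t, ht, ht'⟩ := Δ.exists_step z y j
  refine ⟨t, Or.inr ?_, Δ.mem_Pan_of_δ ht⟩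
  rw [ht', h4, ← hc, mul_assoc, cs.simple_mul_simple_self, mul_one]

theorem square_unique {i j : I} (hij : cs.simple i ≠ cs.simple j) {x y t t' : C} (h1 : t ∈ Δ.Pan i x)
    (h2 : t' ∈ Δ.Pan i x) (h3 : t ∈ Δ.Pan j y) (h4 : t' ∈ Δ.Pan j y) : t = t' := by
  by_contra hne
  apply hij
  rw [← Δ.δ_eq_of_mem_Pan h1 h2 hne, ← Δ.δ_eq_of_mem_Pan h3 h4 hne]

variable {G : Type*} [Group G] [MulAction G C]

/-- in the `i`-panel of each chamber of displacement `v` exactly one chamber has displacement `v s_i` -/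
def Role1 (Δ : Bldg cs C) {G : Type*} [Group G] [MulAction G C] (x : G) (i : I) (v : W) : Prop :=
  ∀ E, Δ.δ E (x • E) = v → ∃! D, D ∈ Δ.Pan i E ∧ Δ.δ D (x • D) = v * cs.simple i

/-- `Role1` for a set of chambers -/
structure HH (Δ : Bldg cs C) {G : Type*} [Group G] [MulAction G C] (x : G) (Y : C → Prop) (v : W) (K : Finset I) :
    Prop where
  disp : ∀ E, Y E → Δ.δ E (x • E) = v
  role : ∀ i ∈ K, ∀ E, Y E → ∃ D ∈ Δ.Pan i E, Δ.δ D (x • D) = v * cs.simple i ∧ ∀ D' ∈ Δ.Pan i E, D' ≠ D → Y D'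

variable {p : ℕ} (S : Sys Δ G p)

include S

/-- the displacement of an adjacent chamber, commuting position -/
theorem disp_adj {x : G} {i : I} {u : W} (hu : cs.simple i * u = u * cs.simple i) {E E' : C}
    (h : Δ.δ E (x • E) = u) (hE : E' ∈ Δ.Pan i E) : Δ.δ E' (x • E') = u ∨ Δ.δ E' (x • E') = u * cs.simple i := by
  have hss : cs.simple i * cs.simple i = 1 := cs.simple_mul_simple_self i
  rcases eq_or_ne E' E with rfl | hne
  · left; exact h
  have h1 : Δ.δ E' E = cs.simple i := Δ.δ_eq_of_mem_Pan hE (Δ.self_mem_Pan i E) hne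
  have h2 : Δ.δ (x • E) (x • E') = cs.simple i := by rw [S.iso]; exact Δ.δ_symm_simple h1
  have h3 := Δ.step_left (z := x • E) h1
  have h4 := Δ.step E' (x • E) (x • E') i h2
  rw [h] at h3
  rcases h3 with h3 | h3 <;> rcases h4 with h4 | h4 <;> rw [h3] at h4
  · left; rw [h4, hu, mul_assoc, hss, mul_one]
  · right; rw [h4, hu]
  · right; exact h4
  · left; exact h4

theorem HH.step {x : G} {Y : C → Prop} {v : W} {K : Finset I} {i : I} (hiK : i ∉ K)
    (hinj : Function.Injective cs.simple) (hv : ∀ j ∈ insert i (K : Set I), cs.simple j * v = v * cs.simple j)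
    (hc : ∀ j ∈ K, cs.simple i * cs.simple j = cs.simple j * cs.simple i)
    (hi : ∀ E, Y E → ∃ D ∈ Δ.Pan i E, Δ.δ D (x • D) = v * cs.simple i ∧ ∀ D' ∈ Δ.Pan i E, D' ≠ D → Y D')
    (h : HH Δ x Y v K) :
    HH Δ x (fun D => Δ.δ D (x • D) = v * cs.simple i ∧ ∃ E, Y E ∧ D ∈ Δ.Pan i E) (v * cs.simple i) K := by
  have hvi : cs.simple i * v = v * cs.simple i := hv i (Set.mem_insert _ _)
  refine ⟨fun E hE => hE.1, ?_⟩
  rintro j hj D ⟨hD, E, hE, hDE⟩
  have hne : cs.simple i ≠ cs.simple j := fun h1 => hiK (by rw [hinj h1]; exact hj)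
  have hcj := hc j hj
  have hvj : cs.simple j * v = v * cs.simple j := hv j (Set.mem_insert_of_mem _ hj)
  have hj1 : cs.simple j ≠ 1 := simple_ne_one' cs j
  have hvij : cs.simple j * (v * cs.simple i) = (v * cs.simple i) * cs.simple j := by
    rw [← mul_assoc, hvj, mul_assoc, mul_assoc, hcj]
  have hvji : cs.simple i * (v * cs.simple j) = (v * cs.simple j) * cs.simple i := by
    rw [← mul_assoc, hvi, mul_assoc, mul_assoc, hcj]
  obtain ⟨F, hF, hFd, hFo⟩ := h.role j hj E hE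
  obtain ⟨F', hF1, hF2⟩ := exists_square hne hcj hDE hF
  have hF'd : Δ.δ F' (x • F') = v * cs.simple i * cs.simple j := by
    rcases disp_adj S hvij hD hF2 with h1 | h1
    · exfalso
      rcases disp_adj S hvji hFd hF1 with h2 | h2
      · rw [h1] at h2
        exact hne (mul_left_cancel h2)
      · rw [h1, mul_assoc, ← hcj] at h2
        have h3 := mul_left_cancel h2
        have h4 : cs.simple i * 1 = cs.simple i * cs.simple j := by rw [mul_one]; exact h3
        exact hj1 (mul_left_cancel h4).symm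
    · exact h1
  refine ⟨F', hF2, hF'd, fun D' hD' hD'F => ?_⟩
  obtain ⟨E', hE1, hE2⟩ := exists_square hne.symm hcj.symm hD' (Δ.mem_Pan_symm hDE)
  -- `E' ∈ Pan j E`, `E' ∈ Pan i D'`
  have hE'F : E' ≠ F := by
    rintro rfl
    exact hD'F (square_unique hne (Δ.mem_Pan_symm hE2) hF1 hD' hF2)
  have hE' : Y E' := hFo E' hE1 hE'F
  refine ⟨?_, E', hE', Δ.mem_Pan_symm hE2⟩
  rcases disp_adj S hvij hD hD' with h1 | h1
  · exact h1
  · exfalso
    rcases disp_adj S hvi (h.disp E' hE') (Δ.mem_Pan_symm hE2) with h2 | h2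
    · rw [h1, mul_assoc] at h2
      have h3 : v * (cs.simple i * cs.simple j) = v * 1 := by rw [mul_one]; exact h2
      have h4 := mul_left_cancel h3
      have h5 : cs.simple i * cs.simple j = cs.simple i * cs.simple i := by
        rw [h4, cs.simple_mul_simple_self]
      exact hne (mul_left_cancel h5).symm
    · rw [h1] at h2
      have h3 : v * cs.simple i * cs.simple j = v * cs.simple i * 1 := by rw [mul_one]; exact h2
      exact hj1 (mul_left_cancel h3)

theorem HH.card [Finite C] {x : G} {Y : C → Prop} {v : W} {i : I} {q : ℕ} (hq : Δ.Param i q)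
    (hd : ∀ E, Y E → Δ.δ E (x • E) = v)
    (hi : ∀ E, Y E → ∃ D ∈ Δ.Pan i E, Δ.δ D (x • D) = v * cs.simple i ∧ ∀ D' ∈ Δ.Pan i E, D' ≠ D → Y D') :
    Nat.card {E : C // Y E} =
      Nat.card {D : C // Δ.δ D (x • D) = v * cs.simple i ∧ ∃ E, Y E ∧ D ∈ Δ.Pan i E} * q := by
  classical
  have hvne : v * cs.simple i ≠ v := by
    intro h1
    have h2 : v * cs.simple i = v * 1 := by rw [mul_one]; exact h1
    exact simple_ne_one' cs i (mul_left_cancel h2)
  -- uniqueness
  have huniq : ∀ E, Y E → ∀ D ∈ Δ.Pan i E, ∀ D' ∈ Δ.Pan i E, Δ.δ D (x • D) = v * cs.simple i →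
      Δ.δ D' (x • D') = v * cs.simple i → D = D' := by
    intro E hE D hD D' hD' h1 h2
    obtain ⟨D0, hD0, h3, h4⟩ := hi E hE
    have h5 : ∀ D ∈ Δ.Pan i E, Δ.δ D (x • D) = v * cs.simple i → D = D0 := by
      intro D hD h6
      by_contra hne
      have h7 := hd D (h4 D hD hne)
      rw [h6] at h7
      exact hvne h7
    rw [h5 D hD h1, h5 D' hD' h2]
  have hY : ∀ D, (Δ.δ D (x • D) = v * cs.simple i ∧ ∃ E, Y E ∧ D ∈ Δ.Pan i E) → ∀ z ∈ Δ.Pan i D, z ≠ D → Y z := by
    rintro D ⟨h1, E, hE, hDE⟩ z hz hzD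
    obtain ⟨D0, hD0, h3, h4⟩ := hi E hE
    have h5 : D = D0 := huniq E hE D hDE D0 hD0 h1 h3
    subst h5
    exact h4 z (Δ.mem_Pan_trans hDE hz) hzD
  let X := {D : C // Δ.δ D (x • D) = v * cs.simple i ∧ ∃ E, Y E ∧ D ∈ Δ.Pan i E}
  let f : {z : X × C // z.2 ∈ Δ.Pan i z.1 ∧ z.2 ≠ z.1} → {E : C // Y E} :=
    fun z => ⟨z.1.2, hY z.1.1 z.1.1.2 z.1.2 z.2.1 z.2.2⟩
  have hf : Function.Bijective f := by
    constructor
    · rintro ⟨⟨⟨D, hD⟩, z⟩, hz, hzn⟩ ⟨⟨⟨D', hD'⟩, z'⟩, hz', hzn'⟩ h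
      have h3 : z = z' := congrArg Subtype.val h
      subst h3
      have h4 : Y z := hY D hD z hz hzn
      have h5 : D = D' := huniq z h4 D (Δ.mem_Pan_symm hz) D' (Δ.mem_Pan_symm hz') hD.1 hD'.1
      subst h5
      rfl
    · rintro ⟨E, hE⟩
      obtain ⟨D0, hD0, h3, h4⟩ := hi E hE
      refine ⟨⟨(⟨D0, h3, E, hE, hD0⟩, E), Δ.mem_Pan_symm hD0, ?_⟩, rfl⟩
      intro h5
      rw [← show E = D0 from h5, hd E hE] at h3
      exact hvne h3.symm
  rw [← Nat.card_eq_of_bijective f hf, Nat.card_congr (Equiv.subtypeProdEquivSigmaSubtype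
    (fun (x : X) (z : C) => z ∈ Δ.Pan i x ∧ z ≠ x))]
  have := Fintype.ofFinite X
  rw [Nat.card_sigma, Finset.sum_congr rfl (fun x _ => card_pan_ne hq x.1), Finset.sum_const, Finset.card_univ,
    smul_eq_mul, ← Nat.card_eq_fintype_card]

end Cfsg.Agent.H150.AH
end

-- part: H150/AH/QuadCard
section
/-!
# S2451: chambers of a residue of type `B2` (helper150)
-/

set_option autoImplicit false
set_option linter.unusedSectionVars false
set_option linter.unusedVariables false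

open scoped Pointwise

namespace Cfsg.Agent.H150.AH

open Cfsg.Agent.Tits.Core Cfsg.Agent.Tits.Core.Bldg Cfsg.Agent.Tits.Exchange Cfsg.Agent.Tits Cfsg.Agent.FixBN
open Cfsg.Agent.H197.Cls Cfsg.Agent.H330.ClassProd

variable {I : Type*} {M : CoxeterMatrix I} {W : Type*} [Group W] {cs : CoxeterSystem M W} {C : Type*}

local prefix:100 "ℓ" => cs.length

variable {Δ : Bldg cs C}

/-- the number of the chambers at distance `u` from `x` -/
noncomputable def cn (Δ : Bldg cs C) (x : C) (u : W) : ℕ := Nat.card {y : C // Δ.δ x y = u}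

theorem cn_one (x : C) : cn Δ x 1 = 1 := by
  unfold cn
  rw [Nat.card_eq_one_iff_unique]
  refine ⟨⟨fun a b => ?_⟩, ⟨⟨x, Δ.δ_self x⟩⟩⟩
  have h1 := Δ.eq_of_δ_eq_one a.2
  have h2 := Δ.eq_of_δ_eq_one b.2
  exact Subtype.ext (h1.symm.trans h2)

theorem cn_mul_simple [Finite C] {i : I} {q : ℕ} (hq : Δ.Param i q) (x : C) {v : W}
    (hv : ℓ v < ℓ (v * cs.simple i)) : cn Δ x (v * cs.simple i) = cn Δ x v * q := by
  classical
  have hss : cs.simple i * cs.simple i = 1 := cs.simple_mul_simple_self i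
  have hne : v * cs.simple i ≠ v := fun h => by rw [h] at hv; exact lt_irrefl _ hv
  let X := {y : C // Δ.δ x y = v}
  let f : {z : X × C // z.2 ∈ Δ.Pan i z.1 ∧ z.2 ≠ z.1} → {y : C // Δ.δ x y = v * cs.simple i} := fun z =>
    ⟨z.1.2, by
      have h1 : Δ.δ (z.1.1 : C) z.1.2 = cs.simple i := Δ.δ_eq_of_mem_Pan (Δ.self_mem_Pan i _) z.2.1 z.2.2.symm
      have h2 := Δ.step_lt x z.1.1 z.1.2 i h1 (by rw [z.1.1.2]; exact hv)
      rwa [z.1.1.2] at h2⟩
  have hf : Function.Bijective f := by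
    constructor
    · rintro ⟨⟨⟨y, hy⟩, z⟩, hz, hzn⟩ ⟨⟨⟨y', hy'⟩, z'⟩, hz', hzn'⟩ h
      have h3 : z = z' := congrArg Subtype.val h
      subst h3
      have h4 : y = y' := by
        by_contra hcon
        have h5 : Δ.δ y y' = cs.simple i :=
          Δ.δ_eq_of_mem_Pan (Δ.mem_Pan_symm hz) (Δ.mem_Pan_symm hz') hcon
        have h6 := Δ.step_lt x y y' i h5 (by rw [hy]; exact hv)
        rw [hy', hy] at h6
        exact hne h6.symm
      subst h4
      rfl
    · rintro ⟨z, hxz⟩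
      obtain ⟨y, hy, hy'⟩ := Δ.exists_step x z i
      rw [hxz, mul_assoc, hss, mul_one] at hy'
      exact ⟨⟨(⟨y, hy'⟩, z), Δ.mem_Pan_symm (Δ.mem_Pan_of_δ hy), Δ.ne_of_δ_simple hy⟩, rfl⟩
  unfold cn
  rw [← Nat.card_eq_of_bijective f hf, Nat.card_congr (Equiv.subtypeProdEquivSigmaSubtype
    (fun (x : X) (z : C) => z ∈ Δ.Pan i x ∧ z ≠ x))]
  have := Fintype.ofFinite X
  rw [Nat.card_sigma, Finset.sum_congr rfl (fun x _ => card_pan_ne hq x.1), Finset.sum_const, Finset.card_univ,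
    smul_eq_mul, ← Nat.card_eq_fintype_card]

variable [Finite I] [Finite W]

omit [Finite I] [Finite W] in
/-- the eight elements -/
theorem mem_WJ_four {i j : I} (hm : M i j = 4) {u : W} (hu : u ∈ WJ cs {i, j}) :
    u = 1 ∨ u = cs.simple i ∨ u = cs.simple j ∨ u = cs.simple i * cs.simple j ∨ u = cs.simple j * cs.simple i ∨
      u = cs.simple i * cs.simple j * cs.simple i ∨ u = cs.simple j * cs.simple i * cs.simple j ∨
      u = cs.simple i * cs.simple j * cs.simple i * cs.simple j := by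
  have hb := Generic.braid_four cs hm
  obtain ⟨ω, hω, hred, rfl⟩ := exists_reduced_of_mem_WJ cs hu
  clear hu hred
  induction ω using List.reverseRecOn with
  | nil => left; rw [cs.wordProd_nil]
  | append_singleton ω k ih =>
    have hk : k = i ∨ k = j := by
      have := hω k (by simp)
      simpa using this
    have h1 := ih (fun a ha => hω a (by simp [ha]))
    rw [cs.wordProd_append, cs.wordProd_singleton]
    rcases hk with rfl | rfl
    · rcases h1 with h | h | h | h | h | h | h | h <;> rw [h]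
      · right; left; rw [one_mul]
      · left; rw [cs.simple_mul_simple_self]
      · right; right; right; right; left; rfl
      · right; right; right; right; right; left; rfl
      · right; right; left; rw [mul_assoc, cs.simple_mul_simple_self, mul_one]
      · right; right; right; left; rw [mul_assoc, cs.simple_mul_simple_self, mul_one]
      · right; right; right; right; right; right; right; rw [hb]
      · right; right; right; right; right; right; left
        rw [hb, mul_assoc, cs.simple_mul_simple_self, mul_one]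
    · rcases h1 with h | h | h | h | h | h | h | h <;> rw [h]
      · right; right; left; rw [one_mul]
      · right; right; right; left; rfl
      · left; rw [cs.simple_mul_simple_self]
      · right; left; rw [mul_assoc, cs.simple_mul_simple_self, mul_one]
      · right; right; right; right; right; right; left; rfl
      · right; right; right; right; right; right; right; rfl
      · right; right; right; right; left; rw [mul_assoc, cs.simple_mul_simple_self, mul_one]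
      · right; right; right; right; right; left
        rw [mul_assoc, cs.simple_mul_simple_self, mul_one]

variable {i j : I} {q r : ℕ}

theorem cn_i [Finite C] (hqi : Δ.Param i q) (x : C) : cn Δ x (cs.simple i) = q := by
  have h1 := cn_mul_simple hqi x (v := 1) (by rw [one_mul, cs.length_one, cs.length_simple]; omega)
  rw [one_mul, cn_one, one_mul] at h1
  exact h1

theorem cn_ij [Finite C] (hij : i ≠ j) (hqi : Δ.Param i q) (hqj : Δ.Param j r) (x : C) :
    cn Δ x (cs.simple i * cs.simple j) = q * r := by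
  rw [cn_mul_simple hqj x (by rw [Generic.length_two cs hij, cs.length_simple]; omega), cn_i hqi]

theorem cn_iji [Finite C] (hij : i ≠ j) (hm : M i j = 4) (hqi : Δ.Param i q) (hqj : Δ.Param j r) (x : C) :
    cn Δ x (cs.simple i * cs.simple j * cs.simple i) = q * r * q := by
  rw [cn_mul_simple hqi x (by rw [Generic.length_three cs hij (by omega), Generic.length_two cs hij]; omega),
    cn_ij hij hqi hqj]

theorem cn_ijij [Finite C] (hij : i ≠ j) (hm : M i j = 4) (hqi : Δ.Param i q) (hqj : Δ.Param j r) (x : C) :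
    cn Δ x (cs.simple i * cs.simple j * cs.simple i * cs.simple j) = q * r * q * r := by
  rw [cn_mul_simple hqj x (by rw [Generic.length_four cs hij hm, Generic.length_three cs hij (by omega)]; omega),
    cn_iji hij hm hqi hqj]

/-- the number of chambers of the residue -/
theorem card_Res_four [Finite C] (hij : i ≠ j) (hm : M i j = 4) (hqi : Δ.Param i q) (hqj : Δ.Param j r) (x : C) :
    (Δ.Res {i, j} x).ncard ≤ (1 + q) * (1 + r) * (1 + q * r) := by
  have hm' : M j i = 4 := by rw [M.symmetric]; exact hm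
  let A : W → Set C := fun u => {y | Δ.δ x y = u}
  have hA : ∀ u, (A u).ncard = cn Δ x u := fun u => by
    rw [← Nat.card_coe_set_eq]; rfl
  have h1 : Δ.Res {i, j} x ⊆ A 1 ∪ A (cs.simple i) ∪ A (cs.simple j) ∪ A (cs.simple i * cs.simple j) ∪
      A (cs.simple j * cs.simple i) ∪ A (cs.simple i * cs.simple j * cs.simple i) ∪
      A (cs.simple j * cs.simple i * cs.simple j) ∪ A (cs.simple i * cs.simple j * cs.simple i * cs.simple j) := by
    intro y hy
    simp only [A, Set.mem_union, Set.mem_ofPred_eq]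
    have h2 := mem_WJ_four hm (Δ.mem_Res.1 hy)
    (clear * - h2; tauto)
  have h2 := Set.ncard_le_ncard h1 (Set.toFinite _)
  have h3 := Set.ncard_union_le (A 1) (A (cs.simple i))
  have h4 := Set.ncard_union_le (A 1 ∪ A (cs.simple i)) (A (cs.simple j))
  have h5 := Set.ncard_union_le (A 1 ∪ A (cs.simple i) ∪ A (cs.simple j)) (A (cs.simple i * cs.simple j))
  have h6 := Set.ncard_union_le (A 1 ∪ A (cs.simple i) ∪ A (cs.simple j) ∪ A (cs.simple i * cs.simple j))
    (A (cs.simple j * cs.simple i))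
  have h7 := Set.ncard_union_le (A 1 ∪ A (cs.simple i) ∪ A (cs.simple j) ∪ A (cs.simple i * cs.simple j) ∪
    A (cs.simple j * cs.simple i)) (A (cs.simple i * cs.simple j * cs.simple i))
  have h8 := Set.ncard_union_le (A 1 ∪ A (cs.simple i) ∪ A (cs.simple j) ∪ A (cs.simple i * cs.simple j) ∪
    A (cs.simple j * cs.simple i) ∪ A (cs.simple i * cs.simple j * cs.simple i))
    (A (cs.simple j * cs.simple i * cs.simple j))
  have h9 := Set.ncard_union_le (A 1 ∪ A (cs.simple i) ∪ A (cs.simple j) ∪ A (cs.simple i * cs.simple j) ∪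
    A (cs.simple j * cs.simple i) ∪ A (cs.simple i * cs.simple j * cs.simple i) ∪
    A (cs.simple j * cs.simple i * cs.simple j)) (A (cs.simple i * cs.simple j * cs.simple i * cs.simple j))
  simp only [hA] at h3 h4 h5 h6 h7 h8 h9
  rw [cn_one, cn_i hqi] at h3
  rw [cn_i hqj] at h4
  rw [cn_ij hij hqi hqj] at h5
  rw [cn_ij hij.symm hqj hqi] at h6
  rw [cn_iji hij hm hqi hqj] at h7
  rw [cn_iji hij.symm hm' hqj hqi] at h8
  rw [cn_ijij hij hm hqi hqj] at h9
  have e : (1 + q) * (1 + r) * (1 + q * r) = 1 + q + r + q * r + r * q + q * r * q + r * q * r + q * r * q * r := by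
    ring
  rw [e]
  omega

end Cfsg.Agent.H150.AH
end

-- part: H150/AH/QuadIneq
section
/-!
# S2451: the inequality for an element of role 1 at one node of a `B2` residue (helper150)
-/

set_option autoImplicit false
set_option linter.unusedSectionVars false
set_option linter.unusedVariables false

open scoped Pointwise

namespace Cfsg.Agent.H150.AH

open Cfsg.Agent.Tits.Core Cfsg.Agent.Tits.Core.Bldg Cfsg.Agent.Tits.Exchange Cfsg.Agent.Tits Cfsg.Agent.FixBN
open Cfsg.Agent.H197.Cls Cfsg.Agent.H330.ClassProd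

variable {I : Type*} {M : CoxeterMatrix I} {W : Type*} [Group W] {cs : CoxeterSystem M W} {C : Type*}

local prefix:100 "ℓ" => cs.length

variable {Δ : Bldg cs C}

/-- the elements of `W_J` commute with `m` -/
theorem comm_of_simple {J : Set I} {m : W} (h : ∀ k ∈ J, cs.simple k * m = m * cs.simple k) :
    ∀ u ∈ WJ cs J, u * m = m * u := by
  have h1 : WJ cs J ≤ Subgroup.centralizer {m} := by
    rw [WJ, Subgroup.closure_le]
    rintro _ ⟨j, hj, rfl⟩
    rw [SetLike.mem_coe, Subgroup.mem_centralizer_singleton_iff]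
    exact h j hj
  intro u hu
  have h2 := h1 hu
  rwa [Subgroup.mem_centralizer_singleton_iff] at h2

variable {G : Type*} [Group G] [MulAction G C] {p : ℕ} (S : Sys Δ G p)

include S

/-- the displacements in the residue -/
theorem disp_mem {J : Set I} {m : W} (hm : ∀ u ∈ WJ cs J, u * m = m * u) {x : G} {x0 d : C}
    (h : m⁻¹ * Δ.δ x0 (x • x0) ∈ WJ cs J) (hd : d ∈ Δ.Res J x0) : m⁻¹ * Δ.δ d (x • d) ∈ WJ cs J := by
  have h1 : x • d ∈ Δ.Res J (x • x0) := S.smul_mem_Res hd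
  obtain ⟨t, ht, e1⟩ := Δ.exists_mul_of_mem x0 (Δ.mem_Res.1 h1)
  obtain ⟨t', ht', e2⟩ := Δ.exists_mul_of_mem_left (x • d) (Δ.mem_Res.1 (Δ.mem_Res_symm hd))
  rw [e2, e1]
  set v := Δ.δ x0 (x • x0) with hv
  have e3 : m⁻¹ * (t' * (v * t)) = t' * (m⁻¹ * v) * t := by
    have h4 : m⁻¹ * t' = t' * m⁻¹ := by
      rw [inv_mul_eq_iff_eq_mul, ← mul_assoc, ← hm t' ht', mul_assoc, mul_inv_cancel, mul_one]
    calc m⁻¹ * (t' * (v * t)) = (m⁻¹ * t') * v * t := by group
      _ = (t' * m⁻¹) * v * t := by rw [h4]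
      _ = _ := by group
  rw [e3]
  exact mul_mem (mul_mem ht' h) ht

variable [Finite I] [Finite W] [Finite C] {i j : I} {q r : ℕ}

/-- the panel of type `i` of a chamber of displacement `m s t s` -/
theorem exists_small (hij : i ≠ j) (hm4 : M i j = 4) {m : W} (hmi : cs.simple i * m = m * cs.simple i)
    (hadd : ∀ u ∈ WJ cs {i, j}, ℓ (m * u) = ℓ m + ℓ u) {x : G} {d : C}
    (hd : Δ.δ d (x • d) = m * (cs.simple i * cs.simple j * cs.simple i)) :
    ∃ e ∈ Δ.Pan i d, Δ.δ e (x • e) = m * cs.simple j ∨ Δ.δ e (x • e) = m * (cs.simple j * cs.simple i) := by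
  have hss : cs.simple i * cs.simple i = 1 := cs.simple_mul_simple_self i
  have hsi := Generic.simple_mem_left cs i j
  have hsj := Generic.simple_mem_right cs i j
  have l1 : ℓ (m * cs.simple j) = ℓ m + 1 := by rw [hadd _ hsj, cs.length_simple]
  have l2 : ℓ (m * (cs.simple j * cs.simple i)) = ℓ m + 2 := by
    rw [hadd _ (mul_mem hsj hsi), Generic.length_two cs hij.symm]
  have l2' : ℓ (m * (cs.simple i * cs.simple j)) = ℓ m + 2 := by
    rw [hadd _ (mul_mem hsi hsj), Generic.length_two cs hij]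
  have l3 : ℓ (m * (cs.simple i * cs.simple j * cs.simple i)) = ℓ m + 3 := by
    rw [hadd _ (mul_mem (mul_mem hsi hsj) hsi), Generic.length_three cs hij (by omega)]
  -- products with `s_i`
  have e1 : cs.simple i * (m * (cs.simple i * cs.simple j * cs.simple i)) = m * (cs.simple j * cs.simple i) := by
    calc cs.simple i * (m * (cs.simple i * cs.simple j * cs.simple i))
        = (cs.simple i * m) * (cs.simple i * cs.simple j * cs.simple i) := by group
      _ = m * ((cs.simple i * cs.simple i) * (cs.simple j * cs.simple i)) := by rw [hmi]; group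
      _ = _ := by rw [hss, one_mul]
  have e2 : m * (cs.simple i * cs.simple j * cs.simple i) * cs.simple i = m * (cs.simple i * cs.simple j) := by
    calc m * (cs.simple i * cs.simple j * cs.simple i) * cs.simple i
        = m * (cs.simple i * cs.simple j * (cs.simple i * cs.simple i)) := by group
      _ = _ := by rw [hss, mul_one]
  have e3 : cs.simple i * (m * (cs.simple i * cs.simple j)) = m * cs.simple j := by
    calc cs.simple i * (m * (cs.simple i * cs.simple j))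
        = (cs.simple i * m) * (cs.simple i * cs.simple j) := by group
      _ = m * ((cs.simple i * cs.simple i) * cs.simple j) := by rw [hmi]; group
      _ = _ := by rw [hss, one_mul]
  have e4 : m * (cs.simple j * cs.simple i) * cs.simple i = m * cs.simple j := by
    calc m * (cs.simple j * cs.simple i) * cs.simple i = m * (cs.simple j * (cs.simple i * cs.simple i)) := by group
      _ = _ := by rw [hss, mul_one]
  have hne : cs.simple i * Δ.δ d (x • d) ≠ Δ.δ d (x • d) * cs.simple i := by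
    rw [hd, e1, e2]
    intro h
    have h1 := mul_left_cancel h
    have h2 : cs.simple i * cs.simple j * cs.simple i = cs.simple j := by
      rw [← h1, mul_assoc, hss, mul_one]
    have h3 := Generic.length_three cs hij (by omega : M i j ≠ 2)
    rw [h2, cs.length_simple] at h3
    omega
  obtain ⟨x0, hx0, y0, hy0, h⟩ := exists_np hne
  have hxe : x • x0 ∈ Δ.Pan i y0 := by
    rw [Δ.Pan_eq_of_mem hy0]
    exact smul_mem_Pan S hx0
  -- `δ x0 y0 = m s_j`
  have hn : Δ.δ x0 y0 = m * cs.simple j := by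
    have hdp : d ∈ Δ.Pan i x0 := Δ.mem_Pan_symm hx0
    have hxdp : x • d ∈ Δ.Pan i y0 := Δ.mem_Pan_symm hy0
    have hL := h.left
    have hR := h.right
    by_cases h1 : d = x0
    · by_cases h2 : x • d = y0
      · exfalso
        rw [← h1, ← h2, hd, e2, l3, l2'] at hR
        omega
      · exfalso
        have h3 := h.dR hxdp h2
        rw [← h1, hd] at h3
        have h4 : Δ.δ x0 y0 = m * (cs.simple i * cs.simple j) := by
          have h5 : Δ.δ d y0 * cs.simple i * cs.simple i = Δ.δ d y0 := by rw [mul_assoc, hss, mul_one]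
          rw [← h1, ← h5, ← h3, e2]
        rw [h4, e3, l1, l2'] at hL
        omega
    · by_cases h2 : x • d = y0
      · exfalso
        have h3 := h.dL hdp h1
        rw [← h2, hd] at h3
        have h4 : Δ.δ x0 y0 = m * (cs.simple j * cs.simple i) := by
          have h5 : cs.simple i * (cs.simple i * Δ.δ x0 (x • d)) = Δ.δ x0 (x • d) := by
            rw [← mul_assoc, hss, one_mul]
          rw [← h2, ← h5, ← h3, e1]
        rw [h4, e4, l1, l2] at hR
        omega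
      · have h3 := h.dLR hdp h1 hxdp h2
        rw [hd] at h3
        have h5 : cs.simple i * (cs.simple i * Δ.δ x0 y0 * cs.simple i) * cs.simple i = Δ.δ x0 y0 := by
          calc cs.simple i * (cs.simple i * Δ.δ x0 y0 * cs.simple i) * cs.simple i
              = (cs.simple i * cs.simple i) * Δ.δ x0 y0 * (cs.simple i * cs.simple i) := by group
            _ = _ := by rw [hss, one_mul, mul_one]
        rw [← h5, ← h3, e1, e4]
  refine ⟨x0, hx0, ?_⟩
  by_cases h6 : x • x0 = y0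
  · left; rw [h6, hn]
  · right; rw [h.dR hxe h6, hn, mul_assoc]

/-- **The inequality.** -/
theorem quad_ineq (hij : i ≠ j) (hm4 : M i j = 4) (hqi : Δ.Param i q) (hqj : Δ.Param j r) {m : W}
    (hmi : cs.simple i * m = m * cs.simple i) (hmj : cs.simple j * m = m * cs.simple j)
    (hadd : ∀ u ∈ WJ cs {i, j}, ℓ (m * u) = ℓ m + ℓ u) {x : G} {x0 : C}
    (hr : Role1 Δ x j (m * (cs.simple i * cs.simple j * cs.simple i * cs.simple j))) :
    Nat.card {d : C // d ∈ Δ.Res {i, j} x0 ∧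
      Δ.δ d (x • d) = m * (cs.simple i * cs.simple j * cs.simple i * cs.simple j)} * (q * r + q + 1) ≤
      q * r * (Δ.Res {i, j} x0).ncard := by
  classical
  have hm4' : M j i = 4 := by rw [M.symmetric]; exact hm4
  have hss : cs.simple i * cs.simple i = 1 := cs.simple_mul_simple_self i
  have htt : cs.simple j * cs.simple j = 1 := cs.simple_mul_simple_self j
  have hsi := Generic.simple_mem_left cs i j
  have hsj := Generic.simple_mem_right cs i j
  have hb := Generic.braid_four cs hm4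
  set wE := cs.simple i * cs.simple j * cs.simple i * cs.simple j with hwE
  have l1 : ℓ (m * cs.simple j) = ℓ m + 1 := by rw [hadd _ hsj, cs.length_simple]
  have l2 : ℓ (m * (cs.simple j * cs.simple i)) = ℓ m + 2 := by
    rw [hadd _ (mul_mem hsj hsi), Generic.length_two cs hij.symm]
  have l3 : ℓ (m * (cs.simple i * cs.simple j * cs.simple i)) = ℓ m + 3 := by
    rw [hadd _ (mul_mem (mul_mem hsi hsj) hsi), Generic.length_three cs hij (by omega)]
  have l4 : ℓ (m * wE) = ℓ m + 4 := by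
    rw [hadd _ (mul_mem (mul_mem (mul_mem hsi hsj) hsi) hsj), Generic.length_four cs hij hm4]
  have ewt : m * wE * cs.simple j = m * (cs.simple i * cs.simple j * cs.simple i) := by
    rw [hwE]
    calc m * (cs.simple i * cs.simple j * cs.simple i * cs.simple j) * cs.simple j
        = m * (cs.simple i * cs.simple j * cs.simple i * (cs.simple j * cs.simple j)) := by group
      _ = _ := by rw [htt, mul_one]
  have hcomm : cs.simple j * (m * wE) = (m * wE) * cs.simple j := by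
    rw [ewt, ← mul_assoc, hmj, mul_assoc, hb]
    congr 1
    calc cs.simple j * (cs.simple j * cs.simple i * cs.simple j * cs.simple i)
        = (cs.simple j * cs.simple j) * (cs.simple i * cs.simple j * cs.simple i) := by group
      _ = _ := by rw [htt, one_mul]
  let R := Δ.Res {i, j} x0
  let Y : C → Prop := fun e => e ∈ R ∧ Δ.δ e (x • e) = m * wE
  have hPanR : ∀ k, k = i ∨ k = j → ∀ e ∈ R, ∀ d ∈ Δ.Pan k e, d ∈ R := by
    intro k hk e he d hd
    refine Δ.mem_Res_trans he (Δ.Pan_subset_Res ?_ e hd)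
    rcases hk with rfl | rfl <;> simp
  have hi : ∀ E, Y E → ∃ D ∈ Δ.Pan j E, Δ.δ D (x • D) = m * wE * cs.simple j ∧
      ∀ D' ∈ Δ.Pan j E, D' ≠ D → Y D' := by
    rintro E ⟨hE1, hE2⟩
    obtain ⟨D, ⟨h1, h2⟩, h3⟩ := hr E hE2
    refine ⟨D, h1, h2, fun D' hD' hne => ⟨hPanR j (Or.inr rfl) E hE1 D' hD', ?_⟩⟩
    rcases disp_adj S hcomm hE2 hD' with h4 | h4
    · exact h4
    · exact absurd (h3 D' ⟨hD', h4⟩) hne
  have hcard := HH.card S hqj (fun E hE => hE.2) hi
  let P : C → Prop := fun D => Δ.δ D (x • D) = m * wE * cs.simple j ∧ ∃ E, Y E ∧ D ∈ Δ.Pan j E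
  let Z : C → Prop := fun e => e ∈ R ∧ (Δ.δ e (x • e) = m * cs.simple j ∨ Δ.δ e (x • e) = m * (cs.simple j * cs.simple i))
  have hPR : ∀ D, P D → D ∈ R := by
    rintro D ⟨-, E, hE, hD⟩
    exact hPanR j (Or.inr rfl) E hE.1 D hD
  -- `P` and `Z`
  have hex : ∀ D : {D // P D}, ∃ e : {e // Z e}, (e : C) ∈ Δ.Pan i D ∧ (D : C) ≠ e := by
    rintro ⟨D, hD⟩
    have hD1 : Δ.δ D (x • D) = m * (cs.simple i * cs.simple j * cs.simple i) := by rw [hD.1, ewt]
    obtain ⟨e, he, he'⟩ := exists_small S hij hm4 hmi hadd hD1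
    refine ⟨⟨e, hPanR i (Or.inl rfl) D (hPR D hD) e he, he'⟩, he, ?_⟩
    intro h1
    have h1' : D = e := h1
    rw [← h1', hD1] at he'
    rcases he' with h2 | h2 <;> have h3 := congrArg cs.length h2 <;> omega
  choose g hg1 hg2 using hex
  have hPZ : Nat.card {D // P D} ≤ Nat.card {e // Z e} * q := by
    have h1 : Nat.card {z : {e // Z e} × C // z.2 ∈ Δ.Pan i z.1 ∧ z.2 ≠ z.1} = Nat.card {e // Z e} * q := by
      rw [Nat.card_congr (Equiv.subtypeProdEquivSigmaSubtype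
        (fun (e : {e // Z e}) (z : C) => z ∈ Δ.Pan i e ∧ z ≠ e))]
      have := Fintype.ofFinite {e // Z e}
      rw [Nat.card_sigma, Finset.sum_congr rfl (fun e _ => card_pan_ne hqi e.1), Finset.sum_const, Finset.card_univ,
        smul_eq_mul, ← Nat.card_eq_fintype_card]
    rw [← h1]
    refine Nat.card_le_card_of_injective (fun D : {D // P D} => (⟨(g D, D), Δ.mem_Pan_symm (hg1 D), hg2 D⟩ :
      {z : {e // Z e} × C // z.2 ∈ Δ.Pan i z.1 ∧ z.2 ≠ z.1})) ?_
    intro D D' h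
    exact Subtype.ext (congrArg (fun z => z.1.2) h)
  -- disjointness
  have hsum : Nat.card {d // Y d} + Nat.card {D // P D} + Nat.card {e // Z e} ≤ R.ncard := by
    have a1 : Nat.card {d // Y d} = ({d | Y d} : Set C).ncard := by rw [← Nat.card_coe_set_eq]; rfl
    have a2 : Nat.card {d // P d} = ({d | P d} : Set C).ncard := by rw [← Nat.card_coe_set_eq]; rfl
    have a3 : Nat.card {d // Z d} = ({d | Z d} : Set C).ncard := by rw [← Nat.card_coe_set_eq]; rfl
    rw [a1, a2, a3, ← Set.ncard_union_eq ?_ (Set.toFinite _) (Set.toFinite _),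
      ← Set.ncard_union_eq ?_ (Set.toFinite _) (Set.toFinite _)]
    · refine Set.ncard_le_ncard ?_ (Set.toFinite _)
      rintro d ((hd | hd) | hd)
      · exact hd.1
      · exact hPR d hd
      · exact hd.1
    · rw [Set.disjoint_left]
      rintro d (hd | hd) hd'
      · have hd1 : Δ.δ d (x • d) = m * wE := hd.2
        rcases hd'.2 with h2 | h2 <;> rw [hd1] at h2 <;> have h3 := congrArg cs.length h2 <;> omega
      · have hd1 : Δ.δ d (x • d) = m * wE * cs.simple j := hd.1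
        rw [ewt] at hd1
        rcases hd'.2 with h2 | h2 <;> rw [hd1] at h2 <;> have h3 := congrArg cs.length h2 <;> omega
    · rw [Set.disjoint_left]
      rintro d hd hd'
      have hd1 : Δ.δ d (x • d) = m * wE := hd.2
      have hd2 : Δ.δ d (x • d) = m * wE * cs.simple j := hd'.1
      rw [hd1, ewt] at hd2
      have h3 := congrArg cs.length hd2
      omega
  change Nat.card {d // Y d} * (q * r + q + 1) ≤ q * r * R.ncard
  have hcard' : Nat.card {d // Y d} = Nat.card {D // P D} * r := hcard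
  rw [hcard'] at hsum ⊢
  generalize Nat.card {D // P D} = P' at *
  generalize Nat.card {e // Z e} = Z' at *
  generalize R.ncard = N at *
  -- `P' r + P' + Z' ≤ N`, `P' ≤ Z' q`
  have h1 : P' * (q * r + q + 1) ≤ q * N := by
    calc P' * (q * r + q + 1) = q * (P' * r + P') + P' := by ring
      _ ≤ q * (P' * r + P') + Z' * q := by omega
      _ = q * (P' * r + P' + Z') := by ring
      _ ≤ q * N := Nat.mul_le_mul_left q hsum
  calc P' * r * (q * r + q + 1) = r * (P' * (q * r + q + 1)) := by ring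
    _ ≤ r * (q * N) := Nat.mul_le_mul_left r h1
    _ = q * r * N := by ring

end Cfsg.Agent.H150.AH
end

-- part: H150/AH/Quad
section
/-!
# S2451: mixed roles in a residue of type `B2` (helper150)

* `local_count` : the double counting in a residue;
* `quad_false` : if `m w_E` is the only common displacement in `m W_E`, `E = {i, j}`, `m_ij = 4`, and `a⁻¹` has role 1
  at `j`, `b` has role 1 at `i`: contradiction.
-/

set_option autoImplicit false
set_option linter.unusedSectionVars false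
set_option linter.unusedVariables false

open scoped Pointwise

namespace Cfsg.Agent.H150.AH

open Cfsg.Agent.Tits.Core Cfsg.Agent.Tits.Core.Bldg Cfsg.Agent.Tits.Exchange Cfsg.Agent.Tits Cfsg.Agent.FixBN
open Cfsg.Agent.H197.Cls Cfsg.Agent.H330.ClassProd

variable {I : Type*} {M : CoxeterMatrix I} {W : Type*} [Group W] {cs : CoxeterSystem M W} {C : Type*}

local prefix:100 "ℓ" => cs.length

variable {Δ : Bldg cs C} {G : Type*} [Group G] [MulAction G C] {p : ℕ} (S : Sys Δ G p)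

/-- the pairs of two residues at distance `w` -/
abbrev XX (Δ : Bldg cs C) (J : Set I) (x y : C) (w : W) : Type _ :=
  {z : C × C // z.1 ∈ Δ.Res J x ∧ z.2 ∈ Δ.Res J y ∧ Δ.δ z.1 z.2 = w}

include S

/-- **The double counting in a residue.** -/
theorem local_count [hp : Fact p.Prime] [F : OppRes.Cox cs] [Finite C] [Finite G] (hth : Δ.Thick) {a b : G}
    (hab : Good p a b) {J : Set I} {w : W} {x0 : C} (h0 : Δ.δ x0 (a⁻¹ • x0) = w) (h1 : b • x0 = a⁻¹ • x0)
    (hmin : ∀ d ∈ Δ.Res J x0, Δ.δ d (a⁻¹ • d) ∈ Dis Δ a b → Δ.δ d (a⁻¹ • d) = w) :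
    Nat.card (XX Δ J x0 (a⁻¹ • x0) w) ≤
      Nat.card {d : C // d ∈ Δ.Res J x0 ∧ Δ.δ d (a⁻¹ • d) = w} *
        Nat.card {d : C // d ∈ Δ.Res J x0 ∧ Δ.δ d (b • d) = w} := by
  classical
  set R := Δ.Res J x0 with hR
  set R' := Δ.Res J (a⁻¹ • x0) with hR'
  let H : Subgroup G := MulAction.stabilizer G R ⊓ MulAction.stabilizer G R'
  have hHR : ∀ h ∈ H, ∀ d ∈ R, h • d ∈ R := by
    rintro h ⟨h2, -⟩ d hd
    have h3 : h • R = R := h2
    rw [← h3]
    exact Set.smul_mem_smul_set hd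
  have hHR' : ∀ h ∈ H, ∀ d ∈ R', h • d ∈ R' := by
    rintro h ⟨-, h2⟩ d hd
    have h3 : h • R' = R' := h2
    rw [← h3]
    exact Set.smul_mem_smul_set hd
  let X := XX Δ J x0 (a⁻¹ • x0) w
  have hXfin : Finite X := Subtype.finite
  let _ : MulAction H X :=
    { smul := fun g x => ⟨((g : G) • x.1.1, (g : G) • x.1.2), hHR g g.2 _ x.2.1, hHR' g g.2 _ x.2.2.1, by
        rw [S.iso]; exact x.2.2.2⟩
      one_smul := fun x => Subtype.ext (Prod.ext (one_smul G _) (one_smul G _))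
      mul_smul := fun g h x => Subtype.ext (Prod.ext (mul_smul (g : G) (h : G) _) (mul_smul (g : G) (h : G) _)) }
  have hcoe : ∀ (g : H) (x : X), ((g • x : X) : C × C) = ((g : G) • x.1.1, (g : G) • x.1.2) := fun _ _ => rfl
  have htr : ∀ x y : X, ∃ g : H, g • x = y := by
    rintro ⟨⟨x1, x2⟩, hx1, hx2, hx⟩ ⟨⟨y1, y2⟩, hy1, hy2, hy⟩
    obtain ⟨g, e1, e2⟩ := exists_smul_pair S hth (x := x1) (y := x2) (x' := y1) (y' := y2) (hx.trans hy.symm)
    have hg : g ∈ H := by
      constructor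
      · change g • R = R
        have h3 : R = Δ.Res J x1 := (Δ.Res_eq_of_mem hx1).symm
        have h4 : R = Δ.Res J y1 := (Δ.Res_eq_of_mem hy1).symm
        rw [h3, S.smul_Res, e1, ← h4, h3]
      · change g • R' = R'
        have h3 : R' = Δ.Res J x2 := (Δ.Res_eq_of_mem hx2).symm
        have h4 : R' = Δ.Res J y2 := (Δ.Res_eq_of_mem hy2).symm
        rw [h3, S.smul_Res, e2, ← h4, h3]
    exact ⟨⟨g, hg⟩, Subtype.ext (Prod.ext e1 e2)⟩
  let A := {d : C // d ∈ R ∧ Δ.δ d (a⁻¹ • d) = w}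
  let B := {d : C // d ∈ R ∧ Δ.δ d (b • d) = w}
  have haR : ∀ d ∈ R, a⁻¹ • d ∈ R' := fun d hd => S.smul_mem_Res hd
  have haR' : ∀ d ∈ R', a • d ∈ R := by
    intro d hd
    have h2 := S.smul_mem_Res (g := a) hd
    rwa [smul_inv_smul] at h2
  have hbR : ∀ d ∈ R, b • d ∈ R' := by
    intro d hd
    have h2 := S.smul_mem_Res (g := b) hd
    rwa [h1] at h2
  let pa : A → X := fun d => ⟨(d, a⁻¹ • (d : C)), d.2.1, haR d d.2.1, d.2.2⟩
  let pb : B → X := fun d => ⟨(d, b • (d : C)), d.2.1, hbR d d.2.1, d.2.2⟩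
  let T := {z : (A × B) × H // z.2 • pb z.1.2 = pa z.1.1}
  have hT : Nat.card T * Nat.card X = Nat.card A * Nat.card B * Nat.card H := by
    rw [Nat.card_congr (Equiv.subtypeProdEquivSigmaSubtype (fun (z : A × B) (g : H) => g • pb z.2 = pa z.1))]
    have := Fintype.ofFinite A
    have := Fintype.ofFinite B
    rw [Nat.card_sigma, Finset.sum_mul, Finset.sum_congr rfl (fun z _ => card_smul_eq htr (pb z.2) (pa z.1)),
      Finset.sum_const, Finset.card_univ, Fintype.card_prod, smul_eq_mul, ← Nat.card_eq_fintype_card,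
      ← Nat.card_eq_fintype_card]
  have hsurj : Function.Surjective (fun z : T => z.1.2) := by
    intro h
    have hPE : PE p (a * ((h : G) * b * (h : G)⁻¹)) := hab h
    have hinv : ∀ d ∈ R, (h : G)⁻¹ • d ∈ R := hHR _ (inv_mem h.2)
    have hzR : (a * ((h : G) * b * (h : G)⁻¹)) • x0 ∈ Δ.Res J x0 := by
      rw [mul_smul, mul_smul, mul_smul]
      exact haR' _ (hHR' h h.2 _ (hbR _ (hinv x0 (Δ.self_mem_Res J x0))))
    obtain ⟨d, hd, hfix⟩ := exists_fixed_res S hPE hzR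
    have hd1 : ((h : G) * b * (h : G)⁻¹) • d = a⁻¹ • d := by
      rw [eq_inv_smul_iff, ← mul_smul]
      exact hfix
    have hdis : Δ.δ d (a⁻¹ • d) ∈ Dis Δ a b := by
      have h2 := mem_dis (Δ := Δ) S hd1
      rw [hd1] at h2
      rwa [dis_conj S] at h2
    have hdw := hmin d hd hdis
    have hd2 : (h : G) • b • (h : G)⁻¹ • d = a⁻¹ • d := by
      rw [← hd1, mul_smul, mul_smul]
    have hB : (h : G)⁻¹ • d ∈ R ∧ Δ.δ ((h : G)⁻¹ • d) (b • (h : G)⁻¹ • d) = w := by
      refine ⟨hinv d hd, ?_⟩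
      rw [← S.iso (h : G), smul_inv_smul, hd2]
      exact hdw
    refine ⟨⟨((⟨d, hd, hdw⟩, ⟨(h : G)⁻¹ • d, hB⟩), h), ?_⟩, rfl⟩
    apply Subtype.ext
    rw [hcoe]
    exact Prod.ext (smul_inv_smul _ _) hd2
  have hcard := Nat.card_le_card_of_surjective _ hsurj
  have hHpos : 0 < Nat.card H := Nat.card_pos
  have h5 : Nat.card H * Nat.card X ≤ Nat.card H * (Nat.card A * Nat.card B) := by
    calc Nat.card H * Nat.card X ≤ Nat.card T * Nat.card X := Nat.mul_le_mul_right _ hcard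
      _ = Nat.card H * (Nat.card A * Nat.card B) := by rw [hT]; ring
  exact Nat.le_of_mul_le_mul_left h5 hHpos

omit S in
theorem Role1.conj (S : Sys Δ G p) {x : G} {i : I} {v : W} (h : Role1 Δ x i v) (g : G) :
    Role1 Δ (g * x * g⁻¹) i v := by
  intro E hE
  have e : ∀ D : C, Δ.δ (g⁻¹ • D) (x • g⁻¹ • D) = Δ.δ D ((g * x * g⁻¹) • D) := by
    intro D
    rw [← S.iso g, smul_inv_smul, mul_smul, mul_smul]
  obtain ⟨D, ⟨h1, h2⟩, h3⟩ := h (g⁻¹ • E) (by rw [e]; exact hE)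
  refine ⟨g • D, ⟨?_, ?_⟩, ?_⟩
  · have h4 := smul_mem_Pan S (g := g) h1
    rwa [smul_inv_smul] at h4
  · rw [← e, inv_smul_smul]; exact h2
  · rintro D' ⟨h4, h5⟩
    have h6 := h3 (g⁻¹ • D') ⟨smul_mem_Pan S h4, by rw [e]; exact h5⟩
    rw [← h6, smul_inv_smul]

variable [Finite I] [Finite W] [Finite C]

omit S [Finite I] [Finite W] in
theorem param_pos (hth : Δ.Thick) {i : I} {q : ℕ} (hq : Δ.Param i q) (x : C) : 0 < q := by
  obtain ⟨y, -, -, hy, -⟩ := hth x i
  rw [← card_pan_ne hq x]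
  have : Nonempty {y : C // y ∈ Δ.Pan i x ∧ y ≠ x} := ⟨⟨y, Δ.mem_Pan_of_δ hy, (Δ.ne_of_δ_simple hy).symm⟩⟩
  exact Nat.card_pos

/-- the number of the pairs -/
theorem card_XX {i j : I} (hij : i ≠ j) (hm4 : M i j = 4) {q r : ℕ} (hqi : Δ.Param i q) (hqj : Δ.Param j r) {m : W}
    (hmJ : ∀ u ∈ WJ cs {i, j}, u * m = m * u) (hadd : ∀ u ∈ WJ cs {i, j}, ℓ (m * u) = ℓ m + ℓ u) {x y : C}
    (hxy : m⁻¹ * Δ.δ x y ∈ WJ cs {i, j}) :
    (Δ.Res {i, j} x).ncard * (q * r * q * r) ≤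
      Nat.card (XX Δ {i, j} x y (m * (cs.simple i * cs.simple j * cs.simple i * cs.simple j))) := by
  classical
  have hsi := Generic.simple_mem_left cs i j
  have hsj := Generic.simple_mem_right cs i j
  have hwEm : cs.simple i * cs.simple j * cs.simple i * cs.simple j ∈ WJ cs {i, j} :=
    mul_mem (mul_mem (mul_mem hsi hsj) hsi) hsj
  -- for each chamber of the first residue a chamber at distance `m`
  have hex : ∀ d : Δ.Res {i, j} x, ∃ e ∈ Δ.Res {i, j} y, Δ.δ (d : C) e = m := by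
    rintro ⟨d, hd⟩
    obtain ⟨t, ht, e1⟩ := Δ.exists_mul_of_mem_left y (Δ.mem_Res.1 (Δ.mem_Res_symm hd))
    set v := m⁻¹ * Δ.δ x y with hv
    have e2 : Δ.δ d y = m * (t * v) := by
      rw [e1, show Δ.δ x y = m * v by rw [hv]; group, ← mul_assoc, hmJ t ht, mul_assoc]
    have hu : t * v ∈ WJ cs {i, j} := mul_mem ht hxy
    obtain ⟨e, he1, he2⟩ := Δ.exists_between e2 (hadd _ hu)
    exact ⟨e, Δ.mem_Res_symm (Δ.mem_Res.2 (by rw [he2]; exact hu)), he1⟩
  choose f hf1 hf2 using hex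
  have h1 : Nat.card {z : Δ.Res {i, j} x × C // Δ.δ (f z.1) z.2 =
      cs.simple i * cs.simple j * cs.simple i * cs.simple j} = (Δ.Res {i, j} x).ncard * (q * r * q * r) := by
    rw [Nat.card_congr (Equiv.subtypeProdEquivSigmaSubtype (fun (d : Δ.Res {i, j} x) (z : C) => Δ.δ (f d) z =
      cs.simple i * cs.simple j * cs.simple i * cs.simple j))]
    have := Fintype.ofFinite (Δ.Res {i, j} x)
    have h2 : ∀ d ∈ (Finset.univ : Finset (Δ.Res {i, j} x)), Nat.card {z : C // Δ.δ (f d) z =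
        cs.simple i * cs.simple j * cs.simple i * cs.simple j} = q * r * q * r :=
      fun d _ => cn_ijij hij hm4 hqi hqj (f d)
    rw [Nat.card_sigma, Finset.sum_congr rfl h2, Finset.sum_const,
      Finset.card_univ, smul_eq_mul, ← Nat.card_eq_fintype_card, Nat.card_coe_set_eq]
  rw [← h1]
  have : Finite (XX Δ {i, j} x y (m * (cs.simple i * cs.simple j * cs.simple i * cs.simple j))) := Subtype.finite
  refine Nat.card_le_card_of_injective (fun z => ⟨(z.1.1, z.1.2), z.1.1.2, ?_, ?_⟩) ?_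
  · refine Δ.mem_Res_trans (hf1 z.1.1) (Δ.mem_Res.2 ?_)
    rw [z.2]
    exact hwEm
  · exact Δ.δ_mul_of (hf2 z.1.1) z.2 (hadd _ hwEm)
  · intro z z' h
    have h2 := congrArg (fun t => t.1.1) h
    have h3 := congrArg (fun t => t.1.2) h
    exact Subtype.ext (Prod.ext (Subtype.ext h2) h3)

variable [hp : Fact p.Prime]

/-- **GAIN 1** : mixed roles at a pair `m_ij = 4`. -/
theorem quad_false [Finite G] (hth : Δ.Thick) {a b : G} (hab : Good p a b) {i j : I} (hij : i ≠ j) (hm4 : M i j = 4)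
    {m : W} (hmi : cs.simple i * m = m * cs.simple i) (hmj : cs.simple j * m = m * cs.simple j)
    (hli : ℓ m < ℓ (m * cs.simple i)) (hlj : ℓ m < ℓ (m * cs.simple j))
    (hmem : m * wJ cs {i, j} ∈ Dis Δ a b)
    (hmin : ∀ u ∈ WJ cs {i, j}, m * u ∈ Dis Δ a b → u = wJ cs {i, j})
    (ha : Role1 Δ a⁻¹ j (m * wJ cs {i, j})) (hb : Role1 Δ b i (m * wJ cs {i, j})) : False := by
  classical
  have hm4' : M j i = 4 := by rw [M.symmetric]; exact hm4
  have hadd : ∀ u ∈ WJ cs {i, j}, ℓ (m * u) = ℓ m + ℓ u := by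
    refine (isMinR_iff cs).2 ?_
    intro k hk
    rcases hk with rfl | hk
    · exact hli
    · rw [Set.mem_singleton_iff] at hk
      subst hk
      exact hlj
  have hadd' : ∀ u ∈ WJ cs {j, i}, ℓ (m * u) = ℓ m + ℓ u := by
    rw [Set.pair_comm]; exact hadd
  have hmJ : ∀ u ∈ WJ cs {i, j}, u * m = m * u := by
    refine comm_of_simple ?_
    intro k hk
    rcases hk with rfl | hk
    · exact hmi
    · rw [Set.mem_singleton_iff] at hk
      subst hk
      exact hmj
  have hwJ := Generic.wJ_four cs hij hm4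
  have hbr := Generic.braid_four cs hm4
  rw [hwJ] at hmem hmin ha hb
  obtain ⟨g, x0, hx0, hgb⟩ := exists_pair S hth hmem
  have hab' := hab.conjR g
  have hb' := hb.conj S g
  rw [← dis_conj S g] at hmin hmem
  set b' := g * b * g⁻¹ with hb'def
  have : Nonempty C := ⟨x0⟩
  obtain ⟨q, hq⟩ := exists_param S hth i
  obtain ⟨r, hr⟩ := exists_param S hth j
  have hq0 := param_pos hth hq x0
  have hr0 := param_pos hth hr x0
  have hwEm : cs.simple i * cs.simple j * cs.simple i * cs.simple j ∈ WJ cs {i, j} :=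
    mul_mem (mul_mem (mul_mem (Generic.simple_mem_left cs i j) (Generic.simple_mem_right cs i j))
      (Generic.simple_mem_left cs i j)) (Generic.simple_mem_right cs i j)
  have h0 : m⁻¹ * Δ.δ x0 (a⁻¹ • x0) ∈ WJ cs {i, j} := by
    rw [hx0, inv_mul_cancel_left]
    exact hwEm
  have h1 := local_count S hth hab' hx0 hgb (J := {i, j}) (fun d hd hdd => by
    have h2 := disp_mem S hmJ h0 hd
    have h3 := hmin _ h2 (by rw [mul_inv_cancel_left]; exact hdd)
    rw [← h3, mul_inv_cancel_left])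
  have h2 := card_XX S hij hm4 hq hr hmJ hadd h0
  have hA := quad_ineq S hij hm4 hq hr hmi hmj hadd (x0 := x0) ha
  have hB := quad_ineq S hij.symm hm4' hr hq hmj hmi hadd' (x0 := x0) (x := b') (by rw [← hbr]; exact hb')
  rw [Set.pair_comm j i, ← hbr] at hB
  have hN := card_Res_four (Δ := Δ) hij hm4 hq hr x0
  have hNpos : 0 < (Δ.Res {i, j} x0).ncard := by
    rw [Set.ncard_pos (Set.toFinite _)]
    exact ⟨x0, Δ.self_mem_Res _ x0⟩
  have h3 := h2.trans h1
  generalize (Δ.Res {i, j} x0).ncard = N at *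
  generalize Nat.card {d : C // d ∈ Δ.Res {i, j} x0 ∧
    Δ.δ d (a⁻¹ • d) = m * (cs.simple i * cs.simple j * cs.simple i * cs.simple j)} = nA at *
  generalize Nat.card {d : C // d ∈ Δ.Res {i, j} x0 ∧
    Δ.δ d (b' • d) = m * (cs.simple i * cs.simple j * cs.simple i * cs.simple j)} = nB at *
  have h4 : (N * (q * r * q * r)) * ((q * r + q + 1) * (q * r + r + 1)) ≤ (N * (q * r * q * r)) * N := by
    calc (N * (q * r * q * r)) * ((q * r + q + 1) * (q * r + r + 1))
        ≤ (nA * nB) * ((q * r + q + 1) * (q * r + r + 1)) := Nat.mul_le_mul_right _ h3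
      _ = (nA * (q * r + q + 1)) * (nB * (r * q + r + 1)) := by ring
      _ ≤ (q * r * N) * (r * q * N) := Nat.mul_le_mul hA hB
      _ = (N * (q * r * q * r)) * N := by ring
  have h5 : 0 < N * (q * r * q * r) := by (clear * - hq0 hr0 hNpos; positivity)
  have h6 := (Nat.le_of_mul_le_mul_left h4 h5).trans hN
  have h7 : (q * r + q + 1) * (q * r + r + 1) = (1 + q) * (1 + r) * (1 + q * r) + q * r := by ring
  rw [h7] at h6
  have h8 : 0 < q * r := Nat.mul_pos hq0 hr0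
  omega

end Cfsg.Agent.H150.AH
end

-- part: H197/Cls/RankOne
section
/-!
# S2451, helper197: the rank one lemma

`R` a finite set, `U D` (`D ∈ R`) groups of permutations, `U D` fixes `D` and is regular on the rest, the `U D` are permuted
by conjugation (a Moufang set). `α`, `ψ` permutations, `α` without fixed points, such that each `α⁻¹ * (h * ψ * h⁻¹)`,
`h` in the group generated by the `U D`, lies in some `U D`. Then `ψ` has exactly one fixed point.
-/

set_option autoImplicit false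
set_option linter.unusedSectionVars false

namespace Cfsg.Agent.H197.Cls

theorem inv_ap {R : Type*} (g : Equiv.Perm R) (x : R) : g⁻¹ (g x) = x := g.symm_apply_apply x

theorem ap_inv {R : Type*} (g : Equiv.Perm R) (x : R) : g (g⁻¹ x) = x := g.apply_symm_apply x

/-- a Moufang set of permutations -/
structure MouSet {R : Type*} (U : R → Subgroup (Equiv.Perm R)) : Prop where
  fix : ∀ D, ∀ u ∈ U D, u D = D
  move : ∀ D E F, E ≠ D → F ≠ D → ∃ u ∈ U D, u E = F
  semi : ∀ D E, E ≠ D → ∀ u ∈ U D, u E = E → u = 1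
  conj : ∀ D E, ∀ g ∈ U E, ∀ u ∈ U D, g * u * g⁻¹ ∈ U (g D)

namespace MouSet

variable {R : Type*} {U : R → Subgroup (Equiv.Perm R)} (h : MouSet U)

include h

theorem conjL {g : Equiv.Perm R} (hg : g ∈ ⨆ D, U D) : ∀ D, ∀ u ∈ U D, g * u * g⁻¹ ∈ U (g D) := by
  induction hg using Subgroup.iSup_induction' with
  | hp i x hx => exact fun D u hu => h.conj D i x hx u hu
  | h1 => intro D u hu; simpa using hu
  | hmul x y hx hy ihx ihy =>
    intro D u hu
    have h1 := ihx _ _ (ihy D u hu)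
    have e : x * (y * u * y⁻¹) * x⁻¹ = x * y * u * (x * y)⁻¹ := by group
    rwa [e] at h1

theorem two [Finite R] (h3 : 3 ≤ Nat.card R) {D T D' T' : R} (h1 : D ≠ T) (h2 : D' ≠ T') :
    ∃ g ∈ ⨆ D, U D, g D = D' ∧ g T = T' := by
  classical
  have : Fintype R := Fintype.ofFinite R
  obtain ⟨E, hE⟩ : ∃ E, E ∉ ({D, D'} : Finset R) := by
    by_contra hcon
    push Not at hcon
    have h4 : (Finset.univ : Finset R) ⊆ {D, D'} := fun x _ => hcon x
    have h5 := Finset.card_le_card h4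
    have h6 := Finset.card_le_two (a := D) (b := D')
    rw [Finset.card_univ, ← Nat.card_eq_fintype_card] at h5
    omega
  simp only [Finset.mem_insert, Finset.mem_singleton, not_or] at hE
  obtain ⟨u, hu, hu1⟩ := h.move E D D' (Ne.symm hE.1) (Ne.symm hE.2)
  have h4 : u T ≠ D' := by
    rw [← hu1]
    exact fun h5 => h1 (u.injective h5).symm
  obtain ⟨v, hv, hv1⟩ := h.move D' (u T) T' h4 (Ne.symm h2)
  refine ⟨v * u, mul_mem (Subgroup.mem_iSup_of_mem D' hv) (Subgroup.mem_iSup_of_mem E hu), ?_, ?_⟩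
  · rw [Equiv.Perm.mul_apply, hu1, h.fix D' v hv]
  · rw [Equiv.Perm.mul_apply, hv1]

theorem card_U [Finite R] (D : R) (h3 : 3 ≤ Nat.card R) : Nat.card (U D) + 1 = Nat.card R := by
  classical
  have : Fintype R := Fintype.ofFinite R
  obtain ⟨E, hE⟩ : ∃ E, E ≠ D := by
    by_contra hcon
    push Not at hcon
    have h4 : (Finset.univ : Finset R) ⊆ {D} := fun x _ => by simp [hcon x]
    have h5 := Finset.card_le_card h4
    rw [Finset.card_univ, ← Nat.card_eq_fintype_card, Finset.card_singleton] at h5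
    omega
  have e : U D ≃ {F : R // F ≠ D} := by
    refine Equiv.ofBijective (fun u => ⟨u.1 E, fun h1 => hE ?_⟩) ⟨?_, ?_⟩
    · have h2 := h.fix D u.1 u.2
      exact u.1.injective (h1.trans h2.symm)
    · intro u v huv
      have h1 : u.1 E = v.1 E := congrArg Subtype.val huv
      have h2 : (v.1⁻¹ * u.1) E = E := by
        rw [Equiv.Perm.mul_apply, h1, inv_ap]
      have h4 := h.semi D E hE _ (mul_mem (inv_mem v.2) u.2) h2
      rw [inv_mul_eq_one] at h4
      exact Subtype.ext h4.symm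
    · rintro ⟨F, hF⟩
      obtain ⟨u, hu, hu1⟩ := h.move D E F hE hF
      exact ⟨⟨u, hu⟩, Subtype.ext hu1⟩
  rw [Nat.card_congr e, Nat.card_eq_fintype_card, Nat.card_eq_fintype_card, Fintype.card_subtype_compl,
    Fintype.card_subtype_eq]
  have : 0 < Fintype.card R := Fintype.card_pos_iff.2 ⟨D⟩
  omega

end MouSet

/-- **The rank one lemma.** -/
theorem rankOne {R : Type*} [Finite R] {U : R → Subgroup (Equiv.Perm R)} (hU : MouSet U) (h3 : 3 ≤ Nat.card R)
    {α ψ : Equiv.Perm R} (hα : ∀ D, α D ≠ D)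
    (H : ∀ h ∈ ⨆ D, U D, ∃ D, α⁻¹ * (h * ψ * h⁻¹) ∈ U D) : ∃! D, ψ D = D := by
  classical
  have : Fintype R := Fintype.ofFinite R
  have hn : Nat.card R = Fintype.card R := Nat.card_eq_fintype_card
  set L : Subgroup (Equiv.Perm R) := ⨆ D, U D with hL
  let Ψ : Finset (Equiv.Perm R) := Finset.univ.filter fun σ => ∃ h ∈ L, σ = h * ψ * h⁻¹
  have hΨ : ∀ σ, σ ∈ Ψ ↔ ∃ h ∈ L, σ = h * ψ * h⁻¹ := fun σ => by simp only [Ψ, _root_.Finset.mem_filter, _root_.Finset.mem_univ, _root_.true_and]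
  have hψΨ : ψ ∈ Ψ := (hΨ _).2 ⟨1, one_mem _, by group⟩
  have hconjΨ : ∀ g ∈ L, ∀ σ ∈ Ψ, g * σ * g⁻¹ ∈ Ψ := by
    intro g hg σ hσ
    obtain ⟨k, hk, rfl⟩ := (hΨ _).1 hσ
    exact (hΨ _).2 ⟨g * k, mul_mem hg hk, by group⟩
  let κ : R → R → ℕ := fun D T => (Ψ.filter fun σ => σ D = T).card
  have hκ : ∀ D T D' T', D ≠ T → D' ≠ T' → κ D T = κ D' T' := by
    intro D T D' T' h1 h2
    obtain ⟨g, hg, hg1, hg2⟩ := hU.two h3 h1 h2
    refine Finset.card_nbij' (fun σ => g * σ * g⁻¹) (fun σ => g⁻¹ * σ * g) ?_ ?_ ?_ ?_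
    · intro σ hσ
      simp only [Finset.coe_filter, Set.mem_ofPred_eq] at hσ ⊢
      refine ⟨hconjΨ g hg σ hσ.1, ?_⟩
      rw [Equiv.Perm.mul_apply, Equiv.Perm.mul_apply, ← hg1, inv_ap, hσ.2, hg2]
    · intro σ hσ
      simp only [Finset.coe_filter, Set.mem_ofPred_eq] at hσ ⊢
      have h4 := hconjΨ g⁻¹ (inv_mem hg) σ hσ.1
      rw [inv_inv] at h4
      refine ⟨h4, ?_⟩
      rw [Equiv.Perm.mul_apply, Equiv.Perm.mul_apply, hg1, hσ.2, ← hg2, inv_ap]
    · intro σ _
      change g⁻¹ * (g * σ * g⁻¹) * g = σ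
      group
    · intro σ _
      change g * (g⁻¹ * σ * g) * g⁻¹ = σ
      group
  -- two different points
  obtain ⟨D0, T0, hDT⟩ : ∃ D T : R, D ≠ T := by
    have : Nontrivial R := by
      rw [← Fintype.one_lt_card_iff_nontrivial, ← hn]; omega
    exact exists_pair_ne R
  set k := κ D0 T0 with hk
  -- the first sum
  have hsum1 : ∑ σ ∈ Ψ, (Finset.univ.filter fun D => σ D = α D).card = Fintype.card R * k := by
    have h1 : ∑ σ ∈ Ψ, (Finset.univ.filter fun D => σ D = α D).card =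
        ∑ D : R, (Ψ.filter fun σ => σ D = α D).card :=
      Finset.sum_card_bipartiteAbove_eq_sum_card_bipartiteBelow (s := Ψ) (t := (Finset.univ : Finset R))
        (fun (σ : Equiv.Perm R) (D : R) => σ D = α D)
    rw [h1, Finset.sum_congr rfl (fun D _ => hκ D (α D) D0 T0 (Ne.symm (hα D)) hDT), Finset.sum_const,
      Finset.card_univ, smul_eq_mul]
  -- the second sum
  have hsum2 : ∑ σ ∈ Ψ, (Finset.univ.filter fun D => σ D ≠ D).card = Fintype.card R * ((Fintype.card R - 1) * k) := by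
    have h1 : ∑ σ ∈ Ψ, (Finset.univ.filter fun D => σ D ≠ D).card =
        ∑ D : R, (Ψ.filter fun σ => σ D ≠ D).card :=
      Finset.sum_card_bipartiteAbove_eq_sum_card_bipartiteBelow (s := Ψ) (t := (Finset.univ : Finset R))
        (fun (σ : Equiv.Perm R) (D : R) => σ D ≠ D)
    have h2 : ∀ D : R, (Ψ.filter fun σ => σ D ≠ D).card = (Fintype.card R - 1) * k := by
      intro D
      rw [Finset.card_eq_sum_card_fiberwise (f := fun σ : Equiv.Perm R => σ D) (t := Finset.univ.erase D)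
        (fun σ hσ => by
          simp only [Finset.coe_filter, Set.mem_ofPred_eq] at hσ
          simp only [hσ.2, _root_.Finset.coe_erase, _root_.Finset.coe_univ, _root_.Set.mem_sdiff, _root_.Set.mem_univ, _root_.Set.mem_singleton_iff, _root_.not_false_eq_true, _root_.and_self])]
      rw [Finset.sum_congr rfl (g := fun _ => k) (fun T hT => ?_), Finset.sum_const,
        Finset.card_erase_of_mem (Finset.mem_univ D), Finset.card_univ, smul_eq_mul]
      have hT' : T ≠ D := by simpa only [_root_.ne_eq, _root_.Finset.mem_erase, _root_.Finset.mem_univ, _root_.and_true] using hT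
      rw [Finset.filter_filter, hk, ← hκ D T D0 T0 (Ne.symm hT') hDT]
      refine congrArg Finset.card (Finset.filter_congr fun σ _ => ?_)
      constructor
      · exact fun h => h.2
      · exact fun h => ⟨by rw [h]; exact hT', h⟩
    rw [h1, Finset.sum_congr rfl (fun D _ => h2 D), Finset.sum_const, Finset.card_univ, smul_eq_mul]
  -- the number of moved points is constant
  set m := (Finset.univ.filter fun D => ψ D ≠ D).card with hm
  have hmconst : ∀ σ ∈ Ψ, (Finset.univ.filter fun D => σ D ≠ D).card = m := by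
    intro σ hσ
    obtain ⟨g, -, rfl⟩ := (hΨ _).1 hσ
    refine Finset.card_nbij' (fun D => g⁻¹ D) (fun D => g D) ?_ ?_ ?_ ?_
    · intro D hD
      simp only [Finset.coe_filter, Set.mem_ofPred_eq, Finset.mem_univ, true_and] at hD ⊢
      intro h4
      apply hD
      rw [Equiv.Perm.mul_apply, Equiv.Perm.mul_apply, h4, ap_inv]
    · intro D hD
      simp only [Finset.coe_filter, Set.mem_ofPred_eq, Finset.mem_univ, true_and] at hD ⊢
      intro h4
      apply hD
      rw [Equiv.Perm.mul_apply, Equiv.Perm.mul_apply, inv_ap] at h4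
      exact g.injective h4
    · intro D _
      exact ap_inv g D
    · intro D _
      exact inv_ap g D
  rw [Finset.sum_congr rfl hmconst, Finset.sum_const, smul_eq_mul] at hsum2
  have hcard : 0 < Ψ.card := Finset.card_pos.2 ⟨ψ, hψΨ⟩
  -- the condition for the elements of `Ψ`
  have H' : ∀ σ ∈ Ψ, ∃ D, α⁻¹ * σ ∈ U D := by
    intro σ hσ
    obtain ⟨g, hg, rfl⟩ := (hΨ _).1 hσ
    exact H g hg
  have hone : ∀ σ ∈ Ψ, σ ≠ α → (Finset.univ.filter fun D => σ D = α D).card = 1 := by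
    intro σ hσ hne
    obtain ⟨D, hD⟩ := H' σ hσ
    rw [Finset.card_eq_one]
    refine ⟨D, ?_⟩
    ext E
    simp only [Finset.mem_filter, Finset.mem_univ, true_and, Finset.mem_singleton]
    constructor
    · intro h4
      by_contra hED
      have h5 := hU.semi D E hED _ hD (by rw [Equiv.Perm.mul_apply, h4, inv_ap])
      rw [inv_mul_eq_one] at h5
      exact hne h5.symm
    · rintro rfl
      have h5 := hU.fix E _ hD
      rw [Equiv.Perm.mul_apply, Equiv.Perm.inv_eq_iff_eq] at h5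
      exact h5
  have hkpos : 0 < k := by
    by_contra hcon
    have hk0 : k = 0 := by omega
    rw [hk0, Nat.mul_zero, Nat.mul_zero, Nat.mul_eq_zero] at hsum2
    have hm0 : m = 0 := by omega
    obtain ⟨D, hD⟩ := H' ψ hψΨ
    have h5 := hU.fix D _ hD
    rw [Equiv.Perm.mul_apply, Equiv.Perm.inv_eq_iff_eq] at h5
    rw [hm, Finset.card_eq_zero, Finset.filter_eq_empty_iff] at hm0
    have h6 := hm0 (Finset.mem_univ D)
    push Not at h6
    rw [h6] at h5
    exact hα D h5.symm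
  have hn3 : 3 ≤ Fintype.card R := by rw [← hn]; exact h3
  by_cases hf : ∃ D, ψ D = D
  · -- `f ≥ 1`
    have hne : ∀ σ ∈ Ψ, σ ≠ α := by
      rintro σ hσ rfl
      obtain ⟨g, -, hg⟩ := (hΨ _).1 hσ
      obtain ⟨D, hD⟩ := hf
      apply hα (g D)
      rw [hg, Equiv.Perm.mul_apply, Equiv.Perm.mul_apply, inv_ap, hD]
    rw [Finset.sum_congr rfl (fun σ hσ => hone σ hσ (hne σ hσ)), Finset.sum_const, smul_eq_mul, mul_one] at hsum1
    rw [hsum1] at hsum2
    have hm1 : m = Fintype.card R - 1 := by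
      have h4 : (Fintype.card R * k) * m = (Fintype.card R * k) * (Fintype.card R - 1) := by
        rw [hsum2]; ring
      exact Nat.eq_of_mul_eq_mul_left (Nat.mul_pos (by omega) hkpos) h4
    obtain ⟨D, hD⟩ := hf
    refine ⟨D, hD, fun E hE => ?_⟩
    by_contra hne'
    have h4 : (Finset.univ.filter fun D => ψ D ≠ D) ⊆ (Finset.univ.erase D).erase E := by
      intro X hX
      simp only [Finset.mem_filter, Finset.mem_univ, true_and] at hX
      simp only [Finset.mem_erase, Finset.mem_univ, and_true, ne_eq]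
      refine ⟨?_, ?_⟩
      · rintro rfl; exact hX hE
      · rintro rfl; exact hX hD
    have h5 := Finset.card_le_card h4
    rw [Finset.card_erase_of_mem (by simp only [hne', _root_.Finset.mem_erase, _root_.ne_eq, _root_.not_false_eq_true, _root_.Finset.mem_univ, _root_.and_self]), Finset.card_erase_of_mem (Finset.mem_univ D), Finset.card_univ,
      ← hm] at h5
    omega
  · -- `f = 0`
    exfalso
    push Not at hf
    have hmn : m = Fintype.card R := by
      rw [hm, Finset.filter_true_of_mem (fun D _ => hf D), Finset.card_univ]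
    rw [hmn] at hsum2
    have hΨc : Ψ.card = (Fintype.card R - 1) * k := by
      have h4 : Fintype.card R * Ψ.card = Fintype.card R * ((Fintype.card R - 1) * k) := by
        rw [mul_comm, hsum2]
      exact Nat.eq_of_mul_eq_mul_left (by omega) h4
    have hαΨ : α ∈ Ψ := by
      by_contra hcon
      rw [Finset.sum_congr rfl (fun σ hσ => hone σ hσ (fun h4 => hcon (h4 ▸ hσ))), Finset.sum_const, smul_eq_mul,
        mul_one, hΨc] at hsum1
      have h5 := Nat.eq_of_mul_eq_mul_right hkpos hsum1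
      omega
    -- `k = q`
    have hkq : k = Fintype.card R - 1 := by
      rw [← Finset.add_sum_erase _ _ hαΨ] at hsum1
      have h4 : (Finset.univ.filter fun D => α D = α D).card = Fintype.card R := by
        rw [Finset.filter_true_of_mem (fun _ _ => rfl), Finset.card_univ]
      rw [h4, Finset.sum_congr rfl (fun σ hσ => hone σ (Finset.mem_of_mem_erase hσ) (Finset.ne_of_mem_erase hσ)),
        Finset.sum_const, smul_eq_mul, mul_one, Finset.card_erase_of_mem hαΨ, hΨc] at hsum1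
      obtain ⟨n', hn'⟩ : ∃ n', Fintype.card R = n' + 1 := ⟨Fintype.card R - 1, by omega⟩
      rw [hn'] at hsum1 ⊢
      simp only [Nat.add_sub_cancel] at hsum1 ⊢
      have h5 : 1 ≤ n' * k := Nat.mul_pos (by omega) hkpos
      have h6 : (n' + 1) * k = n' * k + k := by ring
      omega
    -- `α u ∈ Ψ`
    have hmemU : ∀ D, ∀ u ∈ U D, α * u ∈ Ψ := by
      intro D u hu
      let A : Finset (Equiv.Perm R) := (Ψ.filter fun σ => σ D = α D).image fun σ => α⁻¹ * σ
      let B : Finset (Equiv.Perm R) := Finset.univ.filter fun v => v ∈ U D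
      have hAB : A ⊆ B := by
        intro v hv
        simp only [A, Finset.mem_image, Finset.mem_filter] at hv
        obtain ⟨σ, ⟨hσ, hσD⟩, rfl⟩ := hv
        simp only [B, Finset.mem_filter, Finset.mem_univ, true_and]
        obtain ⟨E, hE⟩ := H' σ hσ
        by_cases hDE : D = E
        · rw [hDE]; exact hE
        · have h5 := hU.semi E D hDE _ hE (by rw [Equiv.Perm.mul_apply, hσD, inv_ap])
          rw [h5]; exact one_mem _
      have hAc : A.card = k := by
        rw [Finset.card_image_of_injective _ (mul_right_injective _), hk]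
        exact hκ D (α D) D0 T0 (Ne.symm (hα D)) hDT
      have hBc : B.card = Fintype.card R - 1 := by
        have h4 := hU.card_U D h3
        have h5 : B.card = Nat.card (U D) := by
          rw [Nat.card_eq_fintype_card]
          exact (Fintype.card_subtype (fun v => v ∈ U D)).symm
        rw [h5]
        omega
      have hEq := Finset.eq_of_subset_of_card_le hAB (by rw [hAc, hBc, hkq])
      have h6 : u ∈ A := by rw [hEq]; simp [B, hu]
      simp only [A, Finset.mem_image, Finset.mem_filter] at h6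
      obtain ⟨σ, ⟨hσ, -⟩, rfl⟩ := h6
      rw [mul_inv_cancel_left]
      exact hσ
    -- products
    have hprod : ∀ D E, ∀ u ∈ U D, ∀ w ∈ U E, ∃ X, u * w ∈ U X := by
      intro D E u hu w hw
      obtain ⟨h0, hh0, e0⟩ := (hΨ _).1 hαΨ
      obtain ⟨h1, hh1, e1⟩ := (hΨ _).1 (hmemU D u⁻¹ (inv_mem hu))
      obtain ⟨h2, hh2, e2⟩ := (hΨ _).1 (hmemU E w hw)
      have hg : h1 * h0⁻¹ ∈ L := mul_mem hh1 (inv_mem hh0)
      set g := h1 * h0⁻¹ with hgdef
      have e3 : α * u⁻¹ = g * α * g⁻¹ := by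
        rw [e1]
        nth_rewrite 1 [e0]
        rw [hgdef]; group
      obtain ⟨X, hX⟩ := H (g⁻¹ * h2) (mul_mem (inv_mem hg) hh2)
      refine ⟨g X, ?_⟩
      have h5 := hU.conjL hg X _ hX
      have e4 : g * (α⁻¹ * (g⁻¹ * h2 * ψ * (g⁻¹ * h2)⁻¹)) * g⁻¹ = (g * α * g⁻¹)⁻¹ * (h2 * ψ * h2⁻¹) := by group
      rw [e4, ← e3, ← e2] at h5
      have e5 : (α * u⁻¹)⁻¹ * (α * w) = u * w := by group
      rwa [e5] at h5
    -- the final contradiction
    obtain ⟨u, hu, hu1⟩ : ∃ u ∈ U D0, u ≠ 1 := by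
      by_contra hcon
      push Not at hcon
      have h4 : Nat.card (U D0) = 1 := by
        rw [Subgroup.card_eq_one, Subgroup.eq_bot_iff_forall]
        exact hcon
      have h5 := hU.card_U D0 h3
      omega
    have huT : u T0 ≠ T0 := fun h4 => hu1 (hU.semi D0 T0 (Ne.symm hDT) u hu h4)
    have huD : u T0 ≠ D0 := fun h4 => hDT ((u.injective (h4.trans (hU.fix D0 u hu).symm)).symm)
    let B : Finset (Equiv.Perm R) := (Finset.univ.filter fun v => v ∈ U T0).erase 1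
    have hBc : B.card = Fintype.card R - 2 := by
      have h4 := hU.card_U T0 h3
      have h5 : (Finset.univ.filter fun v => v ∈ U T0).card = Nat.card (U T0) := by
        rw [Nat.card_eq_fintype_card]
        exact (Fintype.card_subtype (fun v => v ∈ U T0)).symm
      rw [Finset.card_erase_of_mem (by simp), h5]
      (clear * - hn h4; omega)
    have hF : ∀ w ∈ B, ∃ F, u (w F) = F ∧ F ≠ D0 ∧ F ≠ T0 ∧ F ≠ u T0 := by
      intro w hw
      simp only [B, Finset.mem_erase, Finset.mem_filter, Finset.mem_univ, true_and] at hw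
      obtain ⟨X, hX⟩ := hprod D0 T0 u hu w hw.2
      have h5 := hU.fix X _ hX
      rw [Equiv.Perm.mul_apply] at h5
      refine ⟨X, h5, ?_, ?_, ?_⟩
      · rintro rfl
        have h6 : w X = X := by
          apply u.injective
          rw [h5, hU.fix X u hu]
        exact hw.1 (hU.semi T0 X hDT w hw.2 h6)
      · rintro rfl
        rw [hU.fix X w hw.2] at h5
        exact huT h5
      · rintro rfl
        have h6 := u.injective h5
        have h7 : w (u T0) = w T0 := by rw [h6, hU.fix T0 w hw.2]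
        exact huT (w.injective h7)
    have : Nonempty R := ⟨D0⟩
    choose! f hf1 hf2 hf3 hf4 using hF
    have hinj : Set.InjOn f (B : Set (Equiv.Perm R)) := by
      intro w hw w' hw' hww
      have h5 := hf1 w hw
      have h6 := hf1 w' hw'
      rw [← hww] at h6
      have h7 : w (f w) = w' (f w) := u.injective (h5.trans h6.symm)
      have hw1 : w ∈ U T0 := by
        have := hw
        simp only [B, Finset.coe_erase, Finset.coe_filter, Finset.mem_univ, true_and, Set.mem_sdiff,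
          Set.mem_ofPred_eq] at this
        exact this.1
      have hw2 : w' ∈ U T0 := by
        have := hw'
        simp only [B, Finset.coe_erase, Finset.coe_filter, Finset.mem_univ, true_and, Set.mem_sdiff,
          Set.mem_ofPred_eq] at this
        exact this.1
      have h8 := hU.semi T0 (f w) (hf3 w hw) _ (mul_mem (inv_mem hw2) hw1)
        (by rw [Equiv.Perm.mul_apply, h7, inv_ap])
      rw [inv_mul_eq_one] at h8
      exact h8.symm
    have hle : B.card ≤ (((Finset.univ.erase D0).erase T0).erase (u T0)).card := by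
      refine Finset.card_le_card_of_injOn f ?_ hinj
      intro w hw
      have hw' : w ∈ B := hw
      simp only [Finset.coe_erase, Finset.coe_univ, Set.mem_sdiff, Set.mem_univ, Set.mem_singleton_iff, true_and]
      exact ⟨⟨hf2 w hw', hf3 w hw'⟩, hf4 w hw'⟩
    have c1 : (((Finset.univ.erase D0).erase T0).erase (u T0)).card = Fintype.card R - 1 - 1 - 1 := by
      rw [Finset.card_erase_of_mem (by
        rw [Finset.mem_erase, Finset.mem_erase]; exact ⟨huT, huD, Finset.mem_univ _⟩),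
        Finset.card_erase_of_mem (by rw [Finset.mem_erase]; exact ⟨Ne.symm hDT, Finset.mem_univ _⟩),
        Finset.card_erase_of_mem (Finset.mem_univ D0), Finset.card_univ]
    rw [hBc, c1] at hle
    omega

end Cfsg.Agent.H197.Cls
end

-- part: H197/Cls/Roles
section
/-!
# S2451, helper197: the roles

`v ∈ Dis Δ a b`, `s_i v = v s_i < v`, `v s_i ∉ Dis Δ a b`. Then one of `a⁻¹`, `b` has no chamber of displacement `v s_i`
(`RoleE`), and the other one has exactly one such chamber in each `i`-panel at the position `{v, v s_i}` (`RoleO`).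
-/

set_option autoImplicit false
set_option linter.unusedSectionVars false

open scoped Pointwise

namespace Cfsg.Agent.H197.Cls

open Cfsg.Agent.Tits.Core Cfsg.Agent.Tits.Core.Bldg Cfsg.Agent.Tits.Exchange Cfsg.Agent.Tits Cfsg.Agent.FixBN

variable {I : Type*} {M : CoxeterMatrix I} {W : Type*} [Group W] {cs : CoxeterSystem M W} {C : Type*}

local prefix:100 "ℓ" => cs.length

/-- parallel panels: `x0`, `y0` correspond to each other -/
structure PP (Δ : Bldg cs C) (i : I) (x0 y0 : C) : Prop where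
  lt : ℓ (Δ.δ x0 y0) < ℓ (Δ.δ x0 y0 * cs.simple i)
  comm : cs.simple i * Δ.δ x0 y0 = Δ.δ x0 y0 * cs.simple i

namespace PP

variable {Δ : Bldg cs C} {i : I} {x0 y0 : C} (h : PP Δ i x0 y0)

include h

theorem swap : PP Δ i y0 x0 := by
  have e : Δ.δ y0 x0 = (Δ.δ x0 y0)⁻¹ := Δ.symm x0 y0
  refine ⟨?_, ?_⟩
  · have h1 := h.lt
    rw [← h.comm] at h1
    rw [e, cs.length_inv, ← cs.length_inv (_ * cs.simple i), mul_inv_rev, inv_inv, cs.inv_simple]
    exact h1
  · have h2 := congrArg (fun z => z⁻¹) h.comm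
    simp only [mul_inv_rev, cs.inv_simple] at h2
    rw [e]
    exact h2.symm

theorem ne_self : Δ.δ x0 y0 * cs.simple i ≠ Δ.δ x0 y0 := by
  intro h1
  have h2 := h.lt
  rw [h1] at h2
  omega

theorem ex {D : C} (hD : D ∈ Δ.Pan i x0) : ∃ T ∈ Δ.Pan i y0, Δ.δ D T = Δ.δ x0 y0 := by
  rcases eq_or_ne D x0 with rfl | hne
  · exact ⟨y0, Δ.self_mem_Pan i y0, rfl⟩
  · have h1 : Δ.δ D y0 = cs.simple i * Δ.δ x0 y0 :=
      Δ.step_lt_left (Δ.δ_eq_of_mem_Pan hD (Δ.self_mem_Pan i x0) hne) (by rw [h.comm]; exact h.lt)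
    obtain ⟨z, hz, hz'⟩ := Δ.exists_step D y0 i
    refine ⟨z, Δ.mem_Pan_of_δ hz, ?_⟩
    rw [hz', h1, h.comm, mul_assoc, cs.simple_mul_simple_self, mul_one]

theorem delta {D T T' : C} (hT : T ∈ Δ.Pan i y0) (hT' : T' ∈ Δ.Pan i y0) (hd : Δ.δ D T = Δ.δ x0 y0) (hne : T' ≠ T) :
    Δ.δ D T' = Δ.δ x0 y0 * cs.simple i := by
  have h1 : Δ.δ T T' = cs.simple i := Δ.δ_eq_of_mem_Pan hT hT' hne.symm
  rw [← hd]
  exact Δ.step_lt D T T' i h1 (by rw [hd]; exact h.lt)

theorem uniq {D T T' : C} (hT : T ∈ Δ.Pan i y0) (hT' : T' ∈ Δ.Pan i y0) (hd : Δ.δ D T = Δ.δ x0 y0)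
    (hd' : Δ.δ D T' = Δ.δ x0 y0) : T' = T := by
  by_contra hne
  have h1 := h.delta hT hT' hd hne
  rw [hd'] at h1
  exact h.ne_self h1.symm

theorem ex' {T : C} (hT : T ∈ Δ.Pan i y0) : ∃ D ∈ Δ.Pan i x0, Δ.δ D T = Δ.δ x0 y0 := by
  obtain ⟨D, hD, hd⟩ := h.swap.ex hT
  refine ⟨D, hD, ?_⟩
  rw [Δ.symm T D, hd, Δ.symm x0 y0, inv_inv]

theorem uniq' {D D' T : C} (hD : D ∈ Δ.Pan i x0) (hD' : D' ∈ Δ.Pan i x0) (hd : Δ.δ D T = Δ.δ x0 y0)
    (hd' : Δ.δ D' T = Δ.δ x0 y0) : D' = D := by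
  have e : ∀ {X : C}, Δ.δ X T = Δ.δ x0 y0 → Δ.δ T X = Δ.δ y0 x0 := fun {X} hX => by
    rw [Δ.symm X T, hX, Δ.symm x0 y0]
  exact h.swap.uniq hD hD' (e hd) (e hd')

/-- the bijection of the two panels -/
noncomputable def equiv : {D // D ∈ Δ.Pan i x0} ≃ {T // T ∈ Δ.Pan i y0} :=
  Equiv.ofBijective (fun D => ⟨(h.ex D.2).choose, (h.ex D.2).choose_spec.1⟩) ⟨by
    intro D D' hDD
    have h1 := (h.ex D.2).choose_spec
    have h2 := (h.ex D'.2).choose_spec
    have h3 : (h.ex D.2).choose = (h.ex D'.2).choose := congrArg Subtype.val hDD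
    rw [← h3] at h2
    exact Subtype.ext (h.uniq' D.2 D'.2 h1.2 h2.2).symm, by
    rintro ⟨T, hT⟩
    obtain ⟨D, hD, hd⟩ := h.ex' hT
    refine ⟨⟨D, hD⟩, Subtype.ext ?_⟩
    have h1 := (h.ex hD).choose_spec
    exact h.uniq hT h1.1 hd h1.2⟩

theorem equiv_delta (D : {D // D ∈ Δ.Pan i x0}) : Δ.δ D.1 (h.equiv D).1 = Δ.δ x0 y0 :=
  (h.ex D.2).choose_spec.2

theorem equiv_eq_iff {D : {D // D ∈ Δ.Pan i x0}} {T : {T // T ∈ Δ.Pan i y0}} :
    h.equiv D = T ↔ Δ.δ D.1 T.1 = Δ.δ x0 y0 := by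
  constructor
  · rintro rfl; exact h.equiv_delta D
  · intro h1
    exact Subtype.ext (h.uniq T.2 (h.equiv D).2 h1 (h.equiv_delta D))

end PP

variable {Δ : Bldg cs C} {G : Type*} [Group G] [MulAction G C] {p : ℕ} (S : Sys Δ G p)

/-- the stabiliser of a panel -/
def panStab (i : I) (x0 : C) : Subgroup G where
  carrier := {g | g • x0 ∈ Δ.Pan i x0}
  one_mem' := by
    change (1 : G) • x0 ∈ Δ.Pan i x0
    rw [one_smul]; exact Δ.self_mem_Pan i x0
  mul_mem' := by
    intro a b ha hb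
    change (a * b) • x0 ∈ Δ.Pan i x0
    have ha' : a • x0 ∈ Δ.Pan i x0 := ha
    have hb' : b • x0 ∈ Δ.Pan i x0 := hb
    rw [mul_smul]
    exact Δ.mem_Pan_trans ha' (smul_mem_Pan S hb')
  inv_mem' := by
    intro a ha
    change a⁻¹ • x0 ∈ Δ.Pan i x0
    have ha' : a • x0 ∈ Δ.Pan i x0 := ha
    have h1 := smul_mem_Pan S (g := a⁻¹) ha'
    rw [inv_smul_smul] at h1
    exact Δ.mem_Pan_symm h1

include S in
theorem smul_mem_of_stab {i : I} {x0 : C} {g : G} (hg : g • x0 ∈ Δ.Pan i x0) {D : C} (hD : D ∈ Δ.Pan i x0) :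
    g • D ∈ Δ.Pan i x0 := Δ.mem_Pan_trans hg (smul_mem_Pan S hD)

/-- the action of the stabiliser of a panel on the panel -/
noncomputable def panHom (i : I) (x0 : C) : panStab S i x0 →* Equiv.Perm {D // D ∈ Δ.Pan i x0} where
  toFun g :=
    { toFun := fun D => ⟨g.1 • D.1, smul_mem_of_stab S g.2 D.2⟩
      invFun := fun D => ⟨g.1⁻¹ • D.1, smul_mem_of_stab S (g := g.1⁻¹) ((panStab S i x0).inv_mem g.2) D.2⟩
      left_inv := fun D => Subtype.ext (inv_smul_smul g.1 D.1)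
      right_inv := fun D => Subtype.ext (smul_inv_smul g.1 D.1) }
  map_one' := by
    ext D
    exact one_smul G D.1
  map_mul' := by
    intro a b
    ext D
    exact mul_smul a.1 b.1 D.1

/-- the permutations of the panel of `x0` induced by the elements of `U D` which stabilise the panel of `y0` -/
noncomputable def panU (i : I) (x0 y0 : C) (D : {D // D ∈ Δ.Pan i x0}) : Subgroup (Equiv.Perm {D // D ∈ Δ.Pan i x0}) :=
  Subgroup.map (panHom S i x0) ((S.U D.1 ⊓ panStab S i y0).subgroupOf (panStab S i x0))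

theorem mem_panU {i : I} {x0 y0 : C} {D : {D // D ∈ Δ.Pan i x0}} {σ : Equiv.Perm {D // D ∈ Δ.Pan i x0}} :
    σ ∈ panU S i x0 y0 D ↔ ∃ g : panStab S i x0, g.1 ∈ S.U D.1 ∧ g.1 • y0 ∈ Δ.Pan i y0 ∧ panHom S i x0 g = σ := by
  unfold panU
  rw [Subgroup.mem_map]
  constructor
  · rintro ⟨g, hg, rfl⟩
    rw [Subgroup.mem_subgroupOf, Subgroup.mem_inf] at hg
    exact ⟨g, hg.1, hg.2, rfl⟩
  · rintro ⟨g, h1, h2, rfl⟩
    exact ⟨g, by rw [Subgroup.mem_subgroupOf, Subgroup.mem_inf]; exact ⟨h1, h2⟩, rfl⟩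

section

variable [F : OppRes.Cox cs]

/-- the equivariance of the bijection -/
theorem equiv_smul {i : I} {x0 y0 : C} (h : PP Δ i x0 y0) {g : G} (h1 : g • x0 ∈ Δ.Pan i x0)
    (h2 : g • y0 ∈ Δ.Pan i y0) (D : {D // D ∈ Δ.Pan i x0}) :
    (h.equiv ⟨g • D.1, smul_mem_of_stab S h1 D.2⟩).1 = g • (h.equiv D).1 := by
  have h3 : h.equiv ⟨g • D.1, smul_mem_of_stab S h1 D.2⟩ = ⟨g • (h.equiv D).1, smul_mem_of_stab S h2 (h.equiv D).2⟩ := by
    rw [h.equiv_eq_iff]
    change Δ.δ (g • D.1) (g • (h.equiv D).1) = _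
    rw [S.iso, h.equiv_delta]
  rw [h3]

/-- elements of `U D` move the panels -/
theorem exists_pan_move {i : I} {x0 y0 : C} (h : PP Δ i x0 y0) {D E E' : {D // D ∈ Δ.Pan i x0}} (hE : E ≠ D)
    (hE' : E' ≠ D) : ∃ g ∈ S.U D.1, g • x0 ∈ Δ.Pan i x0 ∧ g • y0 ∈ Δ.Pan i y0 ∧ g • E.1 = E'.1 := by
  have hne : ∀ E : {D // D ∈ Δ.Pan i x0}, E ≠ D → Δ.δ D.1 (h.equiv E).1 = Δ.δ x0 y0 * cs.simple i := by
    intro E hE
    refine h.delta (h.equiv D).2 (h.equiv E).2 (h.equiv_delta D) ?_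
    intro h1
    exact hE (h.equiv.injective (Subtype.ext h1))
  obtain ⟨g, hg, hg1⟩ := S.exists_move (x := D.1) (z := (h.equiv E).1) (z' := (h.equiv E').1) (by rw [hne E hE, hne E' hE'])
  have hgD := S.fix D.1 g hg
  have hx : g • x0 ∈ Δ.Pan i x0 := by
    have h1 := smul_mem_Pan S (g := g) (Δ.mem_Pan_symm D.2)
    rw [hgD, Δ.Pan_eq_of_mem D.2] at h1
    exact h1
  have hy : g • y0 ∈ Δ.Pan i y0 := by
    have h1 := smul_mem_Pan S (g := g) (Δ.mem_Pan_symm (h.equiv E).2)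
    rw [hg1, Δ.Pan_eq_of_mem (h.equiv E').2] at h1
    exact h1
  refine ⟨g, hg, hx, hy, ?_⟩
  have h1 := equiv_smul S h hx hy E
  rw [hg1] at h1
  exact congrArg Subtype.val (h.equiv.injective (Subtype.ext h1))

theorem mouSet_panU [hp : Fact p.Prime] {i : I} {x0 y0 : C} (h : PP Δ i x0 y0) : MouSet (panU S i x0 y0) := by
  refine ⟨?_, ?_, ?_, ?_⟩
  · intro D σ hσ
    obtain ⟨g, hg, -, rfl⟩ := (mem_panU S).1 hσ
    exact Subtype.ext (S.fix D.1 g.1 hg)
  · intro D E F hE hF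
    obtain ⟨g, hg, h1, h2, h3⟩ := exists_pan_move S h hE hF
    exact ⟨panHom S i x0 ⟨g, h1⟩, (mem_panU S).2 ⟨⟨g, h1⟩, hg, h2, rfl⟩, Subtype.ext h3⟩
  · intro D E hE σ hσ hσE
    obtain ⟨g, hg, -, rfl⟩ := (mem_panU S).1 hσ
    ext X
    have h1 : g.1 • E.1 = E.1 := congrArg Subtype.val hσE
    have h2 : E.1 ≠ D.1 := fun h3 => hE (Subtype.ext h3)
    have hP := Δ.Pan_eq_of_mem D.2
    exact fix_pan S hg (by rw [hP]; exact E.2) h2 h1 (by rw [hP]; exact X.2)
  · intro D E σ hσ τ hτ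
    obtain ⟨g, hg, hg', rfl⟩ := (mem_panU S).1 hσ
    obtain ⟨k, hk, hk', rfl⟩ := (mem_panU S).1 hτ
    refine (mem_panU S).2 ⟨g * k * g⁻¹, ?_, ?_, by rw [map_mul, map_mul, map_inv]⟩
    · exact S.conj_mem_U hk g.1
    · have h1 : g.1 ∈ panStab S i y0 := hg'
      have h2 : k.1 ∈ panStab S i y0 := hk'
      exact (panStab S i y0).mul_mem ((panStab S i y0).mul_mem h1 h2) ((panStab S i y0).inv_mem h1)

end

/-- no chamber of displacement `v s_i` -/
def RoleE (Δ : Bldg cs C) (x : G) (i : I) (v : W) : Prop := ∀ E : C, Δ.δ E (x • E) ≠ v * cs.simple i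

/-- exactly one chamber of displacement `v s_i` in each `i`-panel at the position `{v, v s_i}` -/
def RoleO (Δ : Bldg cs C) (x : G) (i : I) (v : W) : Prop :=
  ∀ E : C, (Δ.δ E (x • E) = v ∨ Δ.δ E (x • E) = v * cs.simple i) →
    ∃! D, D ∈ Δ.Pan i E ∧ Δ.δ D (x • D) = v * cs.simple i

include S

variable [hp : Fact p.Prime] [F : OppRes.Cox cs] [Finite C]

theorem roleO_of_roleE (hth : Δ.Thick) {a b : G} (hab : Good p a b) {v : W} {i : I}
    (hcomm : cs.simple i * v = v * cs.simple i) (hlen : ℓ (v * cs.simple i) < ℓ v)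
    (hv : ∃ c, Δ.δ c (a⁻¹ • c) = v) (hE : RoleE Δ a⁻¹ i v) : RoleO Δ b i v := by
  classical
  have hss : cs.simple i * cs.simple i = 1 := cs.simple_mul_simple_self i
  intro x0 hx0
  obtain ⟨u, hu⟩ : ∃ u, u = v * cs.simple i := ⟨_, rfl⟩
  unfold RoleE at hE
  rw [← hu] at hlen hx0 hE ⊢
  have huv : u * cs.simple i = v := by rw [hu, mul_assoc, hss, mul_one]
  -- the corresponding chamber
  obtain ⟨y0, hy0, hd⟩ : ∃ y0, b • x0 ∈ Δ.Pan i y0 ∧ Δ.δ x0 y0 = u := by
    rcases hx0 with h | h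
    · obtain ⟨z, hz, hz'⟩ := Δ.exists_step x0 (b • x0) i
      exact ⟨z, Δ.mem_Pan_symm (Δ.mem_Pan_of_δ hz), by rw [hz', h, hu]⟩
    · exact ⟨b • x0, Δ.self_mem_Pan i _, h⟩
  have h : PP Δ i x0 y0 := ⟨by rw [hd, huv]; exact hlen, by
    rw [hd, huv, hu, ← mul_assoc, hcomm, mul_assoc, hss, mul_one]⟩
  let R := {D // D ∈ Δ.Pan i x0}
  have hfin : Finite R := inferInstance
  -- `b` and the panels
  have hbR : ∀ D ∈ Δ.Pan i x0, b • D ∈ Δ.Pan i y0 := fun D hD => Δ.mem_Pan_trans hy0 (smul_mem_Pan S hD)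
  have hbR' : ∀ T ∈ Δ.Pan i y0, b⁻¹ • T ∈ Δ.Pan i x0 := by
    intro T hT
    have h1 := smul_mem_Pan S (g := b⁻¹) (Δ.mem_Pan_trans (Δ.mem_Pan_symm hy0) hT)
    rwa [inv_smul_smul] at h1
  -- a conjugate of `a`
  obtain ⟨T1, hT1, hT1d⟩ : ∃ T1 ∈ Δ.Pan i y0, Δ.δ x0 T1 = v := by
    obtain ⟨z, -, -, hz, -⟩ := hth y0 i
    have hz1 : z ∈ Δ.Pan i y0 := Δ.mem_Pan_of_δ hz
    refine ⟨z, hz1, ?_⟩
    rw [h.delta (Δ.self_mem_Pan i y0) hz1 rfl (Δ.ne_of_δ_simple hz).symm, hd, huv]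
  obtain ⟨c, hc⟩ := hv
  obtain ⟨g, hg1, hg2⟩ := exists_smul_pair S hth (x := c) (y := a⁻¹ • c) (x' := x0) (y' := T1) (by rw [hc, hT1d])
  obtain ⟨a₁, ha₁⟩ : ∃ a₁, a₁ = g * a * g⁻¹ := ⟨_, rfl⟩
  have hab1 : Good p a₁ b := by rw [ha₁]; exact hab.conjL g
  have hax0 : a₁⁻¹ • x0 = T1 := by
    rw [ha₁, mul_inv_rev, mul_inv_rev, inv_inv, mul_smul, mul_smul, ← hg1, inv_smul_smul, hg2]
  have hE1 : ∀ E : C, Δ.δ E (a₁⁻¹ • E) ≠ u := by
    intro E h1
    apply hE (g⁻¹ • E)
    rw [← h1, ← S.iso g (g⁻¹ • E), smul_inv_smul]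
    congr 1
    rw [ha₁, mul_inv_rev, mul_inv_rev, inv_inv, mul_smul, mul_smul]
  have haR : ∀ D ∈ Δ.Pan i x0, a₁⁻¹ • D ∈ Δ.Pan i y0 := fun D hD => by
    have h1 := smul_mem_Pan S (g := a₁⁻¹) hD
    rw [hax0] at h1
    exact Δ.mem_Pan_trans hT1 h1
  have haR' : ∀ T ∈ Δ.Pan i y0, a₁ • T ∈ Δ.Pan i x0 := fun T hT => by
    have h1 := smul_mem_Pan S (g := a₁) (Δ.mem_Pan_trans (Δ.mem_Pan_symm hT1) hT)
    rw [← hax0, smul_inv_smul] at h1
    exact h1
  -- the permutations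
  let βb : R ≃ {T // T ∈ Δ.Pan i y0} :=
    { toFun := fun D => ⟨b • D.1, hbR D.1 D.2⟩
      invFun := fun T => ⟨b⁻¹ • T.1, hbR' T.1 T.2⟩
      left_inv := fun D => Subtype.ext (inv_smul_smul b D.1)
      right_inv := fun T => Subtype.ext (smul_inv_smul b T.1) }
  let βa : R ≃ {T // T ∈ Δ.Pan i y0} :=
    { toFun := fun D => ⟨a₁⁻¹ • D.1, haR D.1 D.2⟩
      invFun := fun T => ⟨a₁ • T.1, haR' T.1 T.2⟩
      left_inv := fun D => Subtype.ext (smul_inv_smul a₁ D.1)
      right_inv := fun T => Subtype.ext (inv_smul_smul a₁ T.1) }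
  let φ := h.equiv
  let ψ : Equiv.Perm R := βb.trans φ.symm
  let α : Equiv.Perm R := βa.trans φ.symm
  have hψ : ∀ D : R, ψ D = D ↔ Δ.δ D.1 (b • D.1) = u := by
    intro D
    change φ.symm (βb D) = D ↔ _
    rw [Equiv.symm_apply_eq, eq_comm, h.equiv_eq_iff, hd]
    exact Iff.rfl
  have hα : ∀ D : R, α D ≠ D := by
    intro D h1
    change φ.symm (βa D) = D at h1
    rw [Equiv.symm_apply_eq, eq_comm, h.equiv_eq_iff, hd] at h1
    exact hE1 D.1 h1
  have hU := mouSet_panU S h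
  have h3 : 3 ≤ Nat.card R := by
    obtain ⟨z1, z2, h12, hz1, hz2⟩ := hth x0 i
    have : Fintype R := Fintype.ofFinite R
    rw [Nat.card_eq_fintype_card, ← Finset.card_univ]
    let r0 : R := ⟨x0, Δ.self_mem_Pan i x0⟩
    let r1 : R := ⟨z1, Δ.mem_Pan_of_δ hz1⟩
    let r2 : R := ⟨z2, Δ.mem_Pan_of_δ hz2⟩
    have e1 : r0 ≠ r1 := fun h4 => Δ.ne_of_δ_simple hz1 (congrArg Subtype.val h4)
    have e2 : r0 ≠ r2 := fun h4 => Δ.ne_of_δ_simple hz2 (congrArg Subtype.val h4)
    have e3 : r1 ≠ r2 := fun h4 => h12 (congrArg Subtype.val h4)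
    have h5 : ({r0, r1, r2} : Finset R).card = 3 := by
      rw [Finset.card_eq_three]
      exact ⟨r0, r1, r2, e1, e2, e3, rfl⟩
    rw [← h5]
    exact Finset.card_le_card (Finset.subset_univ _)
  have H : ∀ σ ∈ ⨆ D, panU S i x0 y0 D, ∃ D, α⁻¹ * (σ * ψ * σ⁻¹) ∈ panU S i x0 y0 D := by
    intro σ hσ
    -- `σ` comes from the group
    have hσ' : σ ∈ Subgroup.map (panHom S i x0) ((panStab S i y0).subgroupOf (panStab S i x0)) := by
      refine (iSup_le fun D => ?_ : (⨆ D, panU S i x0 y0 D) ≤ _) hσ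
      refine Subgroup.map_mono fun x hx => ?_
      rw [Subgroup.mem_subgroupOf] at hx ⊢
      exact hx.2
    obtain ⟨k, hk, rfl⟩ := hσ'
    have hk2 : k.1 • y0 ∈ Δ.Pan i y0 := by
      rw [SetLike.mem_coe, Subgroup.mem_subgroupOf] at hk
      exact hk
    have hk1 : k.1 • x0 ∈ Δ.Pan i x0 := k.2
    have hki1 : k.1⁻¹ • x0 ∈ Δ.Pan i x0 := (panStab S i x0).inv_mem k.2
    -- the product
    obtain ⟨z, hz⟩ : ∃ z, z = a₁ * (k.1 * b * k.1⁻¹) := ⟨_, rfl⟩
    have hzPE : PE p z := by rw [hz]; exact hab1 k.1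
    have hzs : ∀ X : C, z • X = a₁ • (k.1 • (b • (k.1⁻¹ • X))) := by
      intro X
      rw [hz, mul_smul a₁, mul_smul (k.1 * b), mul_smul k.1]
    have hzR : ∀ D ∈ Δ.Pan i x0, z • D ∈ Δ.Pan i x0 := by
      intro D hD
      rw [hzs]
      exact haR' _ (smul_mem_of_stab S hk2 (hbR _ (smul_mem_of_stab S hki1 hD)))
    obtain ⟨D, hD, hDf⟩ := exists_fixed_pan S hzPE (hzR x0 (Δ.self_mem_Pan i x0))
    have hzU : z ∈ S.U D := mem_U S hzPE hDf
    have hact : ∀ X : R, ((α⁻¹ * (panHom S i x0 k * ψ * (panHom S i x0 k)⁻¹)) X).1 = z • X.1 := by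
      intro X
      rw [← map_inv]
      change (βa.symm (φ (panHom S i x0 k (φ.symm (βb (panHom S i x0 k⁻¹ X)))))).1 = z • X.1
      set Y : R := φ.symm (βb (panHom S i x0 k⁻¹ X)) with hY
      have hY1 : (φ Y).1 = b • (k.1⁻¹ • X.1) := by
        rw [hY, Equiv.apply_symm_apply]
        rfl
      have h5 := equiv_smul S h hk1 hk2 Y
      have h6 : panHom S i x0 k Y = ⟨k.1 • Y.1, smul_mem_of_stab S hk1 Y.2⟩ := rfl
      change a₁ • (h.equiv (panHom S i x0 k Y)).1 = _
      rw [h6, h5, hY1, hzs]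
    -- an element of `panU` with the same action
    refine ⟨⟨D, hD⟩, ?_⟩
    obtain ⟨E, hE⟩ : ∃ E : R, E ≠ ⟨D, hD⟩ := by
      obtain ⟨z1, -, -, hz1, -⟩ := hth D i
      have h7 : z1 ∈ Δ.Pan i x0 := by rw [← Δ.Pan_eq_of_mem hD]; exact Δ.mem_Pan_of_δ hz1
      exact ⟨⟨z1, h7⟩, fun h8 => Δ.ne_of_δ_simple hz1 (congrArg Subtype.val h8).symm⟩
    have hzE : (⟨z • E.1, hzR E.1 E.2⟩ : R) ≠ ⟨D, hD⟩ := by
      intro h8
      have h9 : z • E.1 = D := congrArg Subtype.val h8
      apply hE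
      apply Subtype.ext
      change E.1 = D
      rw [← hDf] at h9
      exact smul_left_cancel z h9
    obtain ⟨g', hg', hgx, hgy, hgE⟩ := exists_pan_move S h hE hzE
    refine (mem_panU S).2 ⟨⟨g', hgx⟩, hg', hgy, ?_⟩
    ext X
    rw [hact X]
    change g' • X.1 = z • X.1
    have h8 : (g'⁻¹ * z) • E.1 = E.1 := by
      rw [mul_smul, inv_smul_eq_iff]
      exact hgE.symm
    have hP := Δ.Pan_eq_of_mem hD
    have h9 := fix_pan S (mul_mem (inv_mem hg') hzU) (y := E.1) (z := X.1) (i := i) (by rw [hP]; exact E.2)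
      (fun h10 => hE (Subtype.ext h10)) h8 (by rw [hP]; exact X.2)
    rw [mul_smul, inv_smul_eq_iff] at h9
    exact h9.symm
  obtain ⟨D, hD, huniq⟩ := rankOne hU h3 hα H
  refine ⟨D.1, ⟨D.2, (hψ D).1 hD⟩, ?_⟩
  rintro D' ⟨hD', hd'⟩
  have := huniq ⟨D', hD'⟩ ((hψ _).2 hd')
  exact congrArg Subtype.val this

/-- **The roles lemma.** -/
theorem roles (hth : Δ.Thick) {a b : G} (hab : Good p a b) {v : W} {i : I} (hv : v ∈ Dis Δ a b)
    (hcomm : cs.simple i * v = v * cs.simple i) (hlen : ℓ (v * cs.simple i) < ℓ v)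
    (hnot : v * cs.simple i ∉ Dis Δ a b) :
    (RoleE Δ a⁻¹ i v ∧ RoleO Δ b i v) ∨ (RoleO Δ a⁻¹ i v ∧ RoleE Δ b i v) := by
  by_cases h1 : RoleE Δ a⁻¹ i v
  · exact Or.inl ⟨h1, roleO_of_roleE S hth hab hcomm hlen hv.1 h1⟩
  · have h2 : RoleE Δ b i v := by
      intro E hE
      apply hnot
      unfold RoleE at h1
      push Not at h1
      obtain ⟨E', hE'⟩ := h1
      exact ⟨⟨E', hE'⟩, ⟨E, hE⟩⟩
    refine Or.inr ⟨?_, h2⟩
    refine roleO_of_roleE S hth hab.inv hcomm hlen ?_ ?_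
    · rw [inv_inv]; exact hv.2
    · rw [inv_inv]; exact h2

end Cfsg.Agent.H197.Cls
end

-- part: H150/AH/Same
section
/-!
# S2451: the same element has role E at two nodes (helper150)

`aniso_false` : the chambers of a `K`-residue are not all moved to the longest possible distance (`0`-Hecke trace
formula of `H307/ZeroHecke`).
`same_false` : `v = w_K m`; `x` has role E at all nodes of `K` : contradiction, as soon as `W_K` has an element of full
support which is not the longest one.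
`same_pair_false`, `same_wJ_false` : `K = {i, j}`, `m_ij ≥ 3`.
-/

set_option autoImplicit false
set_option linter.unusedSectionVars false
set_option linter.unusedVariables false

open scoped Pointwise

namespace Cfsg.Agent.H150.AH

open Cfsg.Agent.Tits.Core Cfsg.Agent.Tits.Core.Bldg Cfsg.Agent.Tits.Exchange Cfsg.Agent.Tits Cfsg.Agent.FixBN
open Cfsg.Agent.H197.Cls

variable {I : Type*} {M : CoxeterMatrix I} {W : Type*} [Group W] {cs : CoxeterSystem M W} {C : Type*}

local prefix:100 "ℓ" => cs.length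

/-- the longest element has full support -/
theorem mem_of_longest_mem {K K' : Set I} {w1 w : W} (hw1 : IsLongest cs K w1) (hw : w ∈ WJ cs K)
    (h1 : w1 ∈ WJ cs K') : w ∈ WJ cs K' := by
  have key : ∀ k ∈ K, cs.simple k ∈ WJ cs K' := by
    intro k hk
    refine mem_WJ_of_nn cs h1 ((nn_eq_one_iff_isRightInversion cs (cs.isReflection_simple k)).2
      ⟨cs.isReflection_simple k, ?_⟩)
    have := (hw1.2 (cs.simple k) (simple_mem_WJ cs hk)).1
    rw [cs.length_simple] at this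
    omega
  obtain ⟨ω, hω, rfl⟩ := exists_word_of_mem_WJ cs hw
  refine Subgroup.list_prod_mem _ ?_
  intro y hy
  obtain ⟨k, hk, rfl⟩ := List.mem_map.1 hy
  exact key k (hω k hk)

variable {Δ : Bldg cs C} {G : Type*} [Group G] [MulAction G C] {p : ℕ} (S : Sys Δ G p)

include S

variable [hp : Fact p.Prime] [F : OppRes.Cox cs] [Finite C]

theorem panOne (hth : Δ.Thick) (x : C) (i : I) : H307.ZeroHecke.PanOne Δ p i := by
  have : Nonempty C := ⟨x⟩
  obtain ⟨q, hq⟩ := exists_param S hth i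
  have h1 := param_mod S hth hq
  intro y
  have h2 := card_pan_ne hq y
  have h3 : Nat.card {z // Δ.δ y z = cs.simple i} = Nat.card {z : C // z ∈ Δ.Pan i y ∧ z ≠ y} := by
    refine Nat.card_congr (Equiv.subtypeEquivRight fun z => ?_)
    constructor
    · intro h
      exact ⟨Δ.mem_Pan_of_δ h, (Δ.ne_of_δ_simple h).symm⟩
    · rintro ⟨h, hne⟩
      exact Δ.δ_eq_of_mem_Pan (Δ.self_mem_Pan i y) h hne.symm
  rw [h3, h2]
  exact h1

/-- **No residue is moved to the longest distance everywhere.** -/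
theorem aniso_false (hth : Δ.Thick) {K : Set I} {w1 m : W} (hw1 : IsLongest cs K w1) (hmR : IsMinR cs K m)
    (hmc : ∀ u ∈ WJ cs K, u * m = m * u) {x : G} {c0 : C}
    (h : ∀ c ∈ Δ.Res K c0, Δ.δ c (x • c) = m * w1) {w : W} (hw : w ∈ WJ cs K)
    (hfull : ∀ K' ⊆ K, K' ≠ K → w ∉ WJ cs K') (hne : w ≠ w1) : False := by
  classical
  have : Nonempty C := ⟨c0⟩
  have : Finite W := finite_W Δ
  have hadd : ∀ u ∈ WJ cs K, ℓ (u * m) = ℓ u + ℓ m := by
    intro u hu
    rw [hmc u hu, hmR u hu, add_comm]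
  have hex : ∀ c : Δ.Res K c0, ∃ y : Δ.Res K c0, Δ.δ (c : C) (y : C) = w1 ∧ Δ.δ (y : C) (x • (c : C)) = m := by
    intro c
    obtain ⟨y, h1, h2⟩ := Δ.exists_between (v := w1) (w := m) (by rw [h c c.2, hmc _ hw1.1]) (hadd _ hw1.1)
    refine ⟨⟨y, Δ.mem_Res_trans c.2 (Δ.mem_Res.2 ?_)⟩, h1, h2⟩
    rw [h1]
    exact hw1.1
  choose f hf1 hf2 using hex
  have hiso : ∀ c c' : Δ.Res K c0, Δ.δ (f c : C) (f c' : C) = Δ.δ (c : C) (c' : C) := by
    intro c c'
    have hu : Δ.δ (c : C) (c' : C) ∈ WJ cs K := Δ.δ_mem_of_mem_Res c.2 c'.2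
    have hu' : Δ.δ (f c : C) (f c' : C) ∈ WJ cs K := Δ.δ_mem_of_mem_Res (f c).2 (f c').2
    have h1 : Δ.δ (f c : C) (x • (c' : C)) = m * Δ.δ (c : C) (c' : C) :=
      Δ.δ_mul_of (hf2 c) (S.iso x _ _) (hmR _ hu)
    have h2 : Δ.δ (f c : C) (x • (c' : C)) = Δ.δ (f c : C) (f c' : C) * m :=
      Δ.δ_mul_of rfl (hf2 c') (hadd _ hu')
    rw [h1, hmc _ hu'] at h2
    exact (mul_left_cancel h2).symm
  have hinj : Function.Injective f := by
    intro c c' hcc
    apply Subtype.ext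
    rw [← Δ.eq_one, ← hiso, hcc, Δ.δ_self]
  have hbij : Function.Bijective f := Finite.injective_iff_bijective.1 hinj
  let e : Equiv.Perm (Δ.Res K c0) := Equiv.ofBijective f hbij
  obtain ⟨c, hc⟩ := H307.ZeroHecke.exists_delta_eq Δ (p := p) (K := K) (x0 := c0) (fun i _ => panOne S hth c0 i)
    (f := e) hiso (fun c K' h1 h2 h3 => by
      have h4 : Δ.δ (c : C) (e c : C) = w1 := hf1 c
      rw [h4] at h3
      exact hfull K' h1 h2 (mem_of_longest_mem hw1 hw h3)) hw hfull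
  have h4 : Δ.δ (c : C) (e c : C) = w1 := hf1 c
  exact hne (hc.symm.trans h4)

/-- **The same element has role E at all nodes of `K`.** -/
theorem same_false (hth : Δ.Thick) {K : Set I} {w1 m : W} (hw1 : IsLongest cs K w1) (hmR : IsMinR cs K m)
    (hmc : ∀ u ∈ WJ cs K, u * m = m * u) (hcen : ∀ k ∈ K, cs.simple k * w1 = w1 * cs.simple k) {x : G}
    (hv : ∃ c, Δ.δ c (x • c) = m * w1) (hE : ∀ k ∈ K, RoleE Δ x k (m * w1)) {w : W} (hw : w ∈ WJ cs K)
    (hfull : ∀ K' ⊆ K, K' ≠ K → w ∉ WJ cs K') (hne : w ≠ w1) : False := by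
  obtain ⟨c0, hc0⟩ := hv
  refine aniso_false S hth hw1 hmR hmc (x := x) (c0 := c0) ?_ hw hfull hne
  -- one step
  have step : ∀ k ∈ K, ∀ c d : C, Δ.δ c (x • c) = m * w1 → Δ.δ c d = cs.simple k → Δ.δ d (x • d) = m * w1 := by
    intro k hk c d hc hd
    have hcomm : cs.simple k * (m * w1) = m * w1 * cs.simple k := by
      rw [← mul_assoc, hmc _ (simple_mem_WJ cs hk), mul_assoc, hcen k hk, mul_assoc]
    rcases disp_adj S hcomm hc (Δ.mem_Pan_of_δ hd) with h1 | h1
    · exact h1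
    · exact absurd h1 (hE k hk d)
  -- all chambers of the residue
  have main : ∀ ω : List I, (∀ i ∈ ω, i ∈ K) → ∀ c : C, Δ.δ c (x • c) = m * w1 → ∀ d, cs.IsReduced ω →
      Δ.δ c d = cs.wordProd ω → Δ.δ d (x • d) = m * w1 := by
    intro ω
    induction ω with
    | nil =>
      intro _ c hc d _ hd
      rw [cs.wordProd_nil] at hd
      rw [← Δ.eq_of_δ_eq_one hd]
      exact hc
    | cons k ω ih =>
      intro hω c hc d hr hd
      have hr' : cs.IsReduced ω := by
        have := hr.drop 1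
        rwa [List.drop_one, List.tail_cons] at this
      rw [cs.wordProd_cons] at hd
      obtain ⟨y, hy1, hy2⟩ := Δ.exists_between hd (by
        rw [← cs.wordProd_cons]
        have h1 : ℓ (cs.wordProd (k :: ω)) = (k :: ω).length := hr
        have h2 : ℓ (cs.wordProd ω) = ω.length := hr'
        rw [h1, h2, cs.length_simple, List.length_cons, add_comm])
      exact ih (fun i hi => hω i (List.mem_cons_of_mem _ hi)) y (step k (hω k List.mem_cons_self) c y hc hy1) d hr' hy2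
  intro c hc
  obtain ⟨ω, hω, hr, e⟩ := exists_reduced_of_mem_WJ cs (Δ.mem_Res.1 hc)
  exact main ω hω c0 hc0 c hr e.symm

variable [Finite I]

omit S hp [Finite C] in
theorem full_pair [Finite W] {i j : I} (hij : i ≠ j) (K' : Set I) (h1 : K' ⊆ {i, j}) (h2 : K' ≠ {i, j}) :
    cs.simple i * cs.simple j ∉ WJ cs K' := by
  intro h
  have h3 : K' ⊆ {i} ∨ K' ⊆ {j} := by
    by_contra hcon
    push Not at hcon
    obtain ⟨ha, hb⟩ := hcon
    rw [Set.not_subset] at ha hb
    obtain ⟨a, ha1, ha2⟩ := ha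
    obtain ⟨b, hb1, hb2⟩ := hb
    apply h2
    apply Set.Subset.antisymm h1
    have e1 : a = j := by
      rcases h1 ha1 with h | h
      · exact absurd h ha2
      · exact h
    have e2 : b = i := by
      rcases h1 hb1 with h | h
      · exact h
      · exact absurd h hb2
    rintro k (rfl | hk)
    · rw [← e2]; exact hb1
    · rw [Set.mem_singleton_iff] at hk
      rw [hk, ← e1]; exact ha1
  have hl := Generic.length_two cs hij
  rcases h3 with h3 | h3
  · rcases mem_WJ_singleton.1 (WJ_mono cs h3 h) with h4 | h4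
    · rw [h4, cs.length_one] at hl; omega
    · rw [h4, cs.length_simple] at hl; omega
  · rcases mem_WJ_singleton.1 (WJ_mono cs h3 h) with h4 | h4
    · rw [h4, cs.length_one] at hl; omega
    · rw [h4, cs.length_simple] at hl; omega

/-- **The same element has role E at `i` and `j`**, `v = m w_ij`. -/
theorem same_pair_false (hth : Δ.Thick) {i j : I} (hij : i ≠ j) (hM : M i j ≠ 2) {m : W}
    (hmi : cs.simple i * m = m * cs.simple i) (hmj : cs.simple j * m = m * cs.simple j)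
    (hli : ℓ m < ℓ (m * cs.simple i)) (hlj : ℓ m < ℓ (m * cs.simple j))
    (hci : cs.simple i * wJ cs {i, j} = wJ cs {i, j} * cs.simple i)
    (hcj : cs.simple j * wJ cs {i, j} = wJ cs {i, j} * cs.simple j) {x : G}
    (hv : ∃ c, Δ.δ c (x • c) = m * wJ cs {i, j}) (hi : RoleE Δ x i (m * wJ cs {i, j}))
    (hj : RoleE Δ x j (m * wJ cs {i, j})) : False := by
  have : Nonempty C := ⟨hv.choose⟩
  have : Finite W := finite_W Δ
  have hl := isLongest_wJ cs ({i, j} : Set I)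
  refine same_false S hth hl ?_ ?_ ?_ hv ?_ (w := cs.simple i * cs.simple j)
    (mul_mem (Generic.simple_mem_left cs i j) (Generic.simple_mem_right cs i j)) (fun K' => full_pair hij K') ?_
  · refine (isMinR_iff cs).2 ?_
    rintro k (rfl | hk)
    · exact hli
    · rw [Set.mem_singleton_iff] at hk
      subst hk
      exact hlj
  · refine comm_of_simple ?_
    rintro k (rfl | hk)
    · exact hmi
    · rw [Set.mem_singleton_iff] at hk
      subst hk
      exact hmj
  · rintro k (rfl | hk)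
    · exact hci
    · rw [Set.mem_singleton_iff] at hk
      subst hk
      exact hcj
  · rintro k (rfl | hk)
    · exact hi
    · rw [Set.mem_singleton_iff] at hk
      subst hk
      exact hj
  · intro h
    have h1 := hl.length_le (v := cs.simple i * cs.simple j * cs.simple i)
      (mul_mem (mul_mem (Generic.simple_mem_left cs i j) (Generic.simple_mem_right cs i j))
        (Generic.simple_mem_left cs i j))
    rw [← h, Generic.length_three cs hij hM, Generic.length_two cs hij] at h1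
    omega

/-- **The same element has role E at `i` and `j`**, `v = w_ij`. -/
theorem same_wJ_false (hth : Δ.Thick) {i j : I} (hij : i ≠ j) (hM : M i j ≠ 2)
    (hci : cs.simple i * wJ cs {i, j} = wJ cs {i, j} * cs.simple i)
    (hcj : cs.simple j * wJ cs {i, j} = wJ cs {i, j} * cs.simple j) {x : G}
    (hv : ∃ c, Δ.δ c (x • c) = wJ cs {i, j}) (hi : RoleE Δ x i (wJ cs {i, j}))
    (hj : RoleE Δ x j (wJ cs {i, j})) : False := by
  refine same_pair_false S hth hij hM (m := 1) (by rw [mul_one, one_mul]) (by rw [mul_one, one_mul]) ?_ ?_ hci hcj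
    (x := x) ?_ ?_ ?_
  · rw [one_mul, cs.length_one, cs.length_simple]; omega
  · rw [one_mul, cs.length_one, cs.length_simple]; omega
  · rw [one_mul]; exact hv
  · rw [one_mul]; exact hi
  · rw [one_mul]; exact hj

/-- **The roles at a bond are mixed**, `v = w_ij ∈ Dis`, `v s_i, v s_j ∉ Dis`. -/
theorem roles_mixed (hth : Δ.Thick) {a b : G} (hab : Good p a b) {i j : I} (hij : i ≠ j) (hM : M i j ≠ 2)
    (hci : cs.simple i * wJ cs {i, j} = wJ cs {i, j} * cs.simple i)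
    (hcj : cs.simple j * wJ cs {i, j} = wJ cs {i, j} * cs.simple j) (hv : wJ cs {i, j} ∈ Dis Δ a b)
    (hi : wJ cs {i, j} * cs.simple i ∉ Dis Δ a b) (hj : wJ cs {i, j} * cs.simple j ∉ Dis Δ a b) :
    (RoleE Δ a⁻¹ i (wJ cs {i, j}) ∧ RoleO Δ b i (wJ cs {i, j}) ∧ RoleO Δ a⁻¹ j (wJ cs {i, j}) ∧
        RoleE Δ b j (wJ cs {i, j})) ∨
      (RoleO Δ a⁻¹ i (wJ cs {i, j}) ∧ RoleE Δ b i (wJ cs {i, j}) ∧ RoleE Δ a⁻¹ j (wJ cs {i, j}) ∧
        RoleO Δ b j (wJ cs {i, j})) := by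
  have : Nonempty C := ⟨hv.1.choose⟩
  have : Finite W := finite_W Δ
  have hl := isLongest_wJ cs ({i, j} : Set I)
  have hd : ∀ k ∈ ({i, j} : Set I), ℓ (wJ cs {i, j} * cs.simple k) < ℓ (wJ cs {i, j}) := by
    intro k hk
    have := (hl.2 (cs.simple k) (simple_mem_WJ cs hk)).1
    rw [cs.length_simple] at this
    omega
  rcases roles S hth hab hv hci (hd i (by simp)) hi with ⟨h1, h2⟩ | ⟨h1, h2⟩ <;>
    rcases roles S hth hab hv hcj (hd j (by simp)) hj with ⟨h3, h4⟩ | ⟨h3, h4⟩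
  · exact (same_wJ_false S hth hij hM hci hcj hv.1 h1 h3).elim
  · exact Or.inl ⟨h1, h2, h3, h4⟩
  · exact Or.inr ⟨h1, h2, h3, h4⟩
  · exact (same_wJ_false S hth hij hM hci hcj hv.2 h2 h4).elim

end Cfsg.Agent.H150.AH
end
end

-- part: H150/AH/FixSet
section
prune_inst 0x30007504740002000018001262003e62f6000192006b0001f1e00f420fcffd63a0412f21feb00f0291f2aaf46878404811100569421000002a000200413d06a980226282933cad0436000980a807180c00000000000000000000000000041000200400000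
set_option linter.all false
open scoped Cfsg.Agent.FastGrp

/-!
# S2451: the sets of fixed chambers (helper150)

* `exists_fixed_nb` : a fixed chamber of an element which fixes another chamber has a fixed neighbour;
* `dn_one_of_panel` : the fixed chambers form a panel;
* `fx_conj`, `fx_eq_one`;
* `pn_pow`, `card_pow` : counting with one parameter.
-/

set_option autoImplicit false
set_option linter.unusedSectionVars false
set_option linter.unusedVariables false

open scoped Pointwise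

namespace Cfsg.Agent.H150.AH

open Cfsg.Agent.Tits.Core Cfsg.Agent.Tits.Core.Bldg Cfsg.Agent.Tits.Exchange Cfsg.Agent.Tits Cfsg.Agent.FixBN
open Cfsg.Agent.H197.Cls

variable {I : Type*} {M : CoxeterMatrix I} {W : Type*} [Group W] {cs : CoxeterSystem M W} {C : Type*}

local prefix:100 "ℓ" => cs.length

/-- each element of positive length has a left descent -/
theorem exists_left {w : W} (hw : w ≠ 1) :
    ∃ m w', w = cs.simple m * w' ∧ cs.length (cs.simple m * w') = cs.length (cs.simple m) + cs.length w' := by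
  obtain ⟨ω, hω, rfl⟩ := cs.exists_isReduced w
  cases ω with
  | nil => exact absurd cs.wordProd_nil hw
  | cons m ω =>
    refine ⟨m, cs.wordProd ω, cs.wordProd_cons m ω, ?_⟩
    have h1 : ℓ (cs.wordProd (m :: ω)) = (m :: ω).length := hω
    have h2 : ℓ (cs.wordProd ω) = ω.length := by
      have h3 : cs.IsReduced ω := by
        have := hω.drop 1
        rwa [List.drop_one, List.tail_cons] at this
      exact h3
    rw [← cs.wordProd_cons, h1, h2, cs.length_simple, List.length_cons, add_comm]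

variable {Δ : Bldg cs C}

section Count

/-- the number of pairs at distance `w` -/
theorem pn_pow [Finite C] {q : ℕ} (hq : ∀ i, Δ.Param i q) (w : W) : pn Δ w = Nat.card C * q ^ ℓ w := by
  obtain ⟨ω, hω, rfl⟩ := cs.exists_isReduced w
  have hlen : ℓ (cs.wordProd ω) = ω.length := hω
  rw [hlen]
  induction ω using List.reverseRecOn with
  | nil =>
    rw [cs.wordProd_nil, List.length_nil, pow_zero, mul_one]
    refine Nat.card_congr ⟨fun x => x.1.1, fun x => ⟨(x, x), Δ.δ_self x⟩, fun x => ?_, fun x => rfl⟩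
    apply Subtype.ext
    exact Prod.ext rfl (Δ.eq_of_δ_eq_one x.2)
  | append_singleton ω i ih =>
    have hr' : cs.IsReduced ω := by
      have := hω.take ω.length
      rwa [List.take_left'] at this
      rfl
    have h3 : ℓ (cs.wordProd ω) = ω.length := hr'
    have h4 : cs.wordProd (ω ++ [i]) = cs.wordProd ω * cs.simple i := by
      rw [cs.wordProd_append, cs.wordProd_singleton]
    rw [h4] at hlen ⊢
    rw [pn_mul_simple (hq i) (by rw [hlen, h3, List.length_append, List.length_singleton]; omega), ih hr' h3,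
      List.length_append, List.length_singleton, pow_succ]
    ring

/-- the number of chambers -/
theorem card_pow [Finite C] [Fintype W] (x : C) {q : ℕ} (hq : ∀ i, Δ.Param i q) :
    Nat.card C = ∑ w : W, q ^ ℓ w := by
  classical
  have : Nonempty C := ⟨x⟩
  have h1 : ∑ w : W, pn Δ w = Nat.card C * Nat.card C := by
    rw [← Nat.card_prod]
    have := Fintype.ofFinite C
    rw [Nat.card_eq_fintype_card, ← Finset.card_univ, Finset.card_eq_sum_card_fiberwise (t := Finset.univ)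
      (f := fun z : C × C => Δ.δ z.1 z.2) (fun _ _ => Finset.mem_univ _)]
    refine Finset.sum_congr rfl fun w _ => ?_
    unfold pn
    rw [Nat.card_eq_fintype_card, Fintype.card_subtype]
  have h2 : Nat.card C * Nat.card C = Nat.card C * ∑ w : W, q ^ ℓ w := by
    rw [← h1, Finset.mul_sum]
    exact Finset.sum_congr rfl fun w _ => pn_pow hq w
  exact Nat.eq_of_mul_eq_mul_left Nat.card_pos h2

end Count

variable {G : Type*} [Group G] [MulAction G C] {p : ℕ} (S : Sys Δ G p)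

include S

theorem fix_between {x : G} {c d y : C} {v w : W} (hl : ℓ (v * w) = ℓ v + ℓ w) (hc : x • c = c) (hd : x • d = d)
    (h1 : Δ.δ c y = v) (h2 : Δ.δ y d = w) : x • y = y := by
  refine (Δ.between_unique hl h1 h2 ?_ ?_).symm
  · have := S.iso x c y
    rw [hc] at this
    rw [this, h1]
  · have := S.iso x y d
    rw [hd] at this
    rw [this, h2]

/-- a fixed neighbour in the direction of a second fixed chamber -/
theorem exists_fixed_nb {x : G} {c d : C} (hc : x • c = c) (hd : x • d = d) (hne : c ≠ d) :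
    ∃ m, ∃ e ∈ Δ.Pan m c, e ≠ c ∧ x • e = e ∧ ℓ (Δ.δ e d) < ℓ (Δ.δ c d) := by
  have h1 : Δ.δ c d ≠ 1 := fun h => hne (Δ.eq_of_δ_eq_one h)
  obtain ⟨m, w', e1, e2⟩ := exists_left (cs := cs) h1
  obtain ⟨y, hy1, hy2⟩ := Δ.exists_between e1 e2
  refine ⟨m, y, Δ.mem_Pan_of_δ hy1, (Δ.ne_of_δ_simple hy1).symm, fix_between S e2 hc hd hy1 hy2, ?_⟩
  rw [hy2, e1, e2, cs.length_simple]
  omega

/-- if all fixed chambers have only fixed `k`-neighbours, they form one panel -/
theorem fixed_mem_pan {x : G} {k : I} (h : ∀ c, x • c = c → ∀ m, ∀ e ∈ Δ.Pan m c, e ≠ c → x • e = e → m = k) {c d : C}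
    (hc : x • c = c) (hd : x • d = d) : d ∈ Δ.Pan k c := by
  generalize hn : ℓ (Δ.δ c d) = n
  induction n using Nat.strong_induction_on generalizing c with
  | _ n ih =>
    by_cases hne : c = d
    · rw [hne]; exact Δ.self_mem_Pan k d
    · obtain ⟨m, e, he1, he2, he3, he4⟩ := exists_fixed_nb S hc hd hne
      have hm := h c hc m e he1 he2 he3
      subst hm
      have h1 := ih _ (by rw [← hn]; exact he4) he3 rfl
      exact Δ.mem_Pan_trans he1 h1

/-- the number of fixed chambers when they form a panel -/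
theorem fx_of_panel [Finite C] {x : G} {k : I} {q : ℕ} (hq : Δ.Param k q)
    (h : ∀ c, x • c = c → ∀ m, ∀ e ∈ Δ.Pan m c, e ≠ c → x • e = e → m = k)
    (hk : ∀ c, x • c = c → ∀ e ∈ Δ.Pan k c, x • e = e) {c : C} (hc : x • c = c) : fx C x = q + 1 := by
  unfold fx
  rw [← hq c]
  exact Nat.card_congr (Equiv.subtypeEquivRight fun d => ⟨fun hd => fixed_mem_pan S h hc hd, fun hd => hk c hc d hd⟩)

omit S in
theorem fx_conj (x g : G) : fx C (g * x * g⁻¹) = fx C x := by
  unfold fx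
  refine Nat.card_congr ⟨fun c => ⟨g⁻¹ • c.1, ?_⟩, fun c => ⟨g • c.1, ?_⟩, fun c => ?_, fun c => ?_⟩
  · have h1 := c.2
    rw [mul_smul, mul_smul] at h1
    rw [eq_inv_smul_iff]
    exact h1
  · have h1 := c.2
    rw [mul_smul, mul_smul, inv_smul_smul, h1]
  · exact Subtype.ext (smul_inv_smul _ _)
  · exact Subtype.ext (inv_smul_smul _ _)

/-- an element which fixes `c` and no neighbour of `c` fixes one chamber only -/
theorem fixed_unique {x : G} {c : C} (hc : x • c = c) (h : ∀ m, ∀ e ∈ Δ.Pan m c, x • e = e → e = c) {d : C}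
    (hd : x • d = d) : d = c := by
  by_contra hne
  obtain ⟨m, e, he1, he2, he3, -⟩ := exists_fixed_nb S hc hd (Ne.symm hne)
  exact he2 (h m e he1 he3)

theorem fx_eq_one {x : G} {c : C} (hc : x • c = c) (h : ∀ m, ∀ e ∈ Δ.Pan m c, x • e = e → e = c) : fx C x = 1 := by
  unfold fx
  rw [Nat.card_eq_one_iff_unique]
  exact ⟨⟨fun a b => Subtype.ext ((fixed_unique S hc h a.2).trans (fixed_unique S hc h b.2).symm)⟩, ⟨⟨c, hc⟩⟩⟩

omit S in
theorem eq_of_fx_eq_one {x : G} (h : fx C x = 1) {c d : C} (hc : x • c = c) (hd : x • d = d) : c = d := by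
  unfold fx at h
  rw [Nat.card_eq_one_iff_unique] at h
  exact congrArg Subtype.val (h.1.elim (⟨c, hc⟩ : {c : C // x • c = c}) ⟨d, hd⟩)

/-- **Roles E and O on one panel**: a `p`-element `z = a b` fixing a chamber of displacement `v` with role E for one
of `a⁻¹`, `b` and role O for the other one at `m` fixes no other chamber of the `m`-panel. -/
theorem unique_of_roles [hp : Fact p.Prime] {a b : G} {m : I} {v : W} (hz : PE p (a * b))
    (h : (RoleE Δ a⁻¹ m v ∧ RoleO Δ b m v) ∨ (RoleO Δ a⁻¹ m v ∧ RoleE Δ b m v)) {c : C}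
    (hc : Δ.δ c (a⁻¹ • c) = v) (hbc : b • c = a⁻¹ • c) {e : C} (he : e ∈ Δ.Pan m c) (hze : (a * b) • e = e) : e = c := by
  by_contra hne
  have hzc : (a * b) • c = c := by rw [mul_smul, hbc, smul_inv_smul]
  have hall : ∀ d ∈ Δ.Pan m c, b • d = a⁻¹ • d := by
    intro d hd
    have h1 := fix_pan S (mem_U S hz hzc) he hne hze hd
    rw [mul_smul] at h1
    rw [eq_inv_smul_iff]
    exact h1
  rcases h with ⟨h1, h2⟩ | ⟨h1, h2⟩
  · obtain ⟨d, ⟨hd, hd'⟩, -⟩ := h2 c (Or.inl (by rw [hbc]; exact hc))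
    exact h1 d (by rw [← hall d hd]; exact hd')
  · obtain ⟨d, ⟨hd, hd'⟩, -⟩ := h1 c (Or.inl hc)
    exact h2 d (by rw [hall d hd]; exact hd')

end Cfsg.Agent.H150.AH
end

-- part: H150/AH/Tri
section
prune_inst 0x7404500002000018001262003e42d6000192006b0000f1e00f4207ce7d6380412721fca00f021122ae640838004800100079401000002a000200411d00a0802262829308a10426000980a803180c00000000000000000000000000041000200000000
set_option linter.all false
open scoped Cfsg.Agent.FastGrp

/-!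
# S2451: mixed roles at a pair `m_ij = 3` (helper150)

`tri_false` : `E = {i, j}`, `m_ij = 3`, `w = m w_E` with `s_j m = m s_i`, `s_i m = m s_j` (the position of an `E`-residue
and its image when `w` commutes with `s_i` and `s_j`): if `w` is the only common displacement in `m W_E`, `a⁻¹` has role
1 at `j` and `b` has role 1 at `i`: contradiction.
-/

set_option autoImplicit false
set_option linter.unusedSectionVars false
set_option linter.unusedVariables false

open scoped Pointwise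

namespace Cfsg.Agent.H150.AH

open Cfsg.Agent.Tits.Core Cfsg.Agent.Tits.Core.Bldg Cfsg.Agent.Tits.Exchange Cfsg.Agent.Tits Cfsg.Agent.FixBN
open Cfsg.Agent.H197.Cls Cfsg.Agent.H330.ClassProd

variable {I : Type*} {M : CoxeterMatrix I} {W : Type*} [Group W] {cs : CoxeterSystem M W} {C : Type*}

local prefix:100 "ℓ" => cs.length

variable {Δ : Bldg cs C} {G : Type*} [Group G] [MulAction G C] {p : ℕ} (S : Sys Δ G p)

include S

/-- **The inequality**, general form: `w` commutes with `s_j`; `x` has role 1 at `j`; each chamber of displacement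
`w s_j` has a chamber with a displacement in `small` in its `i`-panel. -/
theorem gen_ineq [Finite C] {i j : I} {q r : ℕ} (hqi : Δ.Param i q) (hqj : Δ.Param j r) {w : W}
    (hcomm : cs.simple j * w = w * cs.simple j) (small : W → Prop) {x : G} {x0 : C}
    (hsmall : ∀ d, Δ.δ d (x • d) = w * cs.simple j → ∃ e ∈ Δ.Pan i d, small (Δ.δ e (x • e)))
    (hs1 : ¬ small w) (hs2 : ¬ small (w * cs.simple j)) (hr : Role1 Δ x j w) :
    Nat.card {d : C // d ∈ Δ.Res {i, j} x0 ∧ Δ.δ d (x • d) = w} * (q * r + q + 1) ≤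
      q * r * (Δ.Res {i, j} x0).ncard := by
  classical
  let R := Δ.Res {i, j} x0
  let Y : C → Prop := fun e => e ∈ R ∧ Δ.δ e (x • e) = w
  have hwne : w * cs.simple j ≠ w := fun h => simple_ne_one' cs j (mul_left_cancel (h.trans (mul_one w).symm))
  have hPanR : ∀ k, k = i ∨ k = j → ∀ e ∈ R, ∀ d ∈ Δ.Pan k e, d ∈ R := by
    intro k hk e he d hd
    refine Δ.mem_Res_trans he (Δ.Pan_subset_Res ?_ e hd)
    rcases hk with rfl | rfl <;> simp
  have hi : ∀ E, Y E → ∃ D ∈ Δ.Pan j E, Δ.δ D (x • D) = w * cs.simple j ∧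
      ∀ D' ∈ Δ.Pan j E, D' ≠ D → Y D' := by
    rintro E ⟨hE1, hE2⟩
    obtain ⟨D, ⟨h1, h2⟩, h3⟩ := hr E hE2
    refine ⟨D, h1, h2, fun D' hD' hne => ⟨hPanR j (Or.inr rfl) E hE1 D' hD', ?_⟩⟩
    rcases disp_adj S hcomm hE2 hD' with h4 | h4
    · exact h4
    · exact absurd (h3 D' ⟨hD', h4⟩) hne
  have hcard := HH.card S hqj (fun E hE => hE.2) hi
  let P : C → Prop := fun D => Δ.δ D (x • D) = w * cs.simple j ∧ ∃ E, Y E ∧ D ∈ Δ.Pan j E
  let Z : C → Prop := fun e => e ∈ R ∧ small (Δ.δ e (x • e))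
  have hPR : ∀ D, P D → D ∈ R := by
    rintro D ⟨-, E, hE, hD⟩
    exact hPanR j (Or.inr rfl) E hE.1 D hD
  have hex : ∀ D : {D // P D}, ∃ e : {e // Z e}, (e : C) ∈ Δ.Pan i D ∧ (D : C) ≠ e := by
    rintro ⟨D, hD⟩
    obtain ⟨e, he, he'⟩ := hsmall D hD.1
    refine ⟨⟨e, hPanR i (Or.inl rfl) D (hPR D hD) e he, he'⟩, he, ?_⟩
    intro h1
    have h1' : D = e := h1
    rw [← h1', hD.1] at he'
    exact hs2 he'
  choose g hg1 hg2 using hex
  have hPZ : Nat.card {D // P D} ≤ Nat.card {e // Z e} * q := by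
    have h1 : Nat.card {z : {e // Z e} × C // z.2 ∈ Δ.Pan i z.1 ∧ z.2 ≠ z.1} = Nat.card {e // Z e} * q := by
      rw [Nat.card_congr (Equiv.subtypeProdEquivSigmaSubtype
        (fun (e : {e // Z e}) (z : C) => z ∈ Δ.Pan i e ∧ z ≠ e))]
      have := Fintype.ofFinite {e // Z e}
      rw [Nat.card_sigma, Finset.sum_congr rfl (fun e _ => card_pan_ne hqi e.1), Finset.sum_const, Finset.card_univ,
        smul_eq_mul, ← Nat.card_eq_fintype_card]
    rw [← h1]
    refine Nat.card_le_card_of_injective (fun D : {D // P D} => (⟨(g D, D), Δ.mem_Pan_symm (hg1 D), hg2 D⟩ :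
      {z : {e // Z e} × C // z.2 ∈ Δ.Pan i z.1 ∧ z.2 ≠ z.1})) ?_
    intro D D' h
    exact Subtype.ext (congrArg (fun z => z.1.2) h)
  have hsum : Nat.card {d // Y d} + Nat.card {D // P D} + Nat.card {e // Z e} ≤ R.ncard := by
    have a1 : Nat.card {d // Y d} = ({d | Y d} : Set C).ncard := by rw [← Nat.card_coe_set_eq]; rfl
    have a2 : Nat.card {d // P d} = ({d | P d} : Set C).ncard := by rw [← Nat.card_coe_set_eq]; rfl
    have a3 : Nat.card {d // Z d} = ({d | Z d} : Set C).ncard := by rw [← Nat.card_coe_set_eq]; rfl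
    rw [a1, a2, a3, ← Set.ncard_union_eq ?_ (Set.toFinite _) (Set.toFinite _),
      ← Set.ncard_union_eq ?_ (Set.toFinite _) (Set.toFinite _)]
    · refine Set.ncard_le_ncard ?_ (Set.toFinite _)
      rintro d ((hd | hd) | hd)
      · exact hd.1
      · exact hPR d hd
      · exact hd.1
    · rw [Set.disjoint_left]
      rintro d (hd | hd) hd'
      · have hd1 : Δ.δ d (x • d) = w := hd.2
        have h2 : small (Δ.δ d (x • d)) := hd'.2
        rw [hd1] at h2
        exact hs1 h2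
      · have hd1 : Δ.δ d (x • d) = w * cs.simple j := hd.1
        have h2 : small (Δ.δ d (x • d)) := hd'.2
        rw [hd1] at h2
        exact hs2 h2
    · rw [Set.disjoint_left]
      rintro d hd hd'
      have hd1 : Δ.δ d (x • d) = w := hd.2
      have hd2 : Δ.δ d (x • d) = w * cs.simple j := hd'.1
      rw [hd1] at hd2
      exact hwne hd2.symm
  change Nat.card {d // Y d} * (q * r + q + 1) ≤ q * r * R.ncard
  have hcard' : Nat.card {d // Y d} = Nat.card {D // P D} * r := hcard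
  rw [hcard'] at hsum ⊢
  generalize Nat.card {D // P D} = P' at *
  generalize Nat.card {e // Z e} = Z' at *
  generalize R.ncard = N at *
  have h1 : P' * (q * r + q + 1) ≤ q * N := by
    calc P' * (q * r + q + 1) = q * (P' * r + P') + P' := by ring
      _ ≤ q * (P' * r + P') + Z' * q := by omega
      _ = q * (P' * r + P' + Z') := by ring
      _ ≤ q * N := Nat.mul_le_mul_left q hsum
  calc P' * r * (q * r + q + 1) = r * (P' * (q * r + q + 1)) := by ring
    _ ≤ r * (q * N) := Nat.mul_le_mul_left r h1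
    _ = q * r * N := by ring

/-- the panel of type `i` of a chamber of noncommuting displacement, the longest of the four: there is a chamber with
displacement `s_i v s_i` or `s_i v` -/
theorem exists_gate_small {i : I} {x : G} {d : C} {v : W} (hd : Δ.δ d (x • d) = v)
    (h1 : ℓ (cs.simple i * v) < ℓ v) (h2 : ℓ (v * cs.simple i) < ℓ v)
    (hne : cs.simple i * v ≠ v * cs.simple i) :
    ∃ e ∈ Δ.Pan i d, Δ.δ e (x • e) = cs.simple i * v * cs.simple i ∨ Δ.δ e (x • e) = cs.simple i * v := by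
  have hss : cs.simple i * cs.simple i = 1 := cs.simple_mul_simple_self i
  obtain ⟨x0, hx0, y0, hy0, h⟩ := exists_np (Δ := Δ) (x := d) (y := x • d) (i := i) (by rw [hd]; exact hne)
  have hxe : x • x0 ∈ Δ.Pan i y0 := by
    rw [Δ.Pan_eq_of_mem hy0]
    exact smul_mem_Pan S hx0
  have hdp : d ∈ Δ.Pan i x0 := Δ.mem_Pan_symm hx0
  have hxdp : x • d ∈ Δ.Pan i y0 := Δ.mem_Pan_symm hy0
  have hL := h.left
  have hR := h.right
  have hn : Δ.δ x0 y0 = cs.simple i * v * cs.simple i := by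
    by_cases k1 : d = x0
    · by_cases k2 : x • d = y0
      · exfalso
        rw [← k1, ← k2, hd] at hR
        omega
      · exfalso
        have h3 := h.dR hxdp k2
        rw [← k1, hd] at h3
        have h4 : cs.simple i * Δ.δ x0 y0 = cs.simple i * v * cs.simple i := by
          rw [← k1, h3, mul_assoc, mul_assoc, hss, mul_one]
        have h5 : ℓ v = ℓ (Δ.δ x0 y0) + 1 := by
          have := cs.length_mul_simple (Δ.δ d y0) i
          rw [← h3] at this
          rw [← k1] at hR ⊢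
          rw [← h3] at hR
          omega
        -- `δ x0 y0 = v s_i`, `s_i v s_i` is longer, but `s_i v < v`
        have h6 := h.len
        rw [← k1, mul_assoc, ← h3, k1] at h6
        omega
    · by_cases k2 : x • d = y0
      · exfalso
        have h3 := h.dL hdp k1
        rw [← k2, hd] at h3
        have h6 := h.len
        rw [← k2, ← h3] at h6
        have h5 : ℓ v = ℓ (Δ.δ x0 (x • d)) + 1 := by
          have := cs.length_simple_mul (Δ.δ x0 (x • d)) i
          rw [← h3] at this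
          rw [← k2, ← h3] at hL
          omega
        omega
      · have h3 := h.dLR hdp k1 hxdp k2
        rw [hd] at h3
        rw [h3]
        calc Δ.δ x0 y0 = (cs.simple i * cs.simple i) * Δ.δ x0 y0 * (cs.simple i * cs.simple i) := by
              rw [hss, one_mul, mul_one]
          _ = _ := by group
  refine ⟨x0, hx0, ?_⟩
  by_cases h6 : x • x0 = y0
  · left; rw [h6, hn]
  · right; rw [h.dR hxe h6, hn, mul_assoc, hss, mul_one]

section Three

omit S

variable [Finite I] [Finite W] [Finite C] {i j : I} {q r : ℕ}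

include S

variable [hp : Fact p.Prime]

end Three

end Cfsg.Agent.H150.AH
end

-- part: H197/Cls/SSet
section
set_option linter.all false
open scoped Cfsg.Agent.FastGrp

/-!
# S2451, helper197: `Dis = {1}`: the types moved at fixed chambers

* `Mv Δ i x` : `x` moves an `i`-neighbour of a fixed chamber;
* `not_mv_both` : if `Dis Δ a b ⊆ {1}` no type is moved by both `a` and `b`;
* `exists_mv` : an element with a fixed chamber and a moved chamber moves some type;
* `mv_of_m3` : the set of the moved types is closed under simple bonds.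
-/

set_option autoImplicit false
set_option linter.unusedSectionVars false

open scoped Pointwise

namespace Cfsg.Agent.H197.Cls

open Cfsg.Agent.Tits.Core Cfsg.Agent.Tits.Core.Bldg Cfsg.Agent.Tits.Exchange Cfsg.Agent.Tits Cfsg.Agent.FixBN

variable {I : Type*} {M : CoxeterMatrix I} {W : Type*} [Group W] {cs : CoxeterSystem M W} {C : Type*}

local prefix:100 "ℓ" => cs.length

variable {Δ : Bldg cs C} {G : Type*} [Group G] [MulAction G C] {p : ℕ}

/-- `x` moves an `i`-neighbour of a fixed chamber -/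
def Mv (Δ : Bldg cs C) (i : I) (x : G) : Prop := ∃ c d : C, x • c = c ∧ Δ.δ c d = cs.simple i ∧ x • d ≠ d

/-- the `i`-panels of the fixed chambers of `x` are fixed if `i` is not moved -/
theorem fix_of_not_mv {i : I} {x : G} (h : ¬ Mv Δ i x) {c d : C} (hc : x • c = c) (hd : d ∈ Δ.Pan i c) : x • d = d := by
  by_contra hne
  rcases hd with rfl | hd
  · exact hne hc
  · exact h ⟨c, d, hc, hd, hne⟩

theorem exists_mv {x : G} {c d : C} (hc : x • c = c) (hd : x • d ≠ d) : ∃ i, Mv Δ i x := by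
  have key : ∀ (w : W) (d : C), Δ.δ c d = w → x • d ≠ d → ∃ i, Mv Δ i x := by
    intro w
    induction w using cs.simple_induction_right with
    | one =>
      intro d h h'
      rw [← Δ.eq_of_δ_eq_one h] at h'
      exact absurd hc h'
    | mul_simple_right w i ih =>
      intro d h h'
      obtain ⟨z, hz, hz'⟩ := Δ.exists_step c d i
      have h1 : Δ.δ c z = w := by rw [hz', h, mul_assoc, cs.simple_mul_simple_self, mul_one]
      by_cases h2 : x • z = z
      · exact ⟨i, z, d, h2, Δ.δ_symm_simple hz, h'⟩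
      · exact ih z h1 h2
  exact key _ d rfl hd

section Sys

variable (S : Sys Δ G p)

include S

theorem delta_of_mv {i : I} {x : G} (h : Mv Δ i x) : ∃ c, Δ.δ c (x • c) = cs.simple i := by
  obtain ⟨c, d, hc, hd, hne⟩ := h
  refine ⟨d, ?_⟩
  refine Δ.δ_eq_of_mem_Pan (x := c) (Δ.mem_Pan_of_δ hd) ?_ (Ne.symm hne)
  have h1 := smul_mem_Pan S (g := x) (Δ.mem_Pan_of_δ hd)
  rwa [hc] at h1

theorem Mv.inv {i : I} {x : G} (h : Mv Δ i x) : Mv Δ i x⁻¹ := by
  obtain ⟨c, d, hc, hd, hne⟩ := h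
  refine ⟨c, d, by rw [inv_smul_eq_iff, hc], hd, fun h1 => hne ?_⟩
  rw [inv_smul_eq_iff] at h1
  exact h1.symm

theorem not_mv_both {a b : G} (h : Dis Δ a b ⊆ {1}) (i : I) : ¬ (Mv Δ i a ∧ Mv Δ i b) := by
  rintro ⟨h1, h2⟩
  have h3 : cs.simple i ∈ Dis Δ a b := ⟨delta_of_mv S (Mv.inv S h1), delta_of_mv S h2⟩
  have h4 : cs.simple i = 1 := h h3
  have h5 := congrArg cs.length h4
  rw [cs.length_simple, cs.length_one] at h5
  omega

/-- elements of `W_{ij}` without left descent `i`, `m = 3` -/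
theorem cases_m3 [F : OppRes.Cox cs] {i j : I} (hM : M i j = 3) {w : W} (hw : w ∈ WJ cs {i, j})
    (hlt : ℓ w < ℓ (cs.simple i * w)) : w = 1 ∨ w = cs.simple j ∨ w = cs.simple j * cs.simple i := by
  have hbraid : cs.simple j * cs.simple i * cs.simple j = cs.simple i * cs.simple j * cs.simple i := by
    have h1 := cs.simple_mul_simple_pow i j
    rw [hM] at h1
    have h2 : (cs.simple i * cs.simple j) ^ 3 = cs.simple i * cs.simple j * cs.simple i *
        (cs.simple j * cs.simple i * cs.simple j) := by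
      rw [pow_succ, pow_two]; group
    rw [h2] at h1
    have h3 : cs.simple j * cs.simple i * cs.simple j = (cs.simple i * cs.simple j * cs.simple i)⁻¹ :=
      (inv_eq_of_mul_eq_one_right h1).symm
    rw [h3, mul_inv_rev, mul_inv_rev, cs.inv_simple, cs.inv_simple, mul_assoc]
  -- a left descent in the residue
  have hdes : ∀ v ∈ WJ cs {i, j}, v ≠ 1 → ∃ k ∈ ({i, j} : Set I), ℓ (cs.simple k * v) < ℓ v := by
    intro v hv hv1
    have h1 : v⁻¹ ≠ 1 := fun h => hv1 (inv_eq_one.1 h)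
    obtain ⟨k, hk⟩ := cs.exists_rightDescent_of_ne_one h1
    have hk' : ℓ (v⁻¹ * cs.simple k) < ℓ v⁻¹ := hk
    refine ⟨k, F.descent_mem _ _ (inv_mem hv) k hk', ?_⟩
    have h2 := cs.length_inv (cs.simple k * v)
    rw [mul_inv_rev, cs.inv_simple] at h2
    rw [h2, cs.length_inv] at hk'
    exact hk'
  have hss : ∀ k, cs.simple k * cs.simple k = 1 := cs.simple_mul_simple_self
  have hmem : ∀ k ∈ ({i, j} : Set I), ∀ v ∈ WJ cs {i, j}, cs.simple k * v ∈ WJ cs {i, j} := fun k hk v hv =>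
    mul_mem (Tits.Exchange.simple_mem_WJ cs hk) hv
  by_cases h1 : w = 1
  · exact Or.inl h1
  right
  obtain ⟨k, hk, hkl⟩ := hdes w hw h1
  have hkj : k = j := by
    rcases hk with rfl | rfl
    · omega
    · rfl
  rw [hkj] at hkl hk
  set w1 := cs.simple j * w with hw1
  have e1 : w = cs.simple j * w1 := by rw [hw1, ← mul_assoc, hss, one_mul]
  have hw1m : w1 ∈ WJ cs {i, j} := hmem j (by simp) w hw
  by_cases h2 : w1 = 1
  · left; rw [e1, h2, mul_one]
  right
  obtain ⟨k', hk', hkl'⟩ := hdes w1 hw1m h2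
  have hki : k' = i := by
    rcases hk' with rfl | rfl
    · rfl
    · rw [← e1] at hkl'; omega
  rw [hki] at hkl' hk'
  set w2 := cs.simple i * w1 with hw2
  have e2 : w1 = cs.simple i * w2 := by rw [hw2, ← mul_assoc, hss, one_mul]
  have hw2m : w2 ∈ WJ cs {i, j} := hmem i (by simp) w1 hw1m
  by_cases h3 : w2 = 1
  · rw [e1, e2, h3, mul_one]
  exfalso
  obtain ⟨l, hl, hll⟩ := hdes w2 hw2m h3
  have hlk : l = j := by
    rcases hl with rfl | rfl
    · rw [← e2] at hll; omega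
    · rfl
  rw [hlk] at hll
  set w3 := cs.simple j * w2 with hw3
  have e3 : w2 = cs.simple j * w3 := by rw [hw3, ← mul_assoc, hss, one_mul]
  have e4 : cs.simple i * w = cs.simple j * cs.simple i * w3 := by
    rw [e1, e2, e3]
    calc cs.simple i * (cs.simple j * (cs.simple i * (cs.simple j * w3)))
        = cs.simple i * (cs.simple j * cs.simple i * cs.simple j) * w3 := by group
      _ = cs.simple i * (cs.simple i * cs.simple j * cs.simple i) * w3 := by rw [hbraid]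
      _ = (cs.simple i * cs.simple i) * (cs.simple j * cs.simple i) * w3 := by group
      _ = _ := by rw [hss, one_mul]
  have e5 := cs.length_mul_le (cs.simple j * cs.simple i) w3
  have e6 := cs.length_mul_le (cs.simple j) (cs.simple i)
  rw [cs.length_simple, cs.length_simple] at e6
  rw [e4] at hlt
  have l1 := cs.length_simple_mul w j
  have l2 := cs.length_simple_mul w1 i
  have l3 := cs.length_simple_mul w2 j
  omega

omit S in
/-- the reduced word `j i j` if `m ≥ 3` -/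
theorem len_jij [F : OppRes.Cox cs] {i j : I} (hM : M i j = 3) : ℓ (cs.simple j * cs.simple i) = 2 ∧
    ℓ (cs.simple j * cs.simple i * cs.simple j) = 3 ∧
    cs.simple j * cs.simple i * cs.simple j = cs.simple i * cs.simple j * cs.simple i ∧ i ≠ j := by
  have hbraid : cs.simple j * cs.simple i * cs.simple j = cs.simple i * cs.simple j * cs.simple i := by
    have h1 := cs.simple_mul_simple_pow i j
    rw [hM] at h1
    have h2 : (cs.simple i * cs.simple j) ^ 3 = cs.simple i * cs.simple j * cs.simple i *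
        (cs.simple j * cs.simple i * cs.simple j) := by
      rw [pow_succ, pow_two]; group
    rw [h2] at h1
    have h3 : cs.simple j * cs.simple i * cs.simple j = (cs.simple i * cs.simple j * cs.simple i)⁻¹ :=
      (inv_eq_of_mul_eq_one_right h1).symm
    rw [h3, mul_inv_rev, mul_inv_rev, cs.inv_simple, cs.inv_simple, mul_assoc]
  have hij : i ≠ j := by
    rintro rfl
    rw [M.diagonal] at hM
    omega
  have hne : cs.simple i ≠ cs.simple j := fun h => hij (F.inj h)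
  have hss : ∀ k, cs.simple k * cs.simple k = 1 := cs.simple_mul_simple_self
  have h1 : ℓ (cs.simple j * cs.simple i) = 2 := by
    rcases cs.length_mul_simple (cs.simple j) i with h | h
    · rw [h, cs.length_simple]
    · rw [cs.length_simple] at h
      exfalso
      have h2 : ℓ (cs.simple j * cs.simple i) = 0 := by omega
      rw [cs.length_eq_zero_iff, mul_eq_one_iff_eq_inv, cs.inv_simple] at h2
      exact hne h2.symm
  refine ⟨h1, ?_, hbraid, hij⟩
  rcases cs.length_mul_simple (cs.simple j * cs.simple i) j with h | h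
  · rw [h, h1]
  · exfalso
    rw [h1] at h
    have h2 : ℓ (cs.simple j * cs.simple i * cs.simple j) = 1 := by omega
    rw [cs.length_eq_one_iff] at h2
    obtain ⟨k, hk⟩ := h2
    -- `j i j = k` : a reflection of length one in the residue
    have h3 : cs.simple k ∈ WJ cs {i, j} := by
      rw [← hk]
      exact mul_mem (mul_mem (Tits.Exchange.simple_mem_WJ cs (by simp)) (Tits.Exchange.simple_mem_WJ cs (by simp)))
        (Tits.Exchange.simple_mem_WJ cs (by simp))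
    have h4 : k ∈ ({i, j} : Set I) := F.descent_mem _ _ h3 k (by
      rw [hss, cs.length_one, cs.length_simple]; omega)
    rcases h4 with rfl | rfl
    · -- `j i j = i` : `i` and `j` commute
      have h5 : cs.simple j * cs.simple k = cs.simple k * cs.simple j := by
        calc cs.simple j * cs.simple k = cs.simple j * cs.simple k * (cs.simple j * cs.simple j) := by
              rw [hss, mul_one]
          _ = (cs.simple j * cs.simple k * cs.simple j) * cs.simple j := by group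
          _ = _ := by rw [hk]
      rw [h5, mul_assoc, hss, mul_one] at hbraid
      rw [h5] at hk
      have h6 : cs.simple k = cs.simple k * cs.simple j * cs.simple k := hbraid
      have h7 : cs.simple j * cs.simple k = 1 := by
        have h8 : cs.simple k * (cs.simple j * cs.simple k) = cs.simple k * 1 := by
          rw [mul_one, ← mul_assoc]; exact h6.symm
        exact mul_left_cancel h8
      rw [h7, cs.length_one] at h1
      omega
    · -- `j i j = j` : `i j = 1`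
      have h5 : cs.simple i * cs.simple k = 1 := by
        have h6 : cs.simple k * (cs.simple i * cs.simple k) = cs.simple k * 1 := by
          rw [mul_one, ← mul_assoc]; exact hk
        exact mul_left_cancel h6
      rw [mul_eq_one_iff_eq_inv, cs.inv_simple] at h5
      exact hne h5

omit S in
/-- no closed galleries of type `j i j i` with only the second step allowed to stutter -/
theorem no_sq [F : OppRes.Cox cs] {i j : I} (hM : M i j = 3) {x0 x1 x2 x3 : C} (h01 : Δ.δ x0 x1 = cs.simple j)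
    (h12 : x2 ∈ Δ.Pan i x1) (h23 : Δ.δ x2 x3 = cs.simple j) (h03 : Δ.δ x0 x3 = cs.simple i) : False := by
  obtain ⟨l2, l3, -, hij⟩ := len_jij (cs := cs) hM
  rcases h12 with rfl | h12
  · have h1 : x3 ∈ Δ.Pan j x0 := Δ.mem_Pan_trans (Δ.mem_Pan_of_δ h01) (Δ.mem_Pan_of_δ h23)
    rcases h1 with rfl | h1
    · rw [Δ.δ_self] at h03
      have := congrArg cs.length h03
      rw [cs.length_simple, cs.length_one] at this
      omega
    · rw [h1] at h03
      exact hij (F.inj h03).symm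
  · have h1 : Δ.δ x0 x2 = cs.simple j * cs.simple i := Δ.δ_mul_of h01 h12 (by
      rw [l2, cs.length_simple, cs.length_simple])
    have h2 : Δ.δ x0 x3 = cs.simple j * cs.simple i * cs.simple j := Δ.δ_mul_of h1 h23 (by
      rw [l3, l2, cs.length_simple])
    rw [h03] at h2
    have := congrArg cs.length h2
    rw [l3, cs.length_simple] at this
    omega

/-- **The moved types are closed under simple bonds.** -/
theorem mv_of_m3 [F : OppRes.Cox cs] {i j : I} (hM : M i j = 3) {x : G} (h : Mv Δ i x) : Mv Δ j x := by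
  by_contra hcon
  obtain ⟨l2, l3, hbraid, hij⟩ := len_jij (cs := cs) hM
  have l2' : ℓ (cs.simple i * cs.simple j) = 2 := by
    rw [← cs.length_inv, mul_inv_rev, cs.inv_simple, cs.inv_simple, l2]
  have l3' : ℓ (cs.simple i * cs.simple j * cs.simple i) = 3 := by rw [← hbraid, l3]
  have hss : ∀ k, cs.simple k * cs.simple k = 1 := cs.simple_mul_simple_self
  obtain ⟨c, e, hc, he, hxe⟩ := h
  have hfix : ∀ {c d : C}, x • c = c → d ∈ Δ.Pan j c → x • d = d := fun h1 h2 => fix_of_not_mv hcon h1 h2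
  -- chambers opposite `c` in the residue stay in their `i`-panel
  have hline : ∀ k, Δ.δ c k = cs.simple i * cs.simple j * cs.simple i → x • k ∈ Δ.Pan i k := by
    intro k hk
    have hxk : Δ.δ c (x • k) = cs.simple i * cs.simple j * cs.simple i := by
      rw [← hk, ← S.iso x c k, hc]
    -- positions of the chambers of the `i`-panels of `k`, `x k`
    have hpos : ∀ k', Δ.δ c k' = cs.simple i * cs.simple j * cs.simple i → ∀ z ∈ Δ.Pan i k',
        Δ.δ c z = cs.simple i * cs.simple j * cs.simple i ∨ Δ.δ c z = cs.simple i * cs.simple j := by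
      intro k' hk' z hz
      rcases hz with rfl | hz
      · left; exact hk'
      · rcases Δ.step c k' z i hz with h1 | h1
        · right; rw [h1, hk', mul_assoc _ (cs.simple i), hss, mul_one]
        · left; rw [h1, hk']
    -- the meeting point
    have hres : Δ.δ k (x • k) ∈ WJ cs {i, j} := by
      have h1 : k ∈ Δ.Res {i, j} c := by
        rw [mem_Res, hk]
        exact mul_mem (mul_mem (Tits.Exchange.simple_mem_WJ cs (by simp)) (Tits.Exchange.simple_mem_WJ cs (by simp)))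
          (Tits.Exchange.simple_mem_WJ cs (by simp))
      have h2 : x • k ∈ Δ.Res {i, j} c := by
        rw [mem_Res, hxk, ← hk]; exact h1
      exact Δ.δ_mem_of_mem_Res h1 h2
    obtain ⟨k1, hk1, k2, hk2, hk12⟩ : ∃ k1 ∈ Δ.Pan i k, ∃ k2 ∈ Δ.Pan i (x • k), k2 ∈ Δ.Pan j k1 := by
      obtain ⟨k1, hk1⟩ := Δ.exists_isProj {i} k (x • k)
      have hk1' : k1 ∈ Δ.Pan i k := by rw [Pan_eq_Res]; exact hk1.mem
      have h1 := (isMinR_iff cs).1 hk1.isMinR i rfl
      have h2 : ℓ (Δ.δ k1 (x • k)) < ℓ (cs.simple i * Δ.δ k1 (x • k)) := by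
        rw [← cs.length_inv, ← cs.length_inv (Δ.δ (x • k) k1 * _), mul_inv_rev, cs.inv_simple,
          ← Δ.symm (x • k) k1] at h1
        exact h1
      have h3 : Δ.δ k1 (x • k) ∈ WJ cs {i, j} := by
        have h4 : k1 ∈ Δ.Res {i, j} k := Δ.Pan_subset_Res (by simp) k hk1'
        exact Δ.δ_mem_of_mem_Res h4 hres
      rcases cases_m3 S hM h3 h2 with h4 | h4 | h4
      · exact ⟨k1, hk1', x • k, Δ.self_mem_Pan i _, by rw [Δ.eq_of_δ_eq_one h4]; exact Δ.self_mem_Pan j _⟩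
      · exact ⟨k1, hk1', x • k, Δ.self_mem_Pan i _, Δ.mem_Pan_of_δ h4⟩
      · obtain ⟨k2, h5, h6⟩ := Δ.exists_between h4 (by rw [l2, cs.length_simple, cs.length_simple])
        exact ⟨k1, hk1', k2, Δ.mem_Pan_symm (Δ.mem_Pan_of_δ h6), Δ.mem_Pan_of_δ h5⟩
    -- the chamber `k0` of the `j`-panel of `k1`, joined to a fixed chamber `f`
    obtain ⟨f, hf, hfc, k0, hfk, hk01⟩ : ∃ f, x • f = f ∧ (ℓ (Δ.δ c f) ≤ 1) ∧ ∃ k0, Δ.δ f k0 = cs.simple i ∧
        Δ.δ k0 k1 = cs.simple j := by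
      rcases hpos k hk k1 hk1 with h1 | h1
      · rw [← hbraid] at h1
        obtain ⟨f, hf1, hf2⟩ := Δ.exists_between (v := cs.simple j) (w := cs.simple i * cs.simple j)
          (by rw [h1, mul_assoc]) (by rw [← mul_assoc, l3, l2', cs.length_simple])
        obtain ⟨k0, hk1, hk2⟩ := Δ.exists_between hf2 (by rw [l2', cs.length_simple, cs.length_simple])
        exact ⟨f, hfix hc (Δ.mem_Pan_of_δ hf1), by rw [hf1, cs.length_simple], k0, hk1, hk2⟩
      · obtain ⟨k0, hk1, hk2⟩ := Δ.exists_between h1 (by rw [l2', cs.length_simple, cs.length_simple])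
        exact ⟨c, hc, by rw [Δ.δ_self, cs.length_one]; omega, k0, hk1, hk2⟩
    -- `x` fixes `k0`
    have hk0 : x • k0 = k0 := by
      by_contra hne
      have h1 : Δ.δ k0 (x • k0) = cs.simple i := by
        refine Δ.δ_eq_of_mem_Pan (x := f) (Δ.mem_Pan_of_δ hfk) ?_ (Ne.symm hne)
        have := smul_mem_Pan S (g := x) (Δ.mem_Pan_of_δ hfk)
        rwa [hf] at this
      have h2 : k2 ≠ k0 := by
        rintro rfl
        have h3 : f ∈ Δ.Pan i (x • k) := Δ.mem_Pan_trans hk2 (Δ.mem_Pan_symm (Δ.mem_Pan_of_δ hfk))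
        rcases hpos _ hxk f h3 with h4 | h4
        · rw [h4, l3'] at hfc; omega
        · rw [h4, l2'] at hfc; omega
      have h3 : Δ.δ k0 k2 = cs.simple j := by
        refine Δ.δ_eq_of_mem_Pan (x := k1) (Δ.mem_Pan_symm (Δ.mem_Pan_of_δ hk01)) hk12 (Ne.symm h2)
      have h4 : x • k1 ∈ Δ.Pan i k2 := by
        rw [Δ.Pan_eq_of_mem hk2]
        exact smul_mem_Pan S hk1
      have h5 : Δ.δ (x • k1) (x • k0) = cs.simple j := by
        rw [S.iso]; exact Δ.δ_symm_simple hk01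
      exact no_sq hM h3 h4 h5 h1
    -- so `k1` is fixed
    have hk1f : x • k1 = k1 := hfix hk0 (Δ.mem_Pan_of_δ hk01)
    have h1 := smul_mem_Pan S (g := x) hk1
    rw [hk1f] at h1
    have h2 := Δ.Pan_eq_of_mem h1
    have h3 : x • k ∈ Δ.Pan i (x • k) := Δ.self_mem_Pan i _
    rw [← h2, Δ.Pan_eq_of_mem hk1] at h3
    exact h3
  -- final contradiction
  obtain ⟨e', he', -⟩ := Δ.exists_step e e j
  have hee' : Δ.δ e e' = cs.simple j := Δ.δ_symm_simple (by rw [Δ.symm, he', cs.inv_simple])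
  have hce' : Δ.δ c e' = cs.simple i * cs.simple j := Δ.δ_mul_of he hee' (by
    rw [l2', cs.length_simple, cs.length_simple])
  obtain ⟨k, hk, -⟩ := Δ.exists_step e' e' i
  have hek : Δ.δ e' k = cs.simple i := Δ.δ_symm_simple (by rw [Δ.symm, hk, cs.inv_simple])
  have hck : Δ.δ c k = cs.simple i * cs.simple j * cs.simple i := Δ.δ_mul_of hce' hek (by
    rw [l3', l2', cs.length_simple])
  have h1 := hline k hck
  have h2 : x • e' ∈ Δ.Pan i e' := by
    have h3 := smul_mem_Pan S (g := x) (Δ.mem_Pan_symm (Δ.mem_Pan_of_δ hek))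
    rw [Δ.Pan_eq_of_mem h1, Δ.Pan_eq_of_mem (Δ.mem_Pan_of_δ hek)] at h3
    exact h3
  have h3 : Δ.δ e (x • e) = cs.simple i := by
    refine Δ.δ_eq_of_mem_Pan (x := c) (Δ.mem_Pan_of_δ he) ?_ (Ne.symm hxe)
    have := smul_mem_Pan S (g := x) (Δ.mem_Pan_of_δ he)
    rwa [hc] at this
  have h4 : Δ.δ (x • e') (x • e) = cs.simple j := by
    rw [S.iso]; exact Δ.δ_symm_simple hee'
  exact no_sq hM hee' h2 h4 h3

end Sys

end Cfsg.Agent.H197.Cls
end

-- part: H148/Cls/Full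
section
prune_inst 0x20003404100002000018001262003e42d6000192006b0001d1e00f4206c6fd63a0402f21fc800f029122a2640038000811100479421000000a000200413d06a9802262829308a10426000980a807180c00000000000000000000000000041000200400000
set_option linter.all false
open scoped Cfsg.Agent.FastGrp

-- part: H148/Cls/Alt
section
/-!
# S2451, helper148: alternating words
-/

set_option autoImplicit false
set_option linter.unusedSectionVars false

namespace Cfsg.Agent.H148.Cls

open Cfsg.Agent.Tits.Core Cfsg.Agent.Tits.Exchange Cfsg.Agent.Tits Cfsg.Agent.H234.CoxB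

variable {I : Type*} {M : CoxeterMatrix I} {W : Type*} [Group W] {cs : CoxeterSystem M W}

local prefix:100 "ℓ" => cs.length

/-- the letters `k, l, k, l, …` -/
def lt (k l : I) : ℕ → I
  | 0 => k
  | n + 1 => lt l k n

@[simp] theorem lt_zero (k l : I) : lt k l 0 = k := rfl

theorem lt_succ (k l : I) (n : ℕ) : lt k l (n + 1) = lt l k n := rfl

theorem lt_even (k l : I) {n : ℕ} (h : Even n) : lt k l n = k := by
  induction n using Nat.strong_induction_on generalizing k l with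
  | _ n ih =>
    rcases n with _ | _ | n
    · rfl
    · exact absurd h (by decide)
    · rw [lt_succ, lt_succ]
      exact ih n (by omega) k l (by rwa [Nat.even_add_one, Nat.even_add_one, not_not] at h)

theorem lt_odd (k l : I) {n : ℕ} (h : ¬ Even n) : lt k l n = l := by
  rcases n with _ | n
  · exact absurd (by decide) h
  · rw [lt_succ]
    exact lt_even l k (by rwa [Nat.even_add_one, not_not] at h)

theorem lt_cases (k l : I) (n : ℕ) : (lt k l n = k ∧ lt l k n = l) ∨ (lt k l n = l ∧ lt l k n = k) := by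
  by_cases h : Even n
  · left; exact ⟨lt_even _ _ h, lt_even _ _ h⟩
  · right; exact ⟨lt_odd _ _ h, lt_odd _ _ h⟩

theorem alt_add (k l : I) (a b : ℕ) :
    alt cs k l (a + b) = alt cs k l a * alt cs (lt k l a) (lt l k a) b := by
  induction a generalizing k l with
  | zero => simp
  | succ a ih => rw [Nat.succ_add, alt_succ, ih, alt_succ, lt_succ, lt_succ, mul_assoc]

theorem alt_succ' (k l : I) (n : ℕ) : alt cs k l (n + 1) = alt cs k l n * cs.simple (lt k l n) := by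
  rw [alt_add, alt_one]

theorem alt_inv (k l : I) (n : ℕ) : (alt cs k l n)⁻¹ = alt cs (lt l k n) (lt k l n) n := by
  induction n generalizing k l with
  | zero => simp
  | succ n ih =>
    rw [alt_succ', mul_inv_rev, cs.inv_simple, ih, alt_succ, lt_succ, lt_succ]

theorem orderOf_comm' (k l : I) : orderOf (cs.simple l * cs.simple k) = orderOf (cs.simple k * cs.simple l) :=
  orderOf_swap (cs := cs) k l

variable [F : OppRes.Cox cs]

theorem len_alt {k l : I} {m : ℕ} (hm : orderOf (cs.simple k * cs.simple l) = m) {n : ℕ} (hn : n ≤ m) :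
    ℓ (alt cs k l n) = n := length_alt n (by rw [hm]; exact hn)

/-- the elements of a dihedral parabolic are alternating words -/
theorem exists_alt {k l : I} {w : W} (hw : w ∈ WJ cs {k, l}) :
    (w = alt cs k l (ℓ w)) ∨ (w = alt cs l k (ℓ w)) := by
  generalize hn : ℓ w = n
  induction n using Nat.strong_induction_on generalizing w with
  | _ n ih =>
    rcases n with _ | n
    · left; rw [alt_zero]; exact cs.length_eq_zero_iff.1 hn
    · have hne : w ≠ 1 := fun h => by rw [h, cs.length_one] at hn; omega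
      obtain ⟨j, hj, hlt⟩ := F.exists_descent hw hne
      have h1 : ℓ (w * cs.simple j) = n := by
        have := cs.length_mul_simple w j
        omega
      have h2 : w * cs.simple j ∈ WJ cs {k, l} := mul_mem hw (simple_mem_WJ cs hj)
      -- a general step
      have key : ∀ a b : I, (j = a ∨ j = b) → w * cs.simple j = alt cs a b n →
          (w = alt cs a b (n + 1)) ∨ (w = alt cs b a (n + 1)) := by
        intro a b hab h3
        have h4 : w = alt cs a b n * cs.simple j := by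
          rw [← h3, cs.simple_mul_simple_cancel_right]
        by_cases h5 : j = lt a b n
        · left; rw [h4, h5, alt_succ']
        · rcases n with _ | n
          · rw [alt_zero, one_mul] at h4
            rw [lt_zero] at h5
            have h6 : j = b := by (clear * - I j a b hab h5; tauto)
            right
            rw [h4, h6, zero_add, alt_one]
          · exfalso
            have h6 : j = lt a b n := by
              rw [lt_succ] at h5
              rcases lt_cases a b n with ⟨h7, h8⟩ | ⟨h7, h8⟩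
              · rw [h7]; rw [h8] at h5; (clear * - I j a b hab h5; tauto)
              · rw [h7]; rw [h8] at h5; (clear * - I j a b hab h5; tauto)
            rw [alt_succ', ← h6, cs.simple_mul_simple_cancel_right] at h4
            have h9 : ℓ w ≤ n := by
              rw [h4]
              clear * -
              induction n generalizing a b with
              | zero => rw [alt_zero, cs.length_one]
              | succ n ih =>
                rw [alt_succ']
                have := cs.length_mul_le (alt cs a b n) (cs.simple (lt a b n))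
                rw [cs.length_simple] at this
                have := ih a b
                omega
            omega
      rcases ih n (by omega) h2 h1 with h3 | h3
      · exact key k l hj h3
      · have hj' : j = l ∨ j = k := hj.symm
        exact (key l k hj' h3).symm

theorem len_wJ_pair {k l : I} {m : ℕ} (hm : orderOf (cs.simple k * cs.simple l) = m) (hm0 : m ≠ 0) :
    ℓ (wJ cs {k, l}) = m := by
  rw [wJ_pair hm hm0, len_alt hm le_rfl]

theorem len_le {k l : I} {m : ℕ} (hm : orderOf (cs.simple k * cs.simple l) = m) (hm0 : m ≠ 0) {w : W}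
    (hw : w ∈ WJ cs {k, l}) : ℓ w ≤ m := by
  have := F.len_wJ_mul hw
  rw [len_wJ_pair hm hm0] at this
  omega

theorem eq_wJ_of_len {k l : I} {m : ℕ} (hm : orderOf (cs.simple k * cs.simple l) = m) (hm0 : m ≠ 0) {w : W}
    (hw : w ∈ WJ cs {k, l}) (h : m ≤ ℓ w) : w = wJ cs {k, l} := by
  have h1 := F.len_wJ_mul hw
  rw [len_wJ_pair hm hm0] at h1
  have h2 : ℓ (wJ cs {k, l} * w) = 0 := by omega
  rw [cs.length_eq_zero_iff] at h2
  rw [← F.wJ_inv]
  exact eq_inv_of_mul_eq_one_right h2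

end Cfsg.Agent.H148.Cls
end

-- part: H148/Cls/Fix
section
/-!
# S2451, helper148: the fixed chambers of `a` and `b` when `Dis Δ a b ⊆ {1}`
-/

set_option autoImplicit false
set_option linter.unusedSectionVars false

open scoped Pointwise

namespace Cfsg.Agent.H148.Cls

open Cfsg.Agent.Tits.Core Cfsg.Agent.Tits.Core.Bldg Cfsg.Agent.Tits.Exchange Cfsg.Agent.Tits Cfsg.Agent.FixBN
open Cfsg.Agent.H197.Cls

variable {I : Type*} {M : CoxeterMatrix I} {W : Type*} [Group W] {cs : CoxeterSystem M W} {C : Type*}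

local prefix:100 "ℓ" => cs.length

variable {Δ : Bldg cs C} {G : Type*} [Group G] [MulAction G C] {p : ℕ}

/-- one or all chambers of each panel are fixed -/
def Uni (Δ : Bldg cs C) (x : G) : Prop :=
  ∀ (i : I) (c d : C), x • c = c → x • d = d → d ∈ Δ.Pan i c → d ≠ c → ∀ e ∈ Δ.Pan i c, x • e = e

/-- each stable residue contains a fixed chamber -/
def StF (Δ : Bldg cs C) (x : G) : Prop :=
  ∀ (J : Set I) (c : C), x • c ∈ Δ.Res J c → ∃ d ∈ Δ.Res J c, x • d = d

theorem StF.pan {x : G} (h : StF Δ x) {i : I} {c : C} (hc : x • c ∈ Δ.Pan i c) : ∃ d ∈ Δ.Pan i c, x • d = d := by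
  rw [Δ.Pan_eq_Res] at hc ⊢
  exact h {i} c hc

section Sys

variable (S : Sys Δ G p)

include S

/-- convexity -/
theorem fix_conv {x : G} {c d e : C} (hc : x • c = c) (hd : x • d = d) (h : Δ.δ c d = Δ.δ c e * Δ.δ e d)
    (hl : ℓ (Δ.δ c e * Δ.δ e d) = ℓ (Δ.δ c e) + ℓ (Δ.δ e d)) : x • e = e := by
  have h1 : Δ.δ c (x • e) = Δ.δ c e := by rw [← S.iso x c e, hc]
  have h2 : Δ.δ (x • e) d = Δ.δ e d := by rw [← S.iso x e d, hd]
  exact Δ.between_unique hl h1 h2 rfl rfl

variable [F : OppRes.Cox cs]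

/-- two fixed chambers which are opposite in a residue -/
theorem fix_opp (hth : Δ.Thick) {x : G} (hu : Uni Δ x) {J : Set I} {c d : C} (hc : x • c = c) (hd : x • d = d)
    (h : Δ.δ c d = wJ cs J) : ∀ e ∈ Δ.Res J c, x • e = e := by
  refine Rigid.rigid (Δ' := Δ) (φ := fun e => x • e) (ψ := fun e => e) hth ?_ ?_ ?_ h hd
  · intro u _ v _; exact S.iso x u v
  · intro u _ v _; rfl
  · intro j hj e he
    have h1 : ℓ (cs.simple j * wJ cs J) + 1 = ℓ (wJ cs J) := by
      have := F.len_mul_wJ (J := J) (v := cs.simple j) (Tits.Exchange.simple_mem_WJ cs hj)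
      rwa [cs.length_simple] at this
    have h2 : Δ.δ c d = cs.simple j * (cs.simple j * wJ cs J) := by
      rw [← mul_assoc, cs.simple_mul_simple_self, one_mul, h]
    have h3 : ℓ (cs.simple j * (cs.simple j * wJ cs J)) = ℓ (cs.simple j) + ℓ (cs.simple j * wJ cs J) := by
      rw [← mul_assoc, cs.simple_mul_simple_self, one_mul, cs.length_simple]; omega
    obtain ⟨f, hf1, hf2⟩ := Δ.exists_between h2 h3
    have hf : x • f = f := fix_conv S hc hd (by rw [hf1, hf2, h2]) (by rw [hf1, hf2, h3])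
    exact hu j c f hc hf (Δ.mem_Pan_of_δ hf1) (fun h => Δ.ne_of_δ_simple hf1 h.symm) e he

variable [hp : Fact p.Prime]

omit hp F in
theorem mem_dis_swap {a b : G} {w : W} (h : w ∈ Dis Δ a b) : w⁻¹ ∈ Dis Δ b a := by
  obtain ⟨⟨c, hc⟩, d, hd⟩ := h
  refine ⟨⟨b • d, ?_⟩, a⁻¹ • c, ?_⟩
  · rw [inv_smul_smul, Δ.symm, hd]
  · rw [smul_inv_smul, Δ.symm, hc]

omit hp F in
theorem dis_swap {a b : G} (h : Dis Δ a b ⊆ {1}) : Dis Δ b a ⊆ {1} := by
  intro w hw
  have h1 := h (mem_dis_swap S hw)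
  rw [Set.mem_singleton_iff] at h1 ⊢
  exact inv_eq_one.1 h1

omit hp F in
theorem dis_conjR {a b : G} (h : Dis Δ a b ⊆ {1}) (g : G) : Dis Δ a (g * b * g⁻¹) ⊆ {1} := by
  rw [dis_conj S]; exact h

/-- if `a` and `b` stabilise a residue they fix a common chamber of it -/
theorem common {a b : G} (hab : Good p a b) (hD : Dis Δ a b ⊆ {1}) {J : Set I} {c : C}
    (ha : a • c ∈ Δ.Res J c) (hb : b • c ∈ Δ.Res J c) : ∃ d ∈ Δ.Res J c, a • d = d ∧ b • d = d := by
  have h1 : (a * b) • c ∈ Δ.Res J c := by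
    rw [mul_smul]
    have h2 := S.smul_mem_Res (g := a) hb
    rw [Δ.Res_eq_of_mem ha] at h2
    exact h2
  obtain ⟨d, hd, hdd⟩ := exists_fixed_res S hab.mul h1
  have h2 : b • d = a⁻¹ • d := by rw [eq_inv_smul_iff, ← mul_smul, hdd]
  have h3 := hD (mem_dis S h2)
  rw [Set.mem_singleton_iff] at h3
  have h4 : b • d = d := (Δ.eq_of_δ_eq_one h3).symm
  refine ⟨d, hd, ?_, h4⟩
  rw [h4, eq_inv_smul_iff] at h2
  exact h2

theorem exists_common {a b : G} (hab : Good p a b) (hD : Dis Δ a b ⊆ {1}) [Nonempty C] : ∃ d : C, a • d = d ∧ b • d = d := by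
  obtain ⟨c⟩ := ‹Nonempty C›
  obtain ⟨d, -, h⟩ := common S hab hD (J := Set.univ) (c := c) (by rw [Res_univ]; trivial) (by rw [Res_univ]; trivial)
  exact ⟨d, h⟩

theorem nonemptyC {a b : G} (hab : Good p a b) : Nonempty C := by
  obtain ⟨c, -⟩ := _root_.Cfsg.Agent.H197.Cls.exists_fixed S hab.mul
  exact ⟨c⟩

theorem stF_left (hth : Δ.Thick) {a b : G} (hab : Good p a b) (hD : Dis Δ a b ⊆ {1}) : StF Δ a := by
  intro J c hc
  have := nonemptyC S hab
  obtain ⟨f, -, hf⟩ := exists_common S hab hD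
  obtain ⟨g, hg⟩ := exists_smul S hth f c
  obtain ⟨d, hd, h, -⟩ := common S (hab.conjR g) (dis_conjR S hD g) (J := J) hc (by
    have h1 : (g * b * g⁻¹) • c = c := by rw [mul_smul, mul_smul, ← hg, inv_smul_smul, hf]
    rw [h1]; exact Δ.self_mem_Res J c)
  exact ⟨d, hd, h⟩

theorem stF_right (hth : Δ.Thick) {a b : G} (hab : Good p a b) (hD : Dis Δ a b ⊆ {1}) : StF Δ b :=
  stF_left S hth hab.swap (dis_swap S hD)

omit hp F in
theorem mv_conj {i : I} {x g : G} (h : Mv Δ i (g * x * g⁻¹)) : Mv Δ i x := by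
  obtain ⟨c, d, hc, hd, hne⟩ := h
  refine ⟨g⁻¹ • c, g⁻¹ • d, ?_, by rw [S.iso, hd], fun h1 => hne ?_⟩
  · rw [mul_smul, mul_smul, ← eq_inv_smul_iff] at hc
    exact hc
  · rw [mul_smul, mul_smul, h1, smul_inv_smul]

theorem uni_left (hth : Δ.Thick) {a b : G} (hab : Good p a b) (hD : Dis Δ a b ⊆ {1}) : Uni Δ a := by
  intro i c d hc hd hdc hne e he
  by_contra hcon
  have hMa : Mv Δ i a := by
    rcases he with rfl | he
    · exact absurd hc hcon
    · exact ⟨c, e, hc, he, hcon⟩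
  have hMb : ¬ Mv Δ i b := fun h => not_mv_both S hD i ⟨hMa, h⟩
  have := nonemptyC S hab
  obtain ⟨f, -, hf⟩ := exists_common S hab hD
  obtain ⟨g, hg⟩ := exists_smul S hth f c
  have hMb' : ¬ Mv Δ i (g * b * g⁻¹) := fun h => hMb (mv_conj S h)
  have h1 : (g * b * g⁻¹) • c = c := by rw [mul_smul, mul_smul, ← hg, inv_smul_smul, hf]
  have hb : ∀ y ∈ Δ.Pan i c, (g * b * g⁻¹) • y = y := fun y hy => fix_of_not_mv hMb' h1 hy
  have hz := (hab.conjR g).mul
  have hzc : (a * (g * b * g⁻¹)) • c = c := by rw [mul_smul, h1, hc]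
  have hzd : (a * (g * b * g⁻¹)) • d = d := by rw [mul_smul, hb d hdc, hd]
  have h2 := fix_pan S (mem_U S hz hzc) hdc hne hzd he
  rw [mul_smul, hb e he] at h2
  exact hcon h2

theorem uni_right (hth : Δ.Thick) {a b : G} (hab : Good p a b) (hD : Dis Δ a b ⊆ {1}) : Uni Δ b :=
  uni_left S hth hab.swap (dis_swap S hD)

/-- the commutator of `a` and `b` if they fix a common chamber, and the commutator fixes two opposite chambers -/
theorem comm_eq_one {a b : G} (hab : Good p a b) {x0 u v : C} (ha : a • x0 = x0) (hb : b • x0 = x0)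
    (hux : (a⁻¹ * b⁻¹ * a * b) • u = u) (hvx : (a⁻¹ * b⁻¹ * a * b) • v = v) (huv : Δ.Opp u v) :
    a * b = b * a := by
  -- the commutator is a `p`-element
  have hz : a * b ∈ S.U x0 := mem_U S hab.mul (by rw [mul_smul, hb, ha])
  have hk : a⁻¹ * b⁻¹ * a * b ∈ S.U x0 := by
    have h1 : a⁻¹ * (a * b)⁻¹ * a⁻¹⁻¹ ∈ S.U x0 := by
      refine S.max x0 ((S.U x0).map (MulAut.conj a⁻¹).toMonoidHom) ((S.isP x0).map _) ?_ ?_
      · rintro _ ⟨v, hv, rfl⟩
        have h2 : v • x0 = x0 := S.fix x0 v hv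
        have h3 : a⁻¹ • x0 = x0 := by rw [inv_smul_eq_iff, ha]
        simp only [MulEquiv.coe_toMonoidHom, MulAut.conj_apply, inv_inv]
        rw [mul_smul, mul_smul, ha, h2, h3]
      · exact ⟨(a * b)⁻¹, inv_mem hz, by simp only [MulAut.conj_apply, _root_.map_inv, _root_.MulEquiv.toMonoidHom_eq_coe, _root_.mul_inv_rev, _root_.MonoidHom.coe_coe, _root_.MulAut.inv_apply, _root_.MulAut.conj_symm_apply, _root_.inv_inv]⟩
    have h2 := mul_mem h1 hz
    have e : a⁻¹ * (a * b)⁻¹ * a⁻¹⁻¹ * (a * b) = a⁻¹ * (b⁻¹ * a⁻¹) * a * (a * b) := by group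
    have e2 : (a⁻¹ * (a * b)⁻¹ * a⁻¹⁻¹) * (a * b) = a⁻¹ * b⁻¹ * a * b := by group
    rwa [e2] at h2
  have hkP : PE p (a⁻¹ * b⁻¹ * a * b) := by
    obtain ⟨k, hk'⟩ := (S.isP x0) ⟨_, hk⟩
    exact ⟨k, by simpa only [Subtype.ext_iff, _root_.SubmonoidClass.mk_pow, _root_.OneMemClass.coe_one] using hk'⟩
  have h1 := S.free u v huv _ (mem_U S hkP hux) hvx
  have h2 : b * a * (a⁻¹ * b⁻¹ * a * b) = b * a * 1 := by rw [h1]
  rw [mul_one] at h2
  rw [← h2]; group

end Sys

end Cfsg.Agent.H148.Cls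
end

-- part: H148/Cls/Two
section
/-!
# S2451, helper148: residues of rank two (`m` even), `Dis Δ a b ⊆ {1}`

`x` does not move the type `j`; the fixed chambers of `x` in a `{i, j}`-residue on which `x` is not trivial are at
distance `≤ k` from a central panel, `2 k + 2 ≤ m`.  For `a` (not moving `j`) and `b` (not moving `i`) one has
`2 k + 2 = m` and a suitable product `a * b ^ g` has an isolated fixed chamber.
-/

set_option autoImplicit false
set_option linter.unusedSectionVars false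

open scoped Pointwise

namespace Cfsg.Agent.H148.Cls

open Cfsg.Agent.Tits.Core Cfsg.Agent.Tits.Core.Bldg Cfsg.Agent.Tits.Exchange Cfsg.Agent.Tits Cfsg.Agent.FixBN
open Cfsg.Agent.H197.Cls Cfsg.Agent.H234.CoxB

variable {I : Type*} {M : CoxeterMatrix I} {W : Type*} [Group W] {cs : CoxeterSystem M W} {C : Type*}

local prefix:100 "ℓ" => cs.length

theorem lt_add (k l : I) (a b : ℕ) : lt (lt k l a) (lt l k a) b = lt k l (a + b) := by
  induction a generalizing k l with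
  | zero => simp
  | succ a ih => rw [lt_succ, lt_succ, Nat.succ_add, lt_succ, ih]

section Bldg

variable (Δ : Bldg cs C)

/-- the triangle inequality -/
theorem len_tri (x y z : C) : ℓ (Δ.δ x z) ≤ ℓ (Δ.δ x y) + ℓ (Δ.δ y z) := by
  generalize hn : ℓ (Δ.δ y z) = n
  induction n generalizing z with
  | zero =>
    rw [cs.length_eq_zero_iff] at hn
    rw [Δ.eq_of_δ_eq_one hn]
    omega
  | succ n ih =>
    have hne : Δ.δ y z ≠ 1 := fun h1 => by rw [h1, cs.length_one] at hn; omega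
    obtain ⟨i, hi⟩ := cs.exists_rightDescent_of_ne_one hne
    rw [cs.isRightDescent_iff] at hi
    obtain ⟨z', hz, hz'⟩ := Δ.exists_step y z i
    have h1 := ih z' (by rw [hz']; omega)
    rcases Δ.step x z' z i (Δ.δ_symm_simple hz) with h2 | h2
    · rw [h2]
      have := cs.length_mul_le (Δ.δ x z') (cs.simple i)
      rw [cs.length_simple] at this
      omega
    · rw [h2]; omega

/-- equality in the triangle inequality -/
theorem δ_eq_of_len {x y z : C} (h : ℓ (Δ.δ x z) = ℓ (Δ.δ x y) + ℓ (Δ.δ y z)) :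
    Δ.δ x z = Δ.δ x y * Δ.δ y z := by
  generalize hn : ℓ (Δ.δ y z) = n at h
  induction n generalizing z with
  | zero =>
    rw [cs.length_eq_zero_iff] at hn
    rw [hn, mul_one, Δ.eq_of_δ_eq_one hn]
  | succ n ih =>
    have hne : Δ.δ y z ≠ 1 := fun h1 => by rw [h1, cs.length_one] at hn; omega
    obtain ⟨i, hi⟩ := cs.exists_rightDescent_of_ne_one hne
    rw [cs.isRightDescent_iff] at hi
    obtain ⟨z', hz, hz'⟩ := Δ.exists_step y z i
    have h0 : ℓ (Δ.δ y z') = n := by rw [hz']; omega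
    have h1 := len_tri Δ x y z'
    have h2 := len_tri Δ x z' z
    rw [Δ.δ_symm_simple hz, cs.length_simple] at h2
    have h3 := ih h0 (by omega)
    rcases Δ.step x z' z i (Δ.δ_symm_simple hz) with h4 | h4
    · rw [h4, h3, hz', mul_assoc, mul_assoc, cs.simple_mul_simple_self, mul_one]
    · rw [h4] at h; omega

/-- a step from `x` to a chamber -/
theorem exists_adj (x : C) (i : I) : ∃ y, Δ.δ x y = cs.simple i := by
  obtain ⟨z, hz, -⟩ := Δ.exists_step x x i
  exact ⟨z, hz⟩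

end Bldg

variable {Δ : Bldg cs C} {G : Type*} [Group G] [MulAction G C] {p : ℕ}

/-- The fixed chambers of `x` in the `{i, j}`-residue of `u` : distance `≤ k` from a central panel of `u`. -/
structure Ctr (Δ : Bldg cs C) (x : G) (i j : I) (m k : ℕ) (u : C) : Prop where
  le : 2 * k + 2 ≤ m
  fix : ∀ y ∈ Δ.Pan (lt j i k) u, x • y = y
  near : ∀ y ∈ Δ.Res {i, j} u, x • y = y → ∃ u' ∈ Δ.Pan (lt j i k) u, ℓ (Δ.δ u' y) ≤ k
  fixi : 1 ≤ k → ∀ y ∈ Δ.Pan i u, x • y = y

section Sys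

variable (S : Sys Δ G p) [F : OppRes.Cox cs]

include S

theorem Ctr.conj {x : G} {i j : I} {m k : ℕ} {u : C} (h : Ctr Δ x i j m k u) (g : G) :
    Ctr Δ (g * x * g⁻¹) i j m k (g • u) := by
  have e : ∀ y : C, (g * x * g⁻¹) • y = y ↔ x • (g⁻¹ • y) = g⁻¹ • y := by
    intro y
    rw [mul_smul, mul_smul, ← eq_inv_smul_iff]
  have h1 : ∀ (t : I) (y : C), y ∈ Δ.Pan t (g • u) → g⁻¹ • y ∈ Δ.Pan t u := by
    intro t y hy
    have := smul_mem_Pan S (g := g⁻¹) hy
    rwa [inv_smul_smul] at this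
  refine ⟨h.le, fun y hy => (e y).2 (h.fix _ (h1 _ y hy)), fun y hy hxy => ?_,
    fun hk y hy => (e y).2 (h.fixi hk _ (h1 _ y hy))⟩
  have h2 := S.smul_mem_Res (g := g⁻¹) hy
  rw [inv_smul_smul] at h2
  obtain ⟨u', hu', hl⟩ := h.near _ h2 ((e y).1 hxy)
  refine ⟨g • u', smul_mem_Pan S hu', ?_⟩
  rw [← S.iso g⁻¹, inv_smul_smul]
  exact hl

/-- existence of the centre -/
theorem exists_ctr (hth : Δ.Thick) {x : G} (hu : Uni Δ x) {i j : I} (hj : ¬ Mv Δ j x) {m : ℕ}
    (hm : orderOf (cs.simple j * cs.simple i) = m) (hm0 : m ≠ 0) (hme : Even m) {c0 y0 : C} (hc0 : x • c0 = c0)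
    (hy0 : y0 ∈ Δ.Res {i, j} c0) (hne : x • y0 ≠ y0) : ∃ k, ∃ u ∈ Δ.Res {i, j} c0, Ctr Δ x i j m k u := by
  classical
  have hm' : orderOf (cs.simple i * cs.simple j) = m := by rw [orderOf_comm', hm]
  set R := Δ.Res {i, j} c0 with hR
  have hRmem : ∀ c ∈ R, ∀ d ∈ R, Δ.δ c d ∈ WJ cs {i, j} := fun c hc d hd => Δ.δ_mem_of_mem_Res hc hd
  have hlen : ∀ c ∈ R, ∀ d ∈ R, ℓ (Δ.δ c d) ≤ m := fun c hc d hd => len_le hm' hm0 (hRmem c hc d hd)
  -- a pair at maximal distance
  let P : ℕ → Prop := fun n => ∃ c ∈ R, ∃ d ∈ R, x • c = c ∧ x • d = d ∧ ℓ (Δ.δ c d) = n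
  have hP0 : P 0 := ⟨c0, Δ.self_mem_Res _ _, c0, Δ.self_mem_Res _ _, hc0, hc0, by rw [Δ.δ_self, cs.length_one]⟩
  obtain ⟨n, hnP, hmax⟩ : ∃ n, P n ∧ ∀ n', P n' → n' ≤ n := by
    refine ⟨Nat.findGreatest P m, Nat.findGreatest_spec (Nat.zero_le m) hP0, fun n' hn' => ?_⟩
    refine Nat.le_findGreatest ?_ hn'
    obtain ⟨c, hc, d, hd, -, -, h⟩ := hn'
    rw [← h]; exact hlen c hc d hd
  have hmax' : ∀ c ∈ R, ∀ d ∈ R, x • c = c → x • d = d → ℓ (Δ.δ c d) ≤ n := fun c hc d hd h1 h2 =>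
    hmax _ ⟨c, hc, d, hd, h1, h2, rfl⟩
  obtain ⟨c, hc, d, hd, hxc, hxd, hcd⟩ := hnP
  have hnm : n < m := by
    by_contra hcon
    have h1 := eq_wJ_of_len hm' hm0 (hRmem c hc d hd) (by omega)
    have h2 := fix_opp S hth hu hxc hxd h1 y0 (by rw [Δ.Res_eq_of_mem hc]; exact hy0)
    exact hne h2
  -- the words of maximal length start with `j`
  have hnoI : ∀ c ∈ R, ∀ d ∈ R, x • c = c → x • d = d → Δ.δ c d ≠ alt cs i j n := by
    intro c hc d hd hxc hxd h
    obtain ⟨c', hc'⟩ := exists_adj Δ c j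
    have h1 : Δ.δ c' d = alt cs j i (n + 1) := by
      rw [alt_succ]
      refine Δ.δ_mul_of (Δ.δ_symm_simple hc') h ?_
      rw [← alt_succ, len_alt hm (by omega), cs.length_simple, len_alt hm' (by omega)]
      omega
    have h2 := hmax' c' (Δ.mem_Res_trans hc (Δ.Pan_subset_Res (by simp) c (Δ.mem_Pan_of_δ hc'))) d hd
      (fix_of_not_mv hj hxc (Δ.mem_Pan_of_δ hc')) hxd
    rw [h1, len_alt hm (by omega)] at h2
    omega
  have hcd' : Δ.δ c d = alt cs j i n := by
    have h1 := exists_alt (hRmem c hc d hd)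
    rw [hcd] at h1
    exact h1.resolve_left (hnoI c hc d hd hxc hxd)
  have hodd : ¬ Even n := by
    intro hev
    refine hnoI d hd c hc hxd hxc ?_
    rw [Δ.symm, hcd', alt_inv, lt_even _ _ hev, lt_even _ _ hev]
  obtain ⟨k, hk⟩ : ∃ k, n = 2 * k + 1 := by
    rcases Nat.even_or_odd n with h | h
    · exact absurd h hodd
    · exact h
  have hkm : 2 * k + 2 ≤ m := by
    obtain ⟨m', hm'⟩ := hme
    omega
  set t := lt j i k with ht
  set t' := lt i j k with ht'
  have hlt1 : ∀ n', n' ≤ m → ℓ (alt cs j i n') = n' := fun n' h => len_alt hm h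
  -- lengths of the words starting with `t`, `t'`
  have hmt : orderOf (cs.simple t * cs.simple t') = m := by
    rcases lt_cases j i k with ⟨h1, h2⟩ | ⟨h1, h2⟩
    · rw [ht, ht', h1, h2, hm]
    · rw [ht, ht', h1, h2, hm']
  have hmt' : orderOf (cs.simple t' * cs.simple t) = m := by rw [orderOf_comm', hmt]
  have hlt : ∀ n', n' ≤ m → ℓ (alt cs t t' n') = n' := fun n' h => len_alt hmt h
  have hlt' : ∀ n', n' ≤ m → ℓ (alt cs t' t n') = n' := fun n' h => len_alt hmt' h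
  -- the middle of the path
  have hsplit : Δ.δ c d = alt cs j i k * alt cs t t' (k + 1) := by
    rw [hcd', hk, show 2 * k + 1 = k + (k + 1) by ring, alt_add]
  obtain ⟨u, hcu, hud⟩ := Δ.exists_between hsplit (by
    rw [← hsplit, hcd', hlt1 _ (by omega), hlt1 _ (by omega), hlt _ (by omega)]; omega)
  obtain ⟨u1, huu, hu1d⟩ := Δ.exists_between (hud.trans (alt_succ t t' k)) (by
    rw [← alt_succ, hlt _ (by omega), cs.length_simple, hlt' _ (by omega)]; omega)
  have hxu : x • u = u := fix_conv S hxc hxd (by rw [hcu, hud, ← hsplit]) (by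
    rw [hcu, hud, ← hsplit, hcd', hlt1 _ (by omega), hlt1 _ (by omega), hlt _ (by omega)]; omega)
  have hxu1 : x • u1 = u1 := fix_conv S hxu hxd (by rw [huu, hu1d, hud, alt_succ]) (by
    rw [huu, hu1d, ← alt_succ, hlt _ (by omega), cs.length_simple, hlt' _ (by omega)]; omega)
  have huR : u ∈ R := by
    have h1 : u ∈ Δ.Res {i, j} c := by
      rw [mem_Res, hcu, Set.pair_comm]; exact alt_mem j i k
    exact Δ.mem_Res_trans hc h1
  have hu1R : u1 ∈ R := by
    refine Δ.mem_Res_trans huR (Δ.Pan_subset_Res ?_ u (Δ.mem_Pan_of_δ huu))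
    rcases lt_cases j i k with ⟨h1, h2⟩ | ⟨h1, h2⟩
    · rw [ht, h1]; simp
    · rw [ht, h1]; simp
  have hpan : ∀ y ∈ Δ.Pan t u, x • y = y := hu t u u1 hxu hxu1 (Δ.mem_Pan_of_δ huu)
    (fun h => Δ.ne_of_δ_simple huu h.symm)
  have hfixi : 1 ≤ k → ∀ y ∈ Δ.Pan i u, x • y = y := by
    intro hk1
    by_cases hti : t = i
    · rw [← hti]; exact hpan
    · -- the panel before
      obtain ⟨k', rfl⟩ : ∃ k', k = k' + 1 := ⟨k - 1, by omega⟩
      have h1 : lt j i k' = i := by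
        rcases lt_cases j i k' with ⟨h1, h2⟩ | ⟨h1, h2⟩
        · rw [ht, lt_succ, h2] at hti; exact absurd rfl hti
        · exact h1
      obtain ⟨u0, hcu0, hu0u⟩ := Δ.exists_between (hcu.trans (alt_succ' j i k')) (by
        rw [← alt_succ', hlt1 _ (by omega), hlt1 _ (by omega), cs.length_simple])
      have hxu0 : x • u0 = u0 := fix_conv S hxc hxu (by rw [hcu0, hu0u, hcu, alt_succ']) (by
        rw [hcu0, hu0u, ← alt_succ', hlt1 _ (by omega), hlt1 _ (by omega), cs.length_simple])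
      rw [h1] at hu0u
      exact hu i u u0 hxu hxu0 (Δ.mem_Pan_symm (Δ.mem_Pan_of_δ hu0u)) (Δ.ne_of_δ_simple hu0u)
  -- far chambers
  have hfar : ∀ c ∈ R, x • c = c → ∀ u q z : C, z ∈ R → x • z = z → Δ.δ c u = alt cs j i k → Δ.δ u q = cs.simple t →
      Δ.δ q z = alt cs t' t (k + 1) → False := by
    intro c hc hxc u q z hz hxz h1 h2 h3
    have h4 : Δ.δ u z = alt cs t t' (k + 2) := by
      rw [alt_succ]
      refine Δ.δ_mul_of h2 h3 ?_
      rw [← alt_succ, hlt _ (by omega), cs.length_simple, hlt' _ (by omega)]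
      omega
    have h5 : Δ.δ c z = alt cs j i (2 * k + 2) := by
      rw [show 2 * k + 2 = k + (k + 2) by ring, alt_add]
      refine Δ.δ_mul_of h1 h4 ?_
      rw [← alt_add, hlt1 _ (by omega), hlt1 _ (by omega), hlt _ (by omega)]
    have h6 := hmax' c hc z hz hxc hxz
    rw [h5, hlt1 _ (by omega)] at h6
    omega
  -- `d` sees the panel in the same way
  have hdu1 : Δ.δ d u1 = alt cs j i k := by
    rw [Δ.symm, hu1d, alt_inv]
    congr 1
    · rw [ht, ht', lt_add]; exact lt_even _ _ (by exact ⟨k, rfl⟩)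
    · rw [ht, ht', lt_add]; exact lt_even _ _ (by exact ⟨k, rfl⟩)
  refine ⟨k, u, huR, hkm, hpan, ?_, hfixi⟩
  intro y hy hxy
  have hyR : y ∈ R := Δ.mem_Res_trans huR hy
  obtain ⟨q, hq⟩ := Δ.exists_isProj {t} u y
  have hqp : q ∈ Δ.Pan t u := by rw [Pan_eq_Res]; exact hq.mem
  refine ⟨q, hqp, ?_⟩
  by_contra hcon
  push Not at hcon
  have hxq : x • q = q := hpan q hqp
  have hqR : q ∈ R := by
    refine Δ.mem_Res_trans huR (Δ.Pan_subset_Res ?_ u hqp)
    rcases lt_cases j i k with ⟨h1, h2⟩ | ⟨h1, h2⟩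
    · rw [ht, h1]; simp
    · rw [ht, h1]; simp
  -- the word from `q` to `y` starts with `t'`
  have hmin : ℓ (Δ.δ q y) < ℓ (cs.simple t * Δ.δ q y) := by
    have h1 := (isMinR_iff cs).1 hq.isMinR t rfl
    rw [← cs.length_inv, ← cs.length_inv (Δ.δ y q * _), mul_inv_rev, cs.inv_simple, ← Δ.symm y q] at h1
    exact h1
  have hset : ({i, j} : Set I) = {t, t'} := by
    rcases lt_cases j i k with ⟨h1, h2⟩ | ⟨h1, h2⟩
    · rw [ht, ht', h1, h2, Set.pair_comm]
    · rw [ht, ht', h1, h2]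
  have hqy : Δ.δ q y = alt cs t' t (ℓ (Δ.δ q y)) := by
    have h1 := hRmem q hqR y hyR
    rw [hset] at h1
    rcases exists_alt h1 with h2 | h2
    · exfalso
      obtain ⟨n', hn'⟩ : ∃ n', ℓ (Δ.δ q y) = n' + 1 := ⟨ℓ (Δ.δ q y) - 1, by omega⟩
      have h3 := hlen q hqR y hyR
      rw [h2, hn', alt_succ, ← mul_assoc, cs.simple_mul_simple_self, one_mul, ← alt_succ] at hmin
      rw [hlt _ (by omega), hlt' _ (by omega)] at hmin
      omega
    · exact h2
  obtain ⟨e, he⟩ : ∃ e, ℓ (Δ.δ q y) = k + 1 + e := ⟨ℓ (Δ.δ q y) - (k + 1), by omega⟩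
  have hle := hlen q hqR y hyR
  rw [he, alt_add] at hqy
  have hmt2 : ∀ n', n' ≤ m → ℓ (alt cs (lt t' t (k + 1)) (lt t t' (k + 1)) n') = n' := by
    intro n' hn'
    rcases lt_cases t' t (k + 1) with ⟨h1, h2⟩ | ⟨h1, h2⟩
    · rw [h1, h2]; exact hlt' _ hn'
    · rw [h1, h2]; exact hlt _ hn'
  obtain ⟨z, hqz, hzy⟩ := Δ.exists_between hqy (by
    rw [← alt_add, hlt' _ (by omega), hlt' _ (by omega), hmt2 _ (by omega)])
  have hxz : x • z = z := fix_conv S hxq hxy (by rw [hqz, hzy, hqy]) (by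
    rw [hqz, hzy, ← alt_add, hlt' _ (by omega), hlt' _ (by omega), hmt2 _ (by omega)])
  have hzR : z ∈ R := by
    have h1 : z ∈ Δ.Res {i, j} q := by
      rw [mem_Res, hqz, hset, Set.pair_comm]; exact alt_mem t' t (k + 1)
    exact Δ.mem_Res_trans hqR h1
  by_cases hqu : q = u
  · -- then `q ≠ u1`
    have h1 : Δ.δ u1 q = cs.simple t := by rw [hqu]; exact Δ.δ_symm_simple huu
    exact hfar d hd hxd u1 q z hzR hxz hdu1 h1 hqz
  · have h1 : Δ.δ u q = cs.simple t := Δ.δ_eq_of_mem_Pan (Δ.self_mem_Pan t u) hqp (Ne.symm hqu)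
    exact hfar c hc hxc u q z hzR hxz hcu h1 hqz

end Sys

end Cfsg.Agent.H148.Cls
end

-- part: H148/Cls/TwoB
section
/-!
# S2451, helper148: residues of rank two (`m` even), `Dis Δ a b ⊆ {1}`, second part

`two_main` : the radii of the fixed sets of `a` and `b` are maximal and a suitable product `a * b ^ g` has an
isolated fixed chamber (`IsoJ`).
-/

set_option autoImplicit false
set_option linter.unusedSectionVars false

open scoped Pointwise

namespace Cfsg.Agent.H148.Cls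

open Cfsg.Agent.Tits.Core Cfsg.Agent.Tits.Core.Bldg Cfsg.Agent.Tits.Exchange Cfsg.Agent.Tits Cfsg.Agent.FixBN
open Cfsg.Agent.H197.Cls Cfsg.Agent.H234.CoxB

variable {I : Type*} {M : CoxeterMatrix I} {W : Type*} [Group W] {cs : CoxeterSystem M W} {C : Type*}

local prefix:100 "ℓ" => cs.length

variable {Δ : Bldg cs C} {G : Type*} [Group G] [MulAction G C] {p : ℕ}

/-- `z` has a fixed chamber which is isolated in its `J`-residue -/
def IsoJ (Δ : Bldg cs C) (J : Set I) (z : G) : Prop :=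
  ∃ x : C, z • x = x ∧ ∀ y ∈ Δ.Res J x, z • y = y → y = x

section Sys

variable (S : Sys Δ G p) [F : OppRes.Cox cs] [hp : Fact p.Prime]

include S

omit hp F in
theorem IsoJ.conj {J : Set I} {z : G} (h : IsoJ Δ J z) (g : G) : IsoJ Δ J (g * z * g⁻¹) := by
  obtain ⟨x, hx, hy⟩ := h
  refine ⟨g • x, by rw [mul_smul, mul_smul, inv_smul_smul, hx], fun y hy' hzy => ?_⟩
  have h1 := S.smul_mem_Res (g := g⁻¹) hy'
  rw [inv_smul_smul] at h1
  rw [mul_smul, mul_smul, ← eq_inv_smul_iff] at hzy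
  have h2 := hy _ h1 hzy
  rw [← h2, smul_inv_smul]

omit hp in
/-- the fixed chambers of `a * b` are the common fixed chambers -/
theorem fix_mul {a b : G} (hD : Dis Δ a b ⊆ {1}) {y : C} (h : (a * b) • y = y) : a • y = y ∧ b • y = y := by
  have h2 : b • y = a⁻¹ • y := by rw [eq_inv_smul_iff, ← mul_smul, h]
  have h3 := hD (mem_dis S h2)
  rw [Set.mem_singleton_iff] at h3
  have h4 : b • y = y := (Δ.eq_of_δ_eq_one h3).symm
  refine ⟨?_, h4⟩
  rw [h4, eq_inv_smul_iff] at h2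
  exact h2

theorem two_main (hth : Δ.Thick) {a b : G} (hab : Good p a b) (hD : Dis Δ a b ⊆ {1}) {i j : I} {m : ℕ}
    (hm : orderOf (cs.simple j * cs.simple i) = m) (hm0 : m ≠ 0) (hme : Even m) {ka kb : ℕ} {ua ub : C}
    (ha : Ctr Δ a i j m ka ua) (hb : Ctr Δ b j i m kb ub) :
    2 * ka + 2 = m ∧ 2 * kb + 2 = m ∧ ∃ g : G, IsoJ Δ {i, j} (a * (g * b * g⁻¹)) := by
  have hm' : orderOf (cs.simple i * cs.simple j) = m := by rw [orderOf_comm', hm]
  set t := lt j i ka with ht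
  set t' := lt i j ka with ht'
  have hmt : orderOf (cs.simple t * cs.simple t') = m := by
    rcases lt_cases j i ka with ⟨h1, h2⟩ | ⟨h1, h2⟩
    · rw [ht, ht', h1, h2, hm]
    · rw [ht, ht', h1, h2, hm']
  have hmt' : orderOf (cs.simple t' * cs.simple t) = m := by rw [orderOf_comm', hmt]
  have hlt : ∀ n', n' ≤ m → ℓ (alt cs t t' n') = n' := fun n' h => len_alt hmt h
  have hlt' : ∀ n', n' ≤ m → ℓ (alt cs t' t n') = n' := fun n' h => len_alt hmt' h
  have hset : ({i, j} : Set I) = {t, t'} := by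
    rcases lt_cases j i ka with ⟨h1, h2⟩ | ⟨h1, h2⟩
    · rw [ht, ht', h1, h2, Set.pair_comm]
    · rw [ht, ht', h1, h2]
  have ht1 : t ∈ ({i, j} : Set I) := by rw [hset]; simp
  set tb := lt i j kb with htb
  have htb1 : tb ∈ ({i, j} : Set I) := by
    rcases lt_cases i j kb with ⟨h1, h2⟩ | ⟨h1, h2⟩
    · rw [htb, h1]; simp
    · rw [htb, h1]; simp
  have hm2 : 2 ≤ m := by obtain ⟨m', hm'⟩ := hme; omega
  -- the length
  obtain ⟨L, hLm, hLt⟩ : ∃ L, (L + 1 = m ∨ L + 2 = m) ∧ lt t' t L = tb := by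
    by_cases h : tb = t
    · refine ⟨m - 1, by omega, ?_⟩
      rw [h]
      refine lt_odd _ _ ?_
      obtain ⟨m', hm'⟩ := hme
      rw [hm', Nat.not_even_iff_odd]
      exact ⟨m' - 1, by omega⟩
    · refine ⟨m - 2, by omega, ?_⟩
      have h1 : tb = t' := by
        rw [hset] at htb1
        rcases htb1 with h1 | h1
        · exact absurd h1 h
        · exact h1
      rw [h1]
      refine lt_even _ _ ?_
      obtain ⟨m', hm'⟩ := hme
      exact ⟨m' - 1, by (clear * - hm'; omega)⟩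
  -- move the centre of `b`
  obtain ⟨v1, hv1⟩ := Δ.exists_δ ua (alt cs t' t L)
  obtain ⟨g, hg⟩ := exists_smul S hth ub v1
  have hb' := hb.conj S g
  rw [hg] at hb'
  set b' := g * b * g⁻¹ with hb'def
  have hab' : Good p a b' := hab.conjR g
  have hD' : Dis Δ a b' ⊆ {1} := dis_conjR S hD g
  have hv1R : v1 ∈ Δ.Res {i, j} ua := by rw [mem_Res, hv1, hset, Set.pair_comm]; exact alt_mem t' t L
  have haua : a • ua = ua := ha.fix ua (Δ.self_mem_Pan _ _)
  have hbv1 : b' • v1 = v1 := hb'.fix v1 (Δ.self_mem_Pan _ _)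
  have hbua : b' • ua ∈ Δ.Res {i, j} ua := by
    have h1 : ua ∈ Δ.Res {i, j} v1 := Δ.mem_Res_symm hv1R
    have h2 := S.smul_mem_Res (g := b') h1
    rw [hbv1] at h2
    rw [Δ.Res_eq_of_mem hv1R] at h2
    exact h2
  -- distances between the panels
  have hdist : ∀ u' ∈ Δ.Pan t ua, ∀ v' ∈ Δ.Pan tb v1, (u' = ua ∧ v' = v1) ∨ L < ℓ (Δ.δ u' v') ∨
      (L + 1 = m ∧ L ≤ ℓ (Δ.δ u' v')) := by
    intro u' hu' v' hv'
    by_cases hvv : v' = v1
    · by_cases huu : u' = ua
      · exact Or.inl ⟨huu, hvv⟩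
      · right; left
        have h1 : Δ.δ u' ua = cs.simple t := Δ.δ_eq_of_mem_Pan hu' (Δ.self_mem_Pan t ua) huu
        have h2 : Δ.δ u' v' = cs.simple t * alt cs t' t L := by
          rw [hvv]
          refine Δ.δ_mul_of h1 hv1 ?_
          rw [← alt_succ, hlt _ (by omega), cs.length_simple, hlt' _ (by omega)]; omega
        rw [h2, ← alt_succ, hlt _ (by omega)]; omega
    · have h0 : Δ.δ v1 v' = cs.simple tb := Δ.δ_eq_of_mem_Pan (Δ.self_mem_Pan tb v1) hv' (Ne.symm hvv)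
      have h2 : Δ.δ ua v' = alt cs t' t (L + 1) := by
        rw [alt_succ', hLt]
        refine Δ.δ_mul_of hv1 h0 ?_
        rw [← hLt, ← alt_succ', hlt' _ (by omega), hlt' _ (by omega), cs.length_simple]
      by_cases huu : u' = ua
      · right; left
        rw [huu, h2, hlt' _ (by omega)]; omega
      · right
        have h1 : Δ.δ u' ua = cs.simple t := Δ.δ_eq_of_mem_Pan hu' (Δ.self_mem_Pan t ua) huu
        rcases hLm with hL | hL
        · right
          refine ⟨hL, ?_⟩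
          rcases Δ.step_left (z := v') h1 with h3 | h3
          · rw [h3]
            have h4 := cs.length_simple_mul (Δ.δ ua v') t
            rw [h2, hlt' _ (by omega)] at h4
            rw [h2]
            omega
          · rw [h3, h2, hlt' _ (by omega)]; omega
        · left
          have h3 : Δ.δ u' v' = cs.simple t * alt cs t' t (L + 1) := by
            refine Δ.δ_mul_of h1 h2 ?_
            rw [← alt_succ, hlt _ (by omega), cs.length_simple, hlt' _ (by omega)]; omega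
          rw [h3, ← alt_succ, hlt _ (by omega)]; omega
  have hleA := ha.le
  have hleB := hb.le
  have hLeq : ℓ (Δ.δ ua v1) = L := by rw [hv1, hlt' _ (by omega)]
  -- the common fixed chambers
  have hcom : ∀ y ∈ Δ.Res {i, j} ua, a • y = y → b' • y = y →
      L ≤ ka + kb ∧ (L + 2 = m → ℓ (Δ.δ ua y) ≤ ka ∧ ℓ (Δ.δ y v1) ≤ kb) := by
    intro y hy hay hby
    obtain ⟨u', hu', hl1⟩ := ha.near y hy hay
    have hy2 : y ∈ Δ.Res {j, i} v1 := by
      rw [Set.pair_comm, Δ.Res_eq_of_mem hv1R]; exact hy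
    obtain ⟨v', hv', hl2⟩ := hb'.near y hy2 hby
    have h3 := len_tri Δ u' y v'
    have h4 := hdist u' hu' v' hv'
    refine ⟨?_, ?_⟩
    · rcases h4 with ⟨h5, h6⟩ | h5 | h5
      · rw [h5, h6, hLeq] at h3; rw [h5] at hl1; rw [h6] at hl2
        have := Δ.length_δ_comm v1 y
        omega
      · have := Δ.length_δ_comm v' y
        omega
      · have := Δ.length_δ_comm v' y
        omega
    · intro hL
      rcases h4 with ⟨h5, h6⟩ | h5 | h5
      · rw [h5] at hl1; rw [h6] at hl2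
        refine ⟨hl1, ?_⟩
        have := Δ.length_δ_comm v1 y
        omega
      · exfalso
        have := Δ.length_δ_comm v' y
        omega
      · omega
  obtain ⟨x, hx, hax, hbx⟩ := common S hab' hD' (J := {i, j}) (c := ua)
    (by rw [haua]; exact Δ.self_mem_Res _ _) hbua
  have hx1 := hcom x hx hax hbx
  have hL2 : L + 2 = m := by
    rcases hLm with h | h
    · omega
    · exact h
  have hka : 2 * ka + 2 = m := by omega
  have hkb : 2 * kb + 2 = m := by (clear * - hleB hx1 hL2 hka; omega)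
  refine ⟨hka, hkb, g, x, by rw [mul_smul, hbx, hax], ?_⟩
  -- the position of the common fixed chambers
  have hpos : ∀ y ∈ Δ.Res {i, j} ua, a • y = y → b' • y = y →
      Δ.δ ua y = alt cs t' t ka ∧ Δ.δ ua y * Δ.δ y v1 = alt cs t' t L ∧ ℓ (Δ.δ y v1) = ka := by
    intro y hy hay hby
    obtain ⟨h1, h2⟩ := (hcom y hy hay hby).2 hL2
    have h3 := len_tri Δ ua y v1
    rw [hLeq] at h3
    have h4 : Δ.δ ua v1 = Δ.δ ua y * Δ.δ y v1 := δ_eq_of_len Δ (by rw [hLeq]; (clear * - hleB hL2 hka h1 h2 h3; omega))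
    refine ⟨?_, by rw [← h4, hv1], by (clear * - hleB hL2 hka h1 h2 h3; omega)⟩
    have h5 : Δ.δ ua y ∈ WJ cs {t, t'} := by rw [← hset]; exact hy
    have h6 := exists_alt h5
    have h7 : ℓ (Δ.δ ua y) = ka := by (clear * - hleB hL2 hka h1 h2 h3; omega)
    rw [h7] at h6
    rcases h6 with h6 | h6
    · rcases ka with _ | k'
      · rw [h6, alt_zero, alt_zero]
      · exfalso
        have h8 : cs.simple t * alt cs t' t L = alt cs t' t k' * Δ.δ y v1 := by
          rw [← hv1, h4, h6, alt_succ, mul_assoc, ← mul_assoc, cs.simple_mul_simple_self, one_mul]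
        have h9 := congrArg cs.length h8
        rw [← alt_succ, hlt _ (by omega)] at h9
        have h10 := cs.length_mul_le (alt cs t' t k') (Δ.δ y v1)
        rw [hlt' _ (by omega)] at h10
        omega
    · exact h6
  intro y hy hzy
  obtain ⟨hay, hby⟩ := fix_mul S hD' hzy
  have hyR : y ∈ Δ.Res {i, j} ua := Δ.mem_Res_trans hx hy
  obtain ⟨h1, h2, h3⟩ := hpos x hx hax hbx
  obtain ⟨h4, h5, h6⟩ := hpos y hyR hay hby
  have h7 : Δ.δ y v1 = Δ.δ x v1 := by
    have h8 := h5.trans h2.symm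
    rw [h4, h1] at h8
    exact mul_left_cancel h8
  refine Δ.between_unique (x := ua) (z := v1) (v := alt cs t' t ka) (w := Δ.δ x v1) ?_ h4 h7 h1 rfl
  rw [← h1, h2, hlt' _ (by omega), h1, hlt' _ (by (clear * - hka; omega))]
  (clear * - hL2 hka h3; omega)

end Sys

end Cfsg.Agent.H148.Cls
end

-- part: H148/Cls/Full
section
/-!
# S2451, helper148: the full hypothesis (all the products of conjugates of `a` and `b` are conjugate), `Dis ⊆ {1}`

* `iso_all` : all the products have an isolated fixed chamber;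
* `rank_two` : no such pair in rank two, `m = 4, 6, 8`;
* `iso_center` : the two centres in the `{i, j}`-residue of an isolated fixed chamber, `m = 4`.
-/

set_option autoImplicit false
set_option linter.unusedSectionVars false

open scoped Pointwise

namespace Cfsg.Agent.H148.Cls

open Cfsg.Agent.Tits.Core Cfsg.Agent.Tits.Core.Bldg Cfsg.Agent.Tits.Exchange Cfsg.Agent.Tits Cfsg.Agent.FixBN
open Cfsg.Agent.H197.Cls Cfsg.Agent.H234.CoxB Cfsg.Agent.H330.ClassProd

variable {I : Type*} {M : CoxeterMatrix I} {W : Type*} [Group W] {cs : CoxeterSystem M W} {C : Type*}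

local prefix:100 "ℓ" => cs.length

variable {Δ : Bldg cs C} {G : Type*} [Group G] [MulAction G C] {p : ℕ}

theorem AllConj.good [hp : Fact p.Prime] {a b c : G} (h : AllConj a b c) (hc : PE p c) : Good p a b := by
  intro g
  obtain ⟨u, hu⟩ := isConj_iff.1 (h 1 g)
  have e : (1 : G) * a * 1⁻¹ * (g * b * g⁻¹) = a * (g * b * g⁻¹) := by group
  rw [e] at hu
  rw [← hu]
  exact hc.conj u

section Sys

variable (S : Sys Δ G p) [F : OppRes.Cox cs] [hp : Fact p.Prime]

include S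

omit F hp in
theorem iso_all {a b c : G} (h : AllConj a b c) {J : Set I} {g : G} (hg : IsoJ Δ J (a * (g * b * g⁻¹))) (g' : G) :
    IsoJ Δ J (a * (g' * b * g'⁻¹)) := by
  have key : ∀ g : G, ∃ u : G, u * c * u⁻¹ = a * (g * b * g⁻¹) := by
    intro g
    obtain ⟨u, hu⟩ := isConj_iff.1 (h 1 g)
    have e : (1 : G) * a * 1⁻¹ * (g * b * g⁻¹) = a * (g * b * g⁻¹) := by group
    exact ⟨u, by rw [hu, e]⟩
  obtain ⟨u, hu⟩ := key g
  obtain ⟨v, hv⟩ := key g'
  have h1 : a * (g' * b * g'⁻¹) = (v * u⁻¹) * (a * (g * b * g⁻¹)) * (v * u⁻¹)⁻¹ := by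
    rw [← hu, ← hv]; group
  rw [h1]
  exact hg.conj S _

/-- a moved type gives a residue with a nontrivial action -/
theorem ctr_of_mv (hth : Δ.Thick) {a : G} (hu : Uni Δ a) {i j : I} (hi : Mv Δ i a) (hj : ¬ Mv Δ j a) {m : ℕ}
    (hm : orderOf (cs.simple j * cs.simple i) = m) (hm0 : m ≠ 0) (hme : Even m) :
    ∃ k u, Ctr Δ a i j m k u := by
  obtain ⟨c, d, hc, hd, hne⟩ := hi
  obtain ⟨k, u, -, h⟩ := exists_ctr S hth hu hj hm hm0 hme hc
    (Δ.Pan_subset_Res (by simp) c (Δ.mem_Pan_of_δ hd)) hne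
  exact ⟨k, u, h⟩

/-- all the products have an isolated fixed chamber in a `{i, j}`-residue -/
theorem iso_of_mv (hth : Δ.Thick) {a b c : G} (hab : Good p a b) (hD : Dis Δ a b ⊆ {1}) (h : AllConj a b c) {i j : I}
    (hi : Mv Δ i a) (hj : Mv Δ j b) {m : ℕ}
    (hm : orderOf (cs.simple j * cs.simple i) = m) (hm0 : m ≠ 0) (hme : Even m) (g : G) :
    IsoJ Δ {i, j} (a * (g * b * g⁻¹)) := by
  have hja : ¬ Mv Δ j a := fun h' => not_mv_both S hD j ⟨h', hj⟩
  have hib : ¬ Mv Δ i b := fun h' => not_mv_both S hD i ⟨hi, h'⟩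
  obtain ⟨ka, ua, hua⟩ := ctr_of_mv S hth (uni_left S hth hab hD) hi hja hm hm0 hme
  obtain ⟨kb, ub, hub⟩ := ctr_of_mv S hth (uni_right S hth hab hD) hj hib (by rw [orderOf_comm', hm]) hm0 hme
  obtain ⟨-, -, g', hg'⟩ := two_main S hth hab hD hm hm0 hme hua hub
  exact iso_all S h hg' g

/-- **Rank two.** -/
theorem rank_two (hth : Δ.Thick) {a b c : G} (hab : Good p a b) (hD : Dis Δ a b ⊆ {1}) (h : AllConj a b c) {i j : I}
    (hI : ∀ k, k = i ∨ k = j) {m : ℕ} (hm : orderOf (cs.simple j * cs.simple i) = m) (hme : Even m)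
    (hm4 : 4 ≤ m) (ha : ∃ x : C, a • x ≠ x) (hb : ∃ x : C, b • x ≠ x) : False := by
  have hne := nonemptyC S hab
  -- the core, in one orientation
  have core : ∀ i j : I, (∀ k, k = i ∨ k = j) → orderOf (cs.simple j * cs.simple i) = m → Mv Δ i a → Mv Δ j b → False := by
    intro i j hI hm hi hj
    have hja : ¬ Mv Δ j a := fun h' => not_mv_both S hD j ⟨h', hj⟩
    have hib : ¬ Mv Δ i b := fun h' => not_mv_both S hD i ⟨hi, h'⟩
    obtain ⟨ka, ua, hua⟩ := ctr_of_mv S hth (uni_left S hth hab hD) hi hja hm (by omega) hme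
    obtain ⟨kb, ub, hub⟩ := ctr_of_mv S hth (uni_right S hth hab hD) hj hib (by rw [orderOf_comm', hm]) (by omega) hme
    obtain ⟨hka, -, g', hg'⟩ := two_main S hth hab hD hm (by omega) hme hua hub
    -- the other choice
    obtain ⟨f, -, hf⟩ := exists_common S hab hD
    obtain ⟨g, hg⟩ := exists_smul S hth f ua
    obtain ⟨x, hx, hxy⟩ := iso_all S h hg' g
    have hbu : (g * b * g⁻¹) • ua = ua := by rw [mul_smul, mul_smul, ← hg, inv_smul_smul, hf]
    have hib' : ¬ Mv Δ i (g * b * g⁻¹) := fun h' => hib (mv_conj S h')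
    have huniv : ∀ y : C, y ∈ Δ.Res {i, j} x := by
      intro y
      have : ({i, j} : Set I) = Set.univ := Set.eq_univ_iff_forall.2 fun k => hI k
      rw [this, Res_univ]; trivial
    obtain ⟨y, hy⟩ := exists_adj Δ ua i
    have h1 : ua = x := hxy ua (huniv _) (by rw [mul_smul, hbu, hua.fix ua (Δ.self_mem_Pan _ _)])
    have h2 : y = x := hxy y (huniv _) (by
      rw [mul_smul, fix_of_not_mv hib' hbu (Δ.mem_Pan_of_δ hy)]
      exact hua.fixi (by omega) y (Δ.mem_Pan_of_δ hy))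
    exact Δ.ne_of_δ_simple hy (h1.trans h2.symm)
  obtain ⟨f, hfa, hfb⟩ := exists_common S hab hD
  obtain ⟨x, hx⟩ := ha
  obtain ⟨y, hy⟩ := hb
  obtain ⟨k, hk⟩ := exists_mv (Δ := Δ) hfa hx
  obtain ⟨l, hl⟩ := exists_mv (Δ := Δ) hfb hy
  have hkl : k ≠ l := by
    rintro rfl
    exact not_mv_both S hD k ⟨hk, hl⟩
  rcases hI k with rfl | rfl
  · rcases hI l with rfl | rfl
    · exact hkl rfl
    · exact core k l hI hm hk hl
  · rcases hI l with rfl | rfl
    · exact core k l (fun q => (hI q).symm) (by rw [orderOf_comm', hm]) hk hl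
    · exact hkl rfl

/-- `m ≥ 4`, `k = 1`: the central panel is the only fixed `i`-panel -/
theorem Ctr.uniq {a : G} {i j : I} {m : ℕ} {u : C} (h : Ctr Δ a i j m 1 u)
    (hm : orderOf (cs.simple j * cs.simple i) = m) {v : C} (hv : v ∈ Δ.Res {i, j} u)
    (hfix : ∀ y ∈ Δ.Pan i v, a • y = y) : v ∈ Δ.Pan i u := by
  have hle := h.le
  have hm' : orderOf (cs.simple i * cs.simple j) = m := by rw [orderOf_comm', hm]
  have hne : i ≠ j := by
    rintro rfl
    rw [cs.simple_mul_simple_self, orderOf_one] at hm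
    omega
  have ht : lt j i 1 = i := rfl
  obtain ⟨u1, hu1, hl1⟩ := h.near v hv (hfix v (Δ.self_mem_Pan i v))
  rw [ht] at hu1
  have hu1R : u1 ∈ Δ.Res {i, j} u := Δ.Pan_subset_Res (by simp) u hu1
  by_cases h1 : Δ.δ u1 v = 1
  · rw [← Δ.eq_of_δ_eq_one h1]; exact hu1
  have hmem : Δ.δ u1 v ∈ WJ cs {i, j} := Δ.δ_mem_of_mem_Res hu1R hv
  have hlen : ℓ (Δ.δ u1 v) = 1 := by
    have : ℓ (Δ.δ u1 v) ≠ 0 := fun h => h1 (cs.length_eq_zero_iff.1 h)
    omega
  rcases exists_alt hmem with h2 | h2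
  · rw [hlen, alt_one] at h2
    exact Δ.mem_Pan_trans hu1 (Δ.mem_Pan_of_δ h2)
  · exfalso
    rw [hlen, alt_one] at h2
    obtain ⟨v', hv'⟩ := exists_adj Δ v i
    have h3 : Δ.δ u1 v' = alt cs j i 2 := by
      rw [alt_succ, alt_one]
      refine Δ.δ_mul_of h2 hv' ?_
      rw [← alt_one i j, ← alt_succ, len_alt hm (by omega), alt_one, cs.length_simple, cs.length_simple]
    have hv'R : v' ∈ Δ.Res {i, j} u := Δ.mem_Res_trans hv (Δ.Pan_subset_Res (by simp) v (Δ.mem_Pan_of_δ hv'))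
    obtain ⟨u2, hu2, hl2⟩ := h.near v' hv'R (hfix v' (Δ.mem_Pan_of_δ hv'))
    rw [ht] at hu2
    have h4 : u2 ∈ Δ.Pan i u1 := by rw [Δ.Pan_eq_of_mem hu1]; exact hu2
    rcases h4 with h4 | h4
    · rw [h4, h3, len_alt hm (by omega)] at hl2
      omega
    · have h5 : Δ.δ u2 v' = alt cs i j 3 := by
        rw [alt_succ]
        refine Δ.δ_mul_of (Δ.δ_symm_simple h4) h3 ?_
        rw [← alt_succ, len_alt hm' (by omega), cs.length_simple, len_alt hm (by omega)]
      rw [h5, len_alt hm' (by omega)] at hl2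
      omega

/-- the centre of `a` in the residue of an isolated fixed chamber is moved by `b` -/
theorem iso_center (hth : Δ.Thick) {a b : G} (hab : Good p a b) (hD : Dis Δ a b ⊆ {1}) {i j : I}
    (hi : Mv Δ i a) (hj : Mv Δ j b) (hm : orderOf (cs.simple j * cs.simple i) = 4) (h : IsoJ Δ {i, j} (a * b)) :
    ∃ x u : C, a • x = x ∧ b • x = x ∧ u ∈ Δ.Res {i, j} x ∧ Ctr Δ a i j 4 1 u ∧ b • u ∉ Δ.Pan i u := by
  have hja : ¬ Mv Δ j a := fun h' => not_mv_both S hD j ⟨h', hj⟩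
  have hib : ¬ Mv Δ i b := fun h' => not_mv_both S hD i ⟨hi, h'⟩
  obtain ⟨x, hx, hxy⟩ := h
  obtain ⟨hax, hbx⟩ := fix_mul S hD hx
  obtain ⟨y, hy⟩ := exists_adj Δ x i
  have hyR : y ∈ Δ.Res {i, j} x := Δ.Pan_subset_Res (by simp) x (Δ.mem_Pan_of_δ hy)
  have hby : b • y = y := fix_of_not_mv hib hbx (Δ.mem_Pan_of_δ hy)
  have hay : a • y ≠ y := by
    intro h1
    have := hxy y hyR (by rw [mul_smul, hby, h1])
    exact Δ.ne_of_δ_simple hy this.symm
  obtain ⟨k, u, huR, hu⟩ := exists_ctr S hth (uni_left S hth hab hD) hja hm (by omega) (by decide) hax hyR hay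
  obtain ⟨kb, ub, hub⟩ := ctr_of_mv S hth (uni_right S hth hab hD) hj hib (by rw [orderOf_comm', hm]) (by omega) (by decide)
  obtain ⟨hk, -, -⟩ := two_main S hth hab hD hm (by omega) (by decide) hu hub
  obtain rfl : k = 1 := by omega
  refine ⟨x, u, hax, hbx, huR, hu, fun hbu => ?_⟩
  obtain ⟨f, hf, hbf⟩ := StF.pan (stF_right S hth hab hD) hbu
  have hPan : Δ.Pan i f = Δ.Pan i u := Δ.Pan_eq_of_mem hf
  have h1 : ∀ y ∈ Δ.Pan i f, (a * b) • y = y := by
    intro y hy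
    rw [mul_smul, fix_of_not_mv hib hbf hy]
    rw [hPan] at hy
    exact hu.fixi le_rfl y hy
  obtain ⟨y', hy'⟩ := exists_adj Δ f i
  have hfR : f ∈ Δ.Res {i, j} x := Δ.mem_Res_trans huR (Δ.Pan_subset_Res (by simp) u hf)
  have h2 := hxy f hfR (h1 f (Δ.self_mem_Pan i f))
  have h3 := hxy y' (Δ.mem_Res_trans hfR (Δ.Pan_subset_Res (by simp) f (Δ.mem_Pan_of_δ hy'))) (h1 y' (Δ.mem_Pan_of_δ hy'))
  exact Δ.ne_of_δ_simple hy' (h2.trans h3.symm)

end Sys

end Cfsg.Agent.H148.Cls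
end
end

-- part: H148/Cls/F4H
section
prune_inst 0x30003504540002000018001262003e42f6000192006b0001f1e00f4207cefd6380412721fcc00f021102a6640838800811100479421000002a008200413902a8842262c29308b104270009c0e807180c00000000000000000000000000041000000400000
set_option linter.all false
open scoped Cfsg.Agent.FastGrp

-- part: H148/Cls/Loc
section
/-!
# S2451, helper148: local lemmas on buildings (commuting types, residues of type `A2`)
-/

set_option autoImplicit false
set_option linter.unusedSectionVars false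

namespace Cfsg.Agent.H148.Cls

open Cfsg.Agent.Tits.Core Cfsg.Agent.Tits.Core.Bldg Cfsg.Agent.Tits.Exchange Cfsg.Agent.Tits
open Cfsg.Agent.H234.CoxB

variable {I : Type*} {M : CoxeterMatrix I} {W : Type*} [Group W] {cs : CoxeterSystem M W} {C : Type*}

local prefix:100 "ℓ" => cs.length

variable [F : OppRes.Cox cs]

theorem len_two {i k : I} (hik : i ≠ k) : ℓ (cs.simple i * cs.simple k) = 2 := by
  rcases cs.length_mul_simple (cs.simple i) k with h | h
  · rw [h, cs.length_simple]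
  · rw [cs.length_simple] at h
    exfalso
    have h2 : ℓ (cs.simple i * cs.simple k) = 0 := by omega
    rw [cs.length_eq_zero_iff, mul_eq_one_iff_eq_inv, cs.inv_simple] at h2
    exact hik (F.inj h2)

variable {Δ : Bldg cs C}

section A2

variable {k l : I} (hm : orderOf (cs.simple k * cs.simple l) = 3)

include hm

theorem wa {n : ℕ} (h : n ≤ 3) : ℓ (alt cs k l n) = n := len_alt hm h

theorem wb {n : ℕ} (h : n ≤ 3) : ℓ (alt cs l k n) = n := len_alt (by rw [orderOf_comm', hm]) h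

theorem w3 : alt cs k l 3 = alt cs l k 3 := by
  have h1 := wJ_pair (cs := cs) hm (by decide)
  have h2 := wJ_pair (cs := cs) (k := l) (j := k) (by rw [orderOf_comm', hm]) (by decide : (3 : ℕ) ≠ 0)
  rw [← h1, ← h2, Set.pair_comm]

theorem ne_kl : k ≠ l := by
  rintro rfl
  rw [cs.simple_mul_simple_self, orderOf_one] at hm
  omega

/-- two `l`-panels of a residue of type `A2` are joined by a `k`-panel -/
theorem a2join {x y : C} (h : y ∈ Δ.Res {k, l} x) : ∃ x1 ∈ Δ.Pan l x, ∃ y1 ∈ Δ.Pan l y, y1 ∈ Δ.Pan k x1 := by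
  -- words starting with `l`
  have key : ∀ n, n ≤ 3 → Δ.δ x y = alt cs l k n → ∃ x1 ∈ Δ.Pan l x, ∃ y1 ∈ Δ.Pan l y, y1 ∈ Δ.Pan k x1 := by
    intro n hn h1
    interval_cases n
    · rw [alt_zero] at h1
      have := Δ.eq_of_δ_eq_one h1
      subst this
      exact ⟨x, Δ.self_mem_Pan l x, x, Δ.self_mem_Pan l x, Δ.self_mem_Pan k x⟩
    · rw [alt_one] at h1
      exact ⟨y, Δ.mem_Pan_of_δ h1, y, Δ.self_mem_Pan l y, Δ.self_mem_Pan k y⟩
    · rw [alt_succ, alt_one] at h1
      obtain ⟨x1, h2, h3⟩ := Δ.exists_between h1 (by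
        rw [len_two (ne_kl hm).symm, cs.length_simple, cs.length_simple])
      exact ⟨x1, Δ.mem_Pan_of_δ h2, y, Δ.self_mem_Pan l y, Δ.mem_Pan_of_δ h3⟩
    · obtain ⟨x1, h2, h3⟩ := Δ.exists_between (h1.trans (alt_succ l k 2)) (by
        rw [← alt_succ, wb hm le_rfl, cs.length_simple, wa hm (by omega)])
      rw [alt_succ, alt_one] at h3
      obtain ⟨y1, h4, h5⟩ := Δ.exists_between h3 (by
        rw [len_two (ne_kl hm), cs.length_simple, cs.length_simple])
      exact ⟨x1, Δ.mem_Pan_of_δ h2, y1, Δ.mem_Pan_symm (Δ.mem_Pan_of_δ h5), Δ.mem_Pan_of_δ h4⟩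
  have hle : ℓ (Δ.δ x y) ≤ 3 := len_le hm (by decide) h
  rcases exists_alt h with h1 | h1
  · generalize ℓ (Δ.δ x y) = n at h1 hle
    interval_cases n
    · exact key 0 (by omega) (by rw [h1, alt_zero, alt_zero])
    · rw [alt_one] at h1
      exact ⟨x, Δ.self_mem_Pan l x, y, Δ.self_mem_Pan l y, Δ.mem_Pan_of_δ h1⟩
    · rw [alt_succ, alt_one] at h1
      obtain ⟨y1, h2, h3⟩ := Δ.exists_between h1 (by
        rw [len_two (ne_kl hm), cs.length_simple, cs.length_simple])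
      exact ⟨x, Δ.self_mem_Pan l x, y1, Δ.mem_Pan_symm (Δ.mem_Pan_of_δ h3), Δ.mem_Pan_of_δ h2⟩
    · exact key 3 le_rfl (by rw [h1, w3 hm])
  · exact key _ hle h1

end A2

end Cfsg.Agent.H148.Cls
end

-- part: H148/Cls/CN
section
/-!
# S2451, helper148: type `B_n`, `C_n` (`n ≥ 3`), `Dis Δ a b ⊆ {1}`

`Lin M n lab nd` : the nodes are labelled `0, …, n - 1`, the bond `n - 2, n - 1` is double.  The element `a` moves the
type `n - 1` only.  `TT k x` : `a` is trivial on the residue of `x` with the types of label `≥ k`.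
-/

set_option autoImplicit false
set_option linter.unusedSectionVars false

open scoped Pointwise

namespace Cfsg.Agent.H148.Cls

open Cfsg.Agent.Tits.Core Cfsg.Agent.Tits.Core.Bldg Cfsg.Agent.Tits.Exchange Cfsg.Agent.Tits Cfsg.Agent.FixBN
open Cfsg.Agent.H197.Cls Cfsg.Agent.H234.CoxB Cfsg.Agent.H330.ClassProd

variable {I : Type*} {M : CoxeterMatrix I} {W : Type*} [Group W] {cs : CoxeterSystem M W} {C : Type*}

local prefix:100 "ℓ" => cs.length

/-- a linear diagram with nodes `0, …, n - 1` and a double bond at the end -/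
structure Lin (M : CoxeterMatrix I) (n : ℕ) (lab : I → ℕ) (nd : ℕ → I) : Prop where
  lab_lt : ∀ i, lab i < n
  nd_lab : ∀ i, nd (lab i) = i
  lab_nd : ∀ k < n, lab (nd k) = k
  m3 : ∀ k, k + 2 < n → M (nd k) (nd (k + 1)) = 3
  m4 : ∀ k, k + 2 = n → M (nd k) (nd (k + 1)) = 4
  m2 : ∀ k l, k + 1 < l → l < n → M (nd k) (nd l) = 2

variable {Δ : Bldg cs C} {G : Type*} [Group G] [MulAction G C] {p : ℕ} {n : ℕ} {lab : I → ℕ} {nd : ℕ → I}

/-- `a` is trivial on the residue of `x` of the types with label `≥ k` -/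
def TT (Δ : Bldg cs C) (lab : I → ℕ) (a : G) (k : ℕ) (x : C) : Prop := ∀ y ∈ Δ.Res {i | k ≤ lab i} x, a • y = y

theorem TT.mono {a : G} {k k' : ℕ} (hk : k ≤ k') {x : C} (h : TT Δ lab a k x) : TT Δ lab a k' x := by
  intro z hz
  exact h z (Δ.Res_mono (fun i (hi : k' ≤ lab i) => hk.trans hi) x hz)

section Lab

variable (hL : Lin M n lab nd) [F : OppRes.Cox cs]

include hL

/-- the step -/
def Down (Δ : Bldg cs C) (lab : I → ℕ) (nd : ℕ → I) (a : G) (k : ℕ) : Prop :=
  ∀ x, TT Δ lab a (k + 2) x → (∃ x' ∈ Δ.Pan (nd k) x, TT Δ lab a (k + 1) x') ∧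
    ∀ x' ∈ Δ.Pan (nd k) x, ∀ x'' ∈ Δ.Pan (nd k) x, x' ≠ x'' → TT Δ lab a (k + 1) x' → TT Δ lab a (k + 1) x'' →
      TT Δ lab a k x

omit F in
theorem climb {a : G} (hdown : ∀ k, k + 2 ≤ n → Down Δ lab nd a k) :
    ∀ l, l + 2 ≤ n → ∀ x, TT Δ lab a (l + 2) x → ∃ x' ∈ Δ.Res {i | lab i ≤ l} x, TT Δ lab a 1 x' := by
  intro l
  induction l with
  | zero =>
    intro hl x hx
    obtain ⟨x', hx', h⟩ := (hdown 0 hl x hx).1
    exact ⟨x', Δ.Pan_subset_Res (show lab (nd 0) ≤ 0 by rw [hL.lab_nd 0 (by omega)]) x hx', h⟩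
  | succ l ih =>
    intro hl x hx
    obtain ⟨x1, hx1, h⟩ := (hdown (l + 1) hl x hx).1
    obtain ⟨x', hx', h'⟩ := ih (by omega) x1 h
    refine ⟨x', Δ.mem_Res_trans (Δ.Pan_subset_Res (show lab (nd (l + 1)) ≤ l + 1 by rw [hL.lab_nd _ (by omega)]) x hx1)
      (Δ.Res_mono (fun i (hi : lab i ≤ l) => show lab i ≤ l + 1 by omega) x1 hx'), h'⟩

end Lab

end Cfsg.Agent.H148.Cls
end

-- part: H148/Cls/CNB
section
/-!
# S2451, helper148: type `B_n`, `C_n` (`n ≥ 3`), `Dis Δ a b ⊆ {1}`: the theorem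
-/

set_option autoImplicit false
set_option linter.unusedSectionVars false

open scoped Pointwise

namespace Cfsg.Agent.H148.Cls

open Cfsg.Agent.Tits.Core Cfsg.Agent.Tits.Core.Bldg Cfsg.Agent.Tits.Exchange Cfsg.Agent.Tits Cfsg.Agent.FixBN
open Cfsg.Agent.H197.Cls Cfsg.Agent.H234.CoxB Cfsg.Agent.H330.ClassProd

variable {I : Type*} {M : CoxeterMatrix I} {W : Type*} [Group W] {cs : CoxeterSystem M W} {C : Type*}

local prefix:100 "ℓ" => cs.length

variable {Δ : Bldg cs C} {G : Type*} [Group G] [MulAction G C] {p : ℕ} {n : ℕ} {lab : I → ℕ} {nd : ℕ → I}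

theorem ordM [Finite I] [Finite W] (cs : CoxeterSystem M W) (i j : I) :
    orderOf (cs.simple i * cs.simple j) = M i j := by
  classical
  have := Fintype.ofFinite I
  exact LieRecognition.CoxForm.orderOf_eq cs i j

section Sys

variable (S : Sys Δ G p) [F : OppRes.Cox cs]

include S

/-- two `i`-panels on a `j`-panel, all chambers fixed -/
theorem b1_two (hth : Δ.Thick) {a : G} (hu : Uni Δ a) {i j : I} (hj : ¬ Mv Δ j a)
    (hm : orderOf (cs.simple j * cs.simple i) = 4) {x x' : C} (hx' : x' ∈ Δ.Pan j x) (hne : x' ≠ x)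
    (h1 : ∀ y ∈ Δ.Pan i x, a • y = y) (h2 : ∀ y ∈ Δ.Pan i x', a • y = y) : ∀ y ∈ Δ.Res {i, j} x, a • y = y := by
  have hm' : orderOf (cs.simple i * cs.simple j) = 4 := by rw [orderOf_comm', hm]
  obtain ⟨y, hy⟩ := exists_adj Δ x i
  obtain ⟨y', hy'⟩ := exists_adj Δ x' i
  obtain ⟨y0, hy0⟩ := exists_adj Δ y j
  have e0 : Δ.δ x x' = cs.simple j := Δ.δ_eq_of_mem_Pan (Δ.self_mem_Pan j x) hx' (Ne.symm hne)
  have e1 : Δ.δ x y' = alt cs j i 2 := by
    rw [alt_succ, alt_one]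
    refine Δ.δ_mul_of e0 hy' ?_
    rw [← alt_one i j, ← alt_succ, len_alt hm (by omega), alt_one, cs.length_simple, cs.length_simple]
  have e2 : Δ.δ y y' = alt cs i j 3 := by
    rw [alt_succ]
    refine Δ.δ_mul_of (Δ.δ_symm_simple hy) e1 ?_
    rw [← alt_succ, len_alt hm' (by omega), len_alt hm (by omega), cs.length_simple]
  have e3 : Δ.δ y0 y' = alt cs j i 4 := by
    rw [alt_succ]
    refine Δ.δ_mul_of (Δ.δ_symm_simple hy0) e2 ?_
    rw [← alt_succ, len_alt hm (by omega), len_alt hm' (by omega), cs.length_simple]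
  have hfy : a • y = y := h1 y (Δ.mem_Pan_of_δ hy)
  have hfy0 : a • y0 = y0 := fix_of_not_mv hj hfy (Δ.mem_Pan_of_δ hy0)
  have hw : alt cs j i 4 = wJ cs {i, j} := by rw [← wJ_pair hm (by decide), Set.pair_comm]
  have h3 := fix_opp S hth hu hfy0 (h2 y' (Δ.mem_Pan_of_δ hy')) (e3.trans hw)
  intro z hz
  refine h3 z ?_
  have h4 : y0 ∈ Δ.Res {i, j} x := Δ.mem_Res_trans (Δ.Pan_subset_Res (by simp) x (Δ.mem_Pan_of_δ hy))
    (Δ.Pan_subset_Res (by simp) y (Δ.mem_Pan_of_δ hy0))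
  rw [Δ.Res_eq_of_mem h4]; exact hz

variable [hp : Fact p.Prime]

/-- each fixed chamber has a chamber with fixed `i`-panel in its `j`-panel -/
theorem b1_ex (hth : Δ.Thick) {a b : G} (hab : Good p a b) (hD : Dis Δ a b ⊆ {1}) {i j : I}
    (hi : Mv Δ i a) (hj : Mv Δ j b) (hm : orderOf (cs.simple j * cs.simple i) = 4) {x : C} (hx : a • x = x) :
    ∃ x' ∈ Δ.Pan j x, ∀ y ∈ Δ.Pan i x', a • y = y := by
  have hja : ¬ Mv Δ j a := fun h' => not_mv_both S hD j ⟨h', hj⟩
  have hib : ¬ Mv Δ i b := fun h' => not_mv_both S hD i ⟨hi, h'⟩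
  by_cases hall : ∀ y ∈ Δ.Res {i, j} x, a • y = y
  · exact ⟨x, Δ.self_mem_Pan j x, fun y hy => hall y (Δ.Pan_subset_Res (by simp) x hy)⟩
  push Not at hall
  obtain ⟨y, hyR, hay⟩ := hall
  obtain ⟨k, u, huR, hu⟩ := exists_ctr S hth (uni_left S hth hab hD) hja hm (by omega) (by decide) hx hyR hay
  obtain ⟨kb, ub, hub⟩ := ctr_of_mv S hth (uni_right S hth hab hD) hj hib (by rw [orderOf_comm', hm]) (by omega) (by decide)
  obtain ⟨hk, -, -⟩ := two_main S hth hab hD hm (by omega) (by decide) hu hub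
  obtain rfl : k = 1 := by omega
  obtain ⟨u', hu', hl⟩ := hu.near x (Δ.mem_Res_symm huR) hx
  have ht : lt j i 1 = i := rfl
  rw [ht] at hu'
  have hfix : ∀ y ∈ Δ.Pan i u', a • y = y := fun y hy => hu.fixi le_rfl y (by rwa [Δ.Pan_eq_of_mem hu'] at hy)
  have hmem : Δ.δ u' x ∈ WJ cs {i, j} :=
    Δ.δ_mem_of_mem_Res (x := u) (Δ.Pan_subset_Res (by simp) u hu') (Δ.mem_Res_symm huR)
  rcases exists_alt hmem with h2 | h2
  · generalize ℓ (Δ.δ u' x) = m at h2 hl
    interval_cases m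
    · rw [alt_zero] at h2
      rw [Δ.eq_of_δ_eq_one h2] at hfix
      exact ⟨x, Δ.self_mem_Pan j x, hfix⟩
    · rw [alt_one] at h2
      rw [← Δ.Pan_eq_of_mem (Δ.mem_Pan_of_δ h2)] at hfix
      exact ⟨x, Δ.self_mem_Pan j x, hfix⟩
  · generalize ℓ (Δ.δ u' x) = m at h2 hl
    interval_cases m
    · rw [alt_zero] at h2
      rw [Δ.eq_of_δ_eq_one h2] at hfix
      exact ⟨x, Δ.self_mem_Pan j x, hfix⟩
    · rw [alt_one] at h2
      exact ⟨u', Δ.mem_Pan_symm (Δ.mem_Pan_of_δ h2), hfix⟩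

variable (hL : Lin M n lab nd)

include hL

end Sys

end Cfsg.Agent.H148.Cls
end

-- part: H148/Cls/F4Set
section
/-!
# S2451, helper148: fixed chambers in the buildings of type `F4`, `Dis = {1}`: the combinatorial setting

`F` is the set of the chambers fixed by a `p`-element which moves the types `i1, i2` only. `F4Set` collects the
local facts; `F4Main` is the alternative to be proved: `F4Set Δ i1 i2 i3 i4 F → F.Nonempty → F4Main Δ i1 i2 i3 i4 F`.
-/

set_option autoImplicit false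

namespace Cfsg.Agent.H148.Cls

open Cfsg.Agent.Tits.Core Cfsg.Agent.Tits.Core.Bldg Cfsg.Agent.Tits.Exchange Cfsg.Agent.Tits

variable {I : Type*} {M : CoxeterMatrix I} {W : Type*} [Group W] {cs : CoxeterSystem M W} {C : Type*}

/-- the local facts (nodes `i1 - i2 => i3 - i4`; the element moves the types `i1, i2` only) -/
structure F4Set (Δ : Bldg cs C) (i1 i2 i3 i4 : I) (F : Set C) : Prop where
  m12 : M i1 i2 = 3
  m23 : M i2 i3 = 4
  m34 : M i3 i4 = 3
  m13 : M i1 i3 = 2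
  m14 : M i1 i4 = 2
  m24 : M i2 i4 = 2
  thick : Δ.Thick
  /-- the types `i3`, `i4` are not moved -/
  cl3 : ∀ x ∈ F, Δ.Pan i3 x ⊆ F
  cl4 : ∀ x ∈ F, Δ.Pan i4 x ⊆ F
  /-- one or all chambers of a panel -/
  uni : ∀ (i : I) (x y : C), x ∈ F → y ∈ F → y ∈ Δ.Pan i x → y ≠ x → Δ.Pan i x ⊆ F
  /-- two opposite chambers of a residue -/
  opp : ∀ (J : Set I) (x y : C), x ∈ F → y ∈ F → Δ.δ x y = wJ cs J → Δ.Res J x ⊆ F
  /-- convexity -/
  conv : ∀ x y z : C, cs.length (Δ.δ x z) = cs.length (Δ.δ x y) + cs.length (Δ.δ y z) →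
    Δ.δ x z = Δ.δ x y * Δ.δ y z → x ∈ F → z ∈ F → y ∈ F
  /-- an elation of a plane with a centre has an axis -/
  c1 : ∀ x, Δ.Pan i2 x ⊆ F → ∃ x' ∈ Δ.Pan i2 x, Δ.Pan i1 x' ⊆ F
  /-- an elation of a plane with an axis has a centre -/
  c2 : ∀ x, Δ.Pan i1 x ⊆ F → ∃ x' ∈ Δ.Pan i1 x, Δ.Pan i2 x' ⊆ F
  /-- the residues of type `{i2, i3}` : exactly one or all ... -/
  b1 : ∀ x ∈ F, ∃ x' ∈ Δ.Pan i3 x, Δ.Pan i2 x' ⊆ F
  b1' : ∀ x x', x' ∈ Δ.Pan i3 x → x' ≠ x → Δ.Pan i2 x ⊆ F → Δ.Pan i2 x' ⊆ F → Δ.Res {i2, i3} x ⊆ F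
  /-- the residues of type `{i1, i2, i3}` : two opposite points, the residue of one of them is fixed -/
  g3 : ∀ x y, Δ.Res {i2, i3} x ⊆ F → y ∈ F →
    Δ.δ x y = cs.simple i1 * cs.simple i2 * cs.simple i3 * cs.simple i2 * cs.simple i1 →
    Δ.Res {i1, i2, i3} x ⊆ F

/-- the alternative: a central point, or a point which is near to all the chambers with fixed `{i2, i3}`-residues -/
def F4Main (Δ : Bldg cs C) (i1 i2 i3 i4 : I) (F : Set C) : Prop :=
  (∃ x, ∀ y ∈ Δ.Res {i2, i3, i4} x, Δ.Res {i1, i2, i3} y ⊆ F) ∨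
  ∃ P, Δ.Res {i2, i3, i4} P ⊆ F ∧ ∀ x, Δ.Res {i2, i3} x ⊆ F →
    ∃ y ∈ Δ.Res {i2, i3} x, ∃ y' ∈ Δ.Pan i1 y, y' ∈ Δ.Res {i2, i3, i4} P

end Cfsg.Agent.H148.Cls
end

-- part: H864/F4/Basic
section
/-!
# S2451, F4 combinatorics: short galleries in residues of rank two (helper864)

* `tr`, `trRes`      : parallel transport along commuting types;
* `join3`, `join4`   : normal forms of galleries in residues of type `A2`, `B2`;
* `d2`, `d3`, `d4`, `d5` : distances of short galleries;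
* `conn`             : convex sets are connected.
-/

set_option autoImplicit false
set_option linter.unusedSectionVars false

namespace Cfsg.Agent.H864.F4

open Cfsg.Agent.Tits.Core Cfsg.Agent.Tits.Core.Bldg Cfsg.Agent.Tits.Exchange Cfsg.Agent.Tits

variable {I : Type*} {M : CoxeterMatrix I} {W : Type*} [Group W] {cs : CoxeterSystem M W} {C : Type*}
  {Δ : Bldg cs C}

local notation "ℓ" => cs.length

/-! ### Panels -/

theorem adj {i : I} {x y : C} (h : y ∈ Δ.Pan i x) (hne : y ≠ x) : Δ.δ x y = cs.simple i := h.resolve_left hne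

theorem pan {i : I} {x y : C} (h : Δ.δ x y = cs.simple i) : y ∈ Δ.Pan i x := Or.inr h

theorem ps {i : I} {x y : C} (h : y ∈ Δ.Pan i x) : x ∈ Δ.Pan i y := Δ.mem_Pan_symm h

theorem pt {i : I} {x y z : C} (h : y ∈ Δ.Pan i x) (h' : z ∈ Δ.Pan i y) : z ∈ Δ.Pan i x := Δ.mem_Pan_trans h h'

theorem len_le {i : I} {x y z : C} (h : z ∈ Δ.Pan i y) : ℓ (Δ.δ x z) ≤ ℓ (Δ.δ x y) + 1 := by
  rcases h with rfl | h
  · omega
  · rcases Δ.step x y z i h with h1 | h1
    · rw [h1]
      have h2 := cs.length_mul_le (Δ.δ x y) (cs.simple i)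
      rw [cs.length_simple] at h2
      exact h2
    · rw [h1]; omega

theorem len_self (x : C) : ℓ (Δ.δ x x) = 0 := by rw [Δ.δ_self, cs.length_one]

theorem rs {J : Set I} {x y : C} (h : y ∈ Δ.Res J x) : x ∈ Δ.Res J y := Δ.mem_Res_symm h

theorem rt {J : Set I} {x y z : C} (h : y ∈ Δ.Res J x) (h' : z ∈ Δ.Res J y) : z ∈ Δ.Res J x := Δ.mem_Res_trans h h'

theorem pr {J : Set I} {i : I} (hi : i ∈ J) {x y : C} (h : y ∈ Δ.Pan i x) : y ∈ Δ.Res J x :=
  Δ.Pan_subset_Res hi x h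

/-- a third chamber -/
theorem other (hth : Δ.Thick) (i : I) (x : C) : ∃ y ∈ Δ.Pan i x, y ≠ x := by
  obtain ⟨y, z, _, hy, _⟩ := hth x i
  exact ⟨y, pan hy, (Δ.ne_of_δ_simple hy).symm⟩

/-! ### Words -/

section

variable [Finite I] [Finite W]

theorem ne_of_two {i k : I} (h : M i k = 2) : i ≠ k := by
  rintro rfl
  rw [M.diagonal] at h
  omega

theorem ne_of_three {i k : I} (h : M i k = 3) : i ≠ k := by
  rintro rfl
  rw [M.diagonal] at h
  omega

theorem ne_of_four {i k : I} (h : M i k = 4) : i ≠ k := by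
  rintro rfl
  rw [M.diagonal] at h
  omega

theorem sym {i k : I} {n : ℕ} (h : M i k = n) : M k i = n := by rw [M.symmetric]; exact h

theorem pan_inter {i k : I} (hik : i ≠ k) {x y : C} (h : y ∈ Δ.Pan i x) (h' : y ∈ Δ.Pan k x) : y = x := by
  by_contra hne
  have h1 := adj h hne
  rw [adj h' hne] at h1
  exact hik (OppRes.Cox.inj (cs := cs) h1).symm

theorem d2 {i j : I} (hij : i ≠ j) {x a b : C} (h1 : Δ.δ x a = cs.simple i) (h2 : Δ.δ a b = cs.simple j) :
    Δ.δ x b = cs.simple i * cs.simple j :=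
  Δ.δ_mul_of h1 h2 (by rw [Generic.length_two cs hij, cs.length_simple, cs.length_simple])

theorem d3 {i j : I} (hij : i ≠ j) (hm : M i j ≠ 2) {x a b c : C} (h1 : Δ.δ x a = cs.simple i)
    (h2 : Δ.δ a b = cs.simple j) (h3 : Δ.δ b c = cs.simple i) :
    Δ.δ x c = cs.simple i * cs.simple j * cs.simple i :=
  Δ.δ_mul_of (d2 hij h1 h2) h3 (by
    rw [Generic.length_three cs hij hm, Generic.length_two cs hij, cs.length_simple])

theorem d4 {i j : I} (hm : M i j = 4) {x a b c d : C} (h1 : Δ.δ x a = cs.simple i)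
    (h2 : Δ.δ a b = cs.simple j) (h3 : Δ.δ b c = cs.simple i) (h4 : Δ.δ c d = cs.simple j) :
    Δ.δ x d = cs.simple i * cs.simple j * cs.simple i * cs.simple j :=
  Δ.δ_mul_of (d3 (ne_of_four hm) (by omega) h1 h2 h3) h4 (by
    rw [Generic.length_four cs (ne_of_four hm) hm, Generic.length_three cs (ne_of_four hm) (by omega),
      cs.length_simple])

/-- commuting transport -/
theorem tr {i k : I} (hik : M i k = 2) {x y x' : C} (hy : y ∈ Δ.Pan k x) (hx : x' ∈ Δ.Pan i x) :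
    ∃ y', y' ∈ Δ.Pan i y ∧ y' ∈ Δ.Pan k x' ∧ (y ≠ x → y' ≠ x') ∧ (x' ≠ x → y' ≠ y) := by
  have hne := ne_of_two hik
  have key : ∃ y', y' ∈ Δ.Pan i y ∧ y' ∈ Δ.Pan k x' := by
    by_cases h1 : y = x
    · subst h1
      exact ⟨x', hx, Δ.self_mem_Pan k x'⟩
    by_cases h2 : x' = x
    · subst h2
      exact ⟨y, Δ.self_mem_Pan i y, hy⟩
    have h3 := d2 hne.symm (adj (ps hy) (Ne.symm h1)) (adj hx h2)
    rw [← Generic.braid_two cs hik] at h3
    obtain ⟨z, hz, hz'⟩ := Δ.exists_between h3 (by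
      rw [Generic.length_two cs hne, cs.length_simple, cs.length_simple])
    exact ⟨z, pan hz, ps (pan hz')⟩
  obtain ⟨y', h1, h2⟩ := key
  refine ⟨y', h1, h2, fun h => ?_, fun h => ?_⟩
  · rintro rfl
    exact h (pan_inter hne (pt hx (ps h1)) hy)
  · rintro rfl
    exact h (pan_inter hne hx (pt hy (ps h2)))

/-- commuting transport along a residue -/
theorem trRes {J : Set I} {k : I} (hJ : ∀ j ∈ J, M j k = 2) {x y x' : C} (hy : y ∈ Δ.Pan k x)
    (hx : x' ∈ Δ.Res J x) : ∃ y', y' ∈ Δ.Res J y ∧ y' ∈ Δ.Pan k x' ∧ (y ≠ x → y' ≠ x') := by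
  refine Δ.Res_induction (p := fun x' => ∃ y', y' ∈ Δ.Res J y ∧ y' ∈ Δ.Pan k x' ∧ (y ≠ x → y' ≠ x'))
    ⟨y, Δ.self_mem_Res J y, hy, fun h => h⟩ ?_ hx
  rintro z _ z' j hj hzz' ⟨y', h1, h2, h3⟩
  obtain ⟨y'', h4, h5, h6, _⟩ := tr (hJ j hj) h2 (pan hzz')
  exact ⟨y'', rt h1 (pr hj h4), h5, fun h => h6 (h3 h)⟩

theorem braid3 {i j : I} (hm : M i j = 3) {x a b y : C} (h1 : Δ.δ x a = cs.simple i)
    (h2 : Δ.δ a b = cs.simple j) (h3 : Δ.δ b y = cs.simple i) :
    ∃ a' b', Δ.δ x a' = cs.simple j ∧ Δ.δ a' b' = cs.simple i ∧ Δ.δ b' y = cs.simple j := by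
  have hij := ne_of_three hm
  have h := d3 hij (by omega) h1 h2 h3
  rw [Generic.braid_three cs hm] at h
  obtain ⟨b', hb, hb'⟩ := Δ.exists_between h (by
    rw [Generic.length_three cs hij.symm (by rw [sym hm]; omega), Generic.length_two cs hij.symm, cs.length_simple])
  obtain ⟨a', ha, ha'⟩ := Δ.exists_between hb (by
    rw [Generic.length_two cs hij.symm, cs.length_simple, cs.length_simple])
  exact ⟨a', b', ha, ha', hb'⟩

theorem braid4 {i j : I} (hm : M i j = 4) {x a b c y : C} (h1 : Δ.δ x a = cs.simple i)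
    (h2 : Δ.δ a b = cs.simple j) (h3 : Δ.δ b c = cs.simple i) (h4 : Δ.δ c y = cs.simple j) :
    ∃ a' b' c', Δ.δ x a' = cs.simple j ∧ Δ.δ a' b' = cs.simple i ∧ Δ.δ b' c' = cs.simple j ∧
      Δ.δ c' y = cs.simple i := by
  have hij := ne_of_four hm
  have hm' := sym hm
  have h := d4 hm h1 h2 h3 h4
  rw [Generic.braid_four cs hm] at h
  obtain ⟨c', hc, hc'⟩ := Δ.exists_between h (by
    rw [Generic.length_four cs hij.symm hm', Generic.length_three cs hij.symm (by omega), cs.length_simple])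
  obtain ⟨b', hb, hb'⟩ := Δ.exists_between hc (by
    rw [Generic.length_three cs hij.symm (by omega), Generic.length_two cs hij.symm, cs.length_simple])
  obtain ⟨a', ha, ha'⟩ := Δ.exists_between hb (by
    rw [Generic.length_two cs hij.symm, cs.length_simple, cs.length_simple])
  exact ⟨a', b', c', ha, ha', hb', hc'⟩

/-- galleries of type `k, l, k` in a residue of type `A2` -/
theorem join3 {k l : I} (hm : M k l = 3) {x y : C} (hy : y ∈ Δ.Res {k, l} x) :
    ∃ a ∈ Δ.Pan k x, ∃ b ∈ Δ.Pan l a, y ∈ Δ.Pan k b := by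
  refine Δ.Res_induction (p := fun y => ∃ a ∈ Δ.Pan k x, ∃ b ∈ Δ.Pan l a, y ∈ Δ.Pan k b)
    ⟨x, Δ.self_mem_Pan k x, x, Δ.self_mem_Pan l x, Δ.self_mem_Pan k x⟩ ?_ hy
  clear hy
  rintro y _ z i hi hyz ⟨a, ha, b, hb, hy⟩
  simp only [Set.mem_insert_iff, Set.mem_singleton_iff] at hi
  rcases hi with rfl | rfl
  · exact ⟨a, ha, b, hb, pt hy (pan hyz)⟩
  by_cases h1 : y = b
  · subst h1
    exact ⟨a, ha, z, pt hb (pan hyz), Δ.self_mem_Pan k z⟩
  by_cases h2 : b = a
  · subst h2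
    exact ⟨y, pt ha hy, z, pan hyz, Δ.self_mem_Pan k z⟩
  by_cases h3 : a = x
  · subst h3
    obtain ⟨a', b', e1, e2, e3⟩ := braid3 (sym hm) (adj hb h2) (adj hy h1) hyz
    exact ⟨a', pan e1, b', pan e2, pan e3⟩
  obtain ⟨a', b', e1, e2, e3⟩ := braid3 hm (adj ha h3) (adj hb h2) (adj hy h1)
  have h4 : z ∈ Δ.Pan i b' := pt (pan e3) (pan hyz)
  by_cases h5 : z = b'
  · subst h5
    exact ⟨x, Δ.self_mem_Pan k x, a', pan e1, pan e2⟩
  obtain ⟨a'', b'', e4, e5, e6⟩ := braid3 (sym hm) e1 e2 (adj h4 h5)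
  exact ⟨a'', pan e4, b'', pan e5, pan e6⟩

/-- galleries of type `k, l, k, l` in a residue of type `B2` -/
theorem join4 {k l : I} (hm : M k l = 4) {x y : C} (hy : y ∈ Δ.Res {k, l} x) :
    ∃ a ∈ Δ.Pan k x, ∃ b ∈ Δ.Pan l a, ∃ c ∈ Δ.Pan k b, y ∈ Δ.Pan l c := by
  refine Δ.Res_induction (p := fun y => ∃ a ∈ Δ.Pan k x, ∃ b ∈ Δ.Pan l a, ∃ c ∈ Δ.Pan k b, y ∈ Δ.Pan l c)
    ⟨x, Δ.self_mem_Pan k x, x, Δ.self_mem_Pan l x, x, Δ.self_mem_Pan k x, Δ.self_mem_Pan l x⟩ ?_ hy
  clear hy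
  rintro y _ z i hi hyz ⟨a, ha, b, hb, c, hc, hy⟩
  simp only [Set.mem_insert_iff, Set.mem_singleton_iff] at hi
  have hs := Δ.self_mem_Pan
  rcases hi with rfl | rfl
  swap
  · exact ⟨a, ha, b, hb, c, hc, pt hy (pan hyz)⟩
  by_cases h1 : y = c
  · subst h1
    exact ⟨a, ha, b, hb, z, pt hc (pan hyz), hs l z⟩
  by_cases h2 : c = b
  · subst h2
    exact ⟨a, ha, y, pt hb hy, z, pan hyz, hs l z⟩
  by_cases h3 : b = a
  · subst h3
    exact ⟨c, pt ha hc, y, hy, z, pan hyz, hs l z⟩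
  by_cases h4 : a = x
  · subst h4
    obtain ⟨a', b', c', e1, e2, e3, e4⟩ := braid4 (sym hm) (adj hb h3) (adj hc h2) (adj hy h1) hyz
    exact ⟨a', pan e1, b', pan e2, c', pan e3, pan e4⟩
  obtain ⟨a', b', c', e1, e2, e3, e4⟩ := braid4 hm (adj ha h4) (adj hb h3) (adj hc h2) (adj hy h1)
  have h5 : z ∈ Δ.Pan i c' := pt (pan e4) (pan hyz)
  by_cases h6 : z = c'
  · subst h6
    exact ⟨x, hs i x, a', pan e1, b', pan e2, pan e3⟩
  obtain ⟨a'', b'', c'', e5, e6, e7, e8⟩ := braid4 (sym hm) e1 e2 e3 (adj h5 h6)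
  exact ⟨a'', pan e5, b'', pan e6, c'', pan e7, pan e8⟩

/-- a proper gallery of type `i, j` is not a gallery of type `j, i` -/
theorem no_swap {i j : I} (hij : i ≠ j) (hm : M i j ≠ 2) {x a b c : C} (h1 : Δ.δ x a = cs.simple i)
    (h2 : Δ.δ a b = cs.simple j) (h3 : c ∈ Δ.Pan j x) (h4 : b ∈ Δ.Pan i c) : False := by
  have h5 := d2 hij h1 h2
  have h6 := Generic.length_two cs hij
  rw [← h5] at h6
  have l0 := len_self (Δ := Δ) x
  by_cases h7 : c = x
  · subst h7
    have := len_le (x := c) h4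
    omega
  by_cases h8 : b = c
  · subst h8
    have := len_le (x := x) h3
    omega
  have h9 := d2 hij.symm (adj h3 h7) (adj h4 h8)
  rw [h5] at h9
  have h10 := Generic.length_three cs hij hm
  rw [h9, mul_assoc, cs.simple_mul_simple_self, mul_one, cs.length_simple] at h10
  omega

/-- a proper gallery of type `i, j, i` has length three -/
theorem len3 {i j : I} (hij : i ≠ j) (hm : M i j ≠ 2) {x a b c : C} (h1 : Δ.δ x a = cs.simple i)
    (h2 : Δ.δ a b = cs.simple j) (h3 : Δ.δ b c = cs.simple i) : ℓ (Δ.δ x c) = 3 := by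
  rw [d3 hij hm h1 h2 h3, Generic.length_three cs hij hm]

theorem len2 {i j : I} (hij : i ≠ j) {x a b : C} (h1 : Δ.δ x a = cs.simple i)
    (h2 : Δ.δ a b = cs.simple j) : ℓ (Δ.δ x b) = 2 := by
  rw [d2 hij h1 h2, Generic.length_two cs hij]

theorem len4 {i j : I} (hm : M i j = 4) {x a b c d : C} (h1 : Δ.δ x a = cs.simple i)
    (h2 : Δ.δ a b = cs.simple j) (h3 : Δ.δ b c = cs.simple i) (h4 : Δ.δ c d = cs.simple j) :
    ℓ (Δ.δ x d) = 4 := by
  rw [d4 hm h1 h2 h3 h4, Generic.length_four cs (ne_of_four hm) hm]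

/-- connectedness -/
theorem conn {F : Set C} (hconv : ∀ x y z : C, cs.length (Δ.δ x z) = cs.length (Δ.δ x y) + cs.length (Δ.δ y z) →
      Δ.δ x z = Δ.δ x y * Δ.δ y z → x ∈ F → z ∈ F → y ∈ F) {J : Set I} {p : C → Prop} {x y : C} (hx : x ∈ F)
    (hy : y ∈ F) (hxy : y ∈ Δ.Res J x) (h0 : p x)
    (hs : ∀ z ∈ F, ∀ z' ∈ F, z ∈ Δ.Res J x → ∀ j ∈ J, z' ∈ Δ.Pan j z → z' ≠ z → p z → p z') : p y := by
  generalize hn : ℓ (Δ.δ x y) = n
  induction n generalizing y with
  | zero =>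
    rw [cs.length_eq_zero_iff] at hn
    rwa [← Δ.eq_of_δ_eq_one hn]
  | succ n ih =>
    have h1 : Δ.δ x y ≠ 1 := by
      intro h
      rw [h, cs.length_one] at hn
      omega
    obtain ⟨j, hj, hlt⟩ := OppRes.Cox.exists_descent (cs := cs) inferInstance hxy h1
    obtain ⟨z, hz, hz'⟩ := Δ.exists_step x y j
    have h2 : ℓ (Δ.δ x z) = n := by
      rw [hz']
      rcases cs.length_mul_simple (Δ.δ x y) j with h | h <;> omega
    have hzy : Δ.δ z y = cs.simple j := Δ.δ_symm_simple hz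
    have hzF : z ∈ F := by
      refine hconv x z y ?_ ?_ hx hy
      · rw [h2, hzy, cs.length_simple, hn]
      · rw [hz', hzy, mul_assoc, cs.simple_mul_simple_self, mul_one]
    have hzR : z ∈ Δ.Res J x := rt hxy (pr hj (pan hz))
    exact hs z hzF y hy hzR j hj (pan hzy) (Δ.ne_of_δ_simple hzy).symm (ih hzF hzR h2)

/-- the word `1, 2, 3, 2, 1` -/
theorem d5 {i1 i2 i3 : I} (m12 : M i1 i2 = 3) (m23 : M i2 i3 = 4) (m13 : M i1 i3 = 2) {x a b c d y : C}
    (h1 : Δ.δ x a = cs.simple i1) (h2 : Δ.δ a b = cs.simple i2) (h3 : Δ.δ b c = cs.simple i3)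
    (h4 : Δ.δ c d = cs.simple i2) (h5 : Δ.δ d y = cs.simple i1) :
    Δ.δ x y = cs.simple i1 * cs.simple i2 * cs.simple i3 * cs.simple i2 * cs.simple i1 := by
  have n12 := ne_of_three m12
  have n23 := ne_of_four m23
  have n13 := ne_of_two m13
  have l3 := Generic.length_three cs n23 (by omega : M i2 i3 ≠ 2)
  have hmem : cs.simple i2 * cs.simple i3 * cs.simple i2 ∈ WJ cs {i2, i3} :=
    mul_mem (mul_mem (Generic.simple_mem_left cs i2 i3) (Generic.simple_mem_right cs i2 i3))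
      (Generic.simple_mem_left cs i2 i3)
  have hn1 : i1 ∉ ({i2, i3} : Set I) := by
    simp only [Set.mem_insert_iff, Set.mem_singleton_iff, not_or]
    exact ⟨n12, n13⟩
  have hinv : (cs.simple i2 * cs.simple i3 * cs.simple i2)⁻¹ = cs.simple i2 * cs.simple i3 * cs.simple i2 := by
    simp only [mul_inv_rev, cs.inv_simple, mul_assoc]
  have l4 : ℓ (cs.simple i2 * cs.simple i3 * cs.simple i2 * cs.simple i1) = 4 := by
    rcases cs.length_mul_simple (cs.simple i2 * cs.simple i3 * cs.simple i2) i1 with h | h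
    · rw [h, l3]
    · exact absurd (OppRes.Cox.descent_mem (cs := cs) _ _ hmem i1 (by omega)) hn1
  have l4' : ℓ (cs.simple i1 * (cs.simple i2 * cs.simple i3 * cs.simple i2)) = 4 := by
    rw [← l4, ← cs.length_inv, mul_inv_rev, hinv, cs.inv_simple]
  have l5 : ℓ (cs.simple i1 * (cs.simple i2 * cs.simple i3 * cs.simple i2) * cs.simple i1) = 5 := by
    rcases cs.length_mul_simple (cs.simple i1 * (cs.simple i2 * cs.simple i3 * cs.simple i2)) i1 with h | h
    · rw [h, l4']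
    · exfalso
      rcases fold cs (w := cs.simple i2 * cs.simple i3 * cs.simple i2) (i := i1) (j := i1)
        (by rw [l4', l3]) (by rw [l4, l3]) with hf | hf
      · omega
      have e0 : cs.simple i1 * (cs.simple i2 * cs.simple i3 * cs.simple i2) * cs.simple i1 =
          cs.simple i2 * cs.simple i3 * cs.simple i2 := by
        rw [hf, mul_assoc, cs.simple_mul_simple_self, mul_one]
      have e1 : cs.simple i2 * (cs.simple i1 * (cs.simple i2 * cs.simple i3 * cs.simple i2) * cs.simple i1) *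
          cs.simple i2 = cs.simple i3 := by
        rw [e0]
        simp only [mul_assoc, cs.simple_mul_simple_self, mul_one, cs.simple_mul_simple_cancel_left]
      have e2 : cs.simple i2 * (cs.simple i1 * (cs.simple i2 * cs.simple i3 * cs.simple i2) * cs.simple i1) *
          cs.simple i2 = (cs.simple i2 * cs.simple i1 * cs.simple i2) * cs.simple i3 *
            (cs.simple i2 * cs.simple i1 * cs.simple i2) := by
        simp only [mul_assoc]
      have e3 : cs.simple i1 * cs.simple i3 * cs.simple i1 = cs.simple i3 := by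
        rw [Generic.braid_two cs m13, mul_assoc, cs.simple_mul_simple_self, mul_one]
      have e4 : (cs.simple i1 * cs.simple i2 * cs.simple i1) * cs.simple i3 *
          (cs.simple i1 * cs.simple i2 * cs.simple i1) =
            cs.simple i1 * (cs.simple i2 * (cs.simple i1 * cs.simple i3 * cs.simple i1) * cs.simple i2) *
              cs.simple i1 := by
        simp only [mul_assoc]
      rw [e1, ← Generic.braid_three cs m12, e4, e3, e0] at e2
      rw [← e2, cs.length_simple] at l3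
      omega
  have h6 := d3 n23 (by omega : M i2 i3 ≠ 2) h2 h3 h4
  have h7 : Δ.δ x d = cs.simple i1 * (cs.simple i2 * cs.simple i3 * cs.simple i2) :=
    Δ.δ_mul_of h1 h6 (by rw [l4', l3, cs.length_simple])
  have h8 : Δ.δ x y = cs.simple i1 * (cs.simple i2 * cs.simple i3 * cs.simple i2) * cs.simple i1 :=
    Δ.δ_mul_of h7 h5 (by rw [l5, l4', cs.length_simple])
  rw [h8]
  simp only [mul_assoc]

end

end Cfsg.Agent.H864.F4
end

-- part: H864/F4/A2
section
/-!
# S2451, F4 combinatorics: the projective plane lemma (helper864)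
-/

set_option autoImplicit false
set_option linter.unusedSectionVars false

namespace Cfsg.Agent.H864.F4

open Cfsg.Agent.Tits.Core Cfsg.Agent.Tits.Core.Bldg Cfsg.Agent.Tits.Exchange Cfsg.Agent.Tits

variable {I : Type*} {M : CoxeterMatrix I} {W : Type*} [Group W] {cs : CoxeterSystem M W} {C : Type*}
  {Δ : Bldg cs C} [Finite I] [Finite W]

theorem resL {k l : I} {x y : C} (h : y ∈ Δ.Pan k x) : y ∈ Δ.Res {k, l} x := pr (Set.mem_insert k {l}) h

theorem resR {k l : I} {x y : C} (h : y ∈ Δ.Pan l x) : y ∈ Δ.Res {k, l} x :=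
  pr (Set.mem_insert_of_mem k (Set.mem_singleton l)) h

theorem la2a (hth : Δ.Thick) {k l : I} (hm : M k l = 3) {V : C → Prop} {x : C}
    (hl : ∀ y, V y → ∀ y' ∈ Δ.Pan l y, V y') (h1 : ∀ y ∈ Δ.Res {k, l} x, ∃ y' ∈ Δ.Pan k y, V y')
    (h2 : ∀ y ∈ Δ.Res {k, l} x, ∀ y' ∈ Δ.Pan k y, y' ≠ y → V y → V y' → ∀ y'' ∈ Δ.Pan k y, V y'')
    (hx : V x) : ∃ x' ∈ Δ.Pan l x, ∀ y ∈ Δ.Pan k x', V y := by
  obtain ⟨a, ha, hax⟩ := other hth k x
  obtain ⟨b, hb, hba⟩ := other hth l a
  have hbR : b ∈ Δ.Res {k, l} x := rt (resL ha) (resR hb)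
  obtain ⟨y, hy, hVy⟩ := h1 b hbR
  by_cases hyb : y = b
  · subst hyb
    exact ⟨x, Δ.self_mem_Pan l x, h2 x (Δ.self_mem_Res _ x) a ha hax hx (hl _ hVy a (ps hb))⟩
  · obtain ⟨a', b', e1, e2, e3⟩ := braid3 hm (adj ha hax) (adj hb hba) (adj hy hyb)
    refine ⟨a', pan e1, h2 a' (resR (pan e1)) b' (pan e2) (Δ.ne_of_δ_simple e2).symm (hl _ hx a' (pan e1))
      (hl _ hVy b' (ps (pan e3)))⟩

theorem la2b (hth : Δ.Thick) {k l : I} (hm : M k l = 3) {V : C → Prop} {x x' : C}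
    (hl : ∀ y, V y → ∀ y' ∈ Δ.Pan l y, V y')
    (h2 : ∀ y ∈ Δ.Res {k, l} x, ∀ y' ∈ Δ.Pan k y, y' ≠ y → V y → V y' → ∀ y'' ∈ Δ.Pan k y, V y'')
    (hx' : x' ∈ Δ.Pan l x) (hne : x' ≠ x) (hV : ∀ y ∈ Δ.Pan k x, V y) (hV' : ∀ y ∈ Δ.Pan k x', V y) :
    ∀ y ∈ Δ.Res {k, l} x, V y := by
  have hkl := ne_of_three hm
  have hm2 : M k l ≠ 2 := by omega
  have star : ∀ y ∈ Δ.Res {k, l} x, V y ∨ ∃ b ∈ Δ.Pan l x, y ∈ Δ.Pan k b := by
    intro y hy
    obtain ⟨a, ha, b, hb, hyb⟩ := join3 hm hy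
    obtain ⟨a', ha', b', hb', hyb'⟩ := join3 hm (rt (rs (resR hx')) hy)
    have Vb : V b := hl _ (hV a ha) b hb
    have Vb' : V b' := hl _ (hV' a' ha') b' hb'
    have hbR : b ∈ Δ.Res {k, l} x := rt (resL ha) (resR hb)
    by_cases hbb : b' = b
    · subst hbb
      by_cases hax : a = x
      · subst hax
        exact Or.inr ⟨b', hb, hyb⟩
      exfalso
      have haa : a' ∈ Δ.Pan l a := pt hb (ps hb')
      have l1 : cs.length (Δ.δ x x') ≤ 1 := by
        have h3 := len_le (x := x) hx'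
        have h4 := len_self (Δ := Δ) x
        omega
      by_cases haa' : a' = a
      · subst haa'
        exact hne (pan_inter hkl (pt ha (ps ha')) hx')
      by_cases hax' : a' = x'
      · subst hax'
        have := len2 hkl (adj ha hax) (adj haa haa')
        omega
      · have := len3 hkl hm2 (adj ha hax) (adj haa haa') (adj (ps ha') (Ne.symm hax'))
        omega
    · exact Or.inl (h2 b hbR b' (pt hyb (ps hyb')) hbb Vb Vb' y hyb)
  intro y hy
  rcases star y hy with h | ⟨b, hb, hyb⟩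
  · exact h
  by_cases h3 : b = x
  · subst h3
    exact hV y hyb
  by_cases h4 : y = b
  · subst h4
    exact hl _ (hV x (Δ.self_mem_Pan k x)) y hb
  obtain ⟨z, hz, hzy⟩ := other hth l y
  rcases star z (rt hy (resR hz)) with h | ⟨c, hc, hzc⟩
  · exact hl _ h y (ps hz)
  · exfalso
    have h5 := len3 hkl.symm (by rw [sym hm]; omega) (adj hb h3) (adj hyb h4) (adj hz hzy)
    have h6 := len_le (x := x) hzc
    have h7 := len_le (x := x) hc
    have h8 := len_self (Δ := Δ) x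
    omega

end Cfsg.Agent.H864.F4
end

-- part: H864/F4/Local
section
/-!
# S2451, F4 combinatorics: local facts (helper864)

Names as in `tools/plans/S2451-F4.md`.
-/

set_option autoImplicit false
set_option linter.unusedSectionVars false

namespace Cfsg.Agent.H864.F4

open Cfsg.Agent.Tits.Core Cfsg.Agent.Tits.Core.Bldg Cfsg.Agent.Tits.Exchange Cfsg.Agent.Tits
open Cfsg.Agent.H148.Cls

variable {I : Type*} {M : CoxeterMatrix I} {W : Type*} [Group W] {cs : CoxeterSystem M W} {C : Type*}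
  {Δ : Bldg cs C} [Finite I] [Finite W] {i1 i2 i3 i4 : I} {F : Set C}

/-! ### Invariance -/

/-- `T_J` is invariant under commuting types -/
theorem T_inv {J : Set I} {k : I} (hJ : ∀ j ∈ J, M j k = 2) (hk : ∀ x ∈ F, Δ.Pan k x ⊆ F) {x y : C}
    (hy : y ∈ Δ.Pan k x) (h : Δ.Res J x ⊆ F) : Δ.Res J y ⊆ F := by
  intro z hz
  obtain ⟨z', h1, h2, _⟩ := trRes hJ (ps hy) hz
  exact hk z' (h h1) (ps h2)

theorem T1_inv {i k : I} (hik : M i k = 2) (hk : ∀ x ∈ F, Δ.Pan k x ⊆ F) {x y : C}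
    (hy : y ∈ Δ.Pan k x) (h : Δ.Pan i x ⊆ F) : Δ.Pan i y ⊆ F := by
  intro z hz
  obtain ⟨z', h1, h2, _⟩ := tr hik (ps hy) hz
  exact hk z' (h h1) (ps h2)

theorem self_of_T {J : Set I} {x : C} (h : Δ.Res J x ⊆ F) : x ∈ F := h (Δ.self_mem_Res J x)

theorem self_of_T1 {i : I} {x : C} (h : Δ.Pan i x ⊆ F) : x ∈ F := h (Δ.self_mem_Pan i x)

theorem T_eq {J : Set I} {x y : C} (hy : y ∈ Δ.Res J x) (h : Δ.Res J x ⊆ F) : Δ.Res J y ⊆ F := by
  rwa [Δ.Res_eq_of_mem hy]

theorem T1_eq {i : I} {x y : C} (hy : y ∈ Δ.Pan i x) (h : Δ.Pan i x ⊆ F) : Δ.Pan i y ⊆ F := by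
  rwa [Δ.Pan_eq_of_mem hy]

theorem T_mono {J K : Set I} (hJK : J ⊆ K) {x : C} (h : Δ.Res K x ⊆ F) : Δ.Res J x ⊆ F :=
  (Δ.Res_mono hJK x).trans h

theorem T1_of_T {J : Set I} {i : I} (hi : i ∈ J) {x : C} (h : Δ.Res J x ⊆ F) : Δ.Pan i x ⊆ F :=
  (Δ.Pan_subset_Res hi x).trans h

variable (h : F4Set Δ i1 i2 i3 i4 F)

include h

theorem inv13 {x y : C} (hy : y ∈ Δ.Pan i3 x) (hx : Δ.Pan i1 x ⊆ F) : Δ.Pan i1 y ⊆ F := T1_inv h.m13 h.cl3 hy hx
theorem inv14 {x y : C} (hy : y ∈ Δ.Pan i4 x) (hx : Δ.Pan i1 x ⊆ F) : Δ.Pan i1 y ⊆ F := T1_inv h.m14 h.cl4 hy hx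
theorem inv24 {x y : C} (hy : y ∈ Δ.Pan i4 x) (hx : Δ.Pan i2 x ⊆ F) : Δ.Pan i2 y ⊆ F := T1_inv h.m24 h.cl4 hy hx

theorem c12 : ∀ j ∈ ({i1, i2} : Set I), M j i4 = 2 := by
  intro j hj
  rcases hj with rfl | rfl
  · exact h.m14
  · exact h.m24

theorem c34 : ∀ j ∈ ({i3, i4} : Set I), M j i1 = 2 := by
  intro j hj
  rcases hj with rfl | rfl
  · exact sym h.m13
  · exact sym h.m14

theorem inv124 {x y : C} (hy : y ∈ Δ.Pan i4 x) (hx : Δ.Res {i1, i2} x ⊆ F) : Δ.Res {i1, i2} y ⊆ F :=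
  T_inv (c12 h) h.cl4 hy hx

theorem res34_F {x y : C} (hx : x ∈ F) (hy : y ∈ Δ.Res {i3, i4} x) : y ∈ F := by
  refine Δ.Res_induction (p := fun y => y ∈ F) hx ?_ hy
  intro z _ z' i hi hz hzF
  rcases hi with rfl | rfl
  · exact h.cl3 z hzF (pan hz)
  · exact h.cl4 z hzF (pan hz)

/-! ### The planes `{1, 2}` -/

/-- two opposite chambers of a residue of type `A2` -/
theorem opp_three {i j : I} (hm : M i j = 3) {x a b y : C} (h1 : Δ.δ x a = cs.simple i)
    (h2 : Δ.δ a b = cs.simple j) (h3 : Δ.δ b y = cs.simple i) (hx : x ∈ F) (hy : y ∈ F) : Δ.Res {i, j} x ⊆ F := by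
  refine h.opp _ x y hx hy ?_
  rw [d3 (ne_of_three hm) (by omega) h1 h2 h3, Generic.wJ_three cs (ne_of_three hm) hm]

theorem C3 {x x' : C} (hx' : x' ∈ Δ.Pan i1 x) (hne : x' ≠ x) (h1 : Δ.Pan i2 x ⊆ F) (h2 : Δ.Pan i2 x' ⊆ F) :
    Δ.Res {i1, i2} x ⊆ F := by
  obtain ⟨y, hy, hyx⟩ := other h.thick i2 x
  obtain ⟨y', hy', hyx'⟩ := other h.thick i2 x'
  have h3 := opp_three h (sym h.m12) (Δ.δ_symm_simple (adj hy hyx)) (adj hx' hne) (adj hy' hyx') (h1 hy) (h2 hy')
  rw [Set.pair_comm] at h3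
  exact T_eq (rs (resR hy)) h3

theorem C3' {x x' : C} (hx' : x' ∈ Δ.Pan i2 x) (hne : x' ≠ x) (h1 : Δ.Pan i1 x ⊆ F) (h2 : Δ.Pan i1 x' ⊆ F) :
    Δ.Res {i1, i2} x ⊆ F := by
  obtain ⟨y, hy, hyx⟩ := other h.thick i1 x
  obtain ⟨y', hy', hyx'⟩ := other h.thick i1 x'
  have h3 := opp_three h h.m12 (Δ.δ_symm_simple (adj hy hyx)) (adj hx' hne) (adj hy' hyx') (h1 hy) (h2 hy')
  exact T_eq (rs (resL hy)) h3

/-! ### The residues `{2, 3}` and `{3, 4}` -/

theorem T2_of_T23 {x y : C} (hy : y ∈ Δ.Pan i3 x) (hx : Δ.Res {i2, i3} x ⊆ F) : Δ.Pan i2 y ⊆ F :=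
  T1_of_T (Set.mem_insert _ _) (T_eq (resR hy) hx)

/-- all chambers of `Pan 3 x` have `T_2` -/
theorem T23_of_all {x : C} (hx : ∀ y ∈ Δ.Pan i3 x, Δ.Pan i2 y ⊆ F) : Δ.Res {i2, i3} x ⊆ F := by
  obtain ⟨y, hy, hyx⟩ := other h.thick i3 x
  exact h.b1' x y hy hyx (hx x (Δ.self_mem_Pan _ _)) (hx y hy)

theorem la34_1 {x : C} (hx : x ∈ F) : ∀ y ∈ Δ.Res {i3, i4} x, ∃ y' ∈ Δ.Pan i3 y, Δ.Pan i2 y' ⊆ F := fun y hy =>
  h.b1 y (res34_F h hx hy)

theorem la34_2 {x : C} : ∀ y ∈ Δ.Res {i3, i4} x, ∀ y' ∈ Δ.Pan i3 y, y' ≠ y → Δ.Pan i2 y ⊆ F → Δ.Pan i2 y' ⊆ F →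
    ∀ y'' ∈ Δ.Pan i3 y, Δ.Pan i2 y'' ⊆ F := fun y _ y' hy' hne h1 h2 _ hy'' =>
  T2_of_T23 h hy'' (h.b1' y y' hy' hne h1 h2)

theorem B2a {x : C} (hx : Δ.Pan i2 x ⊆ F) : ∃ x' ∈ Δ.Pan i4 x, Δ.Res {i2, i3} x' ⊆ F := by
  obtain ⟨x', hx', h1⟩ := la2a (V := fun y => Δ.Pan i2 y ⊆ F) h.thick h.m34 (fun y hy y' hy' => inv24 h hy' hy)
    (la34_1 h (self_of_T1 hx)) (la34_2 h) hx
  exact ⟨x', hx', T23_of_all h h1⟩

/-- two symplecta on a flag (point, line) : all -/
theorem B2b0 {x x' : C} (hx' : x' ∈ Δ.Pan i4 x) (hne : x' ≠ x) (h1 : Δ.Res {i2, i3} x ⊆ F)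
    (h2 : Δ.Res {i2, i3} x' ⊆ F) : ∀ y ∈ Δ.Res {i3, i4} x, Δ.Res {i2, i3} y ⊆ F := by
  have h3 := la2b (V := fun y => Δ.Pan i2 y ⊆ F) h.thick h.m34 (fun y hy y' hy' => inv24 h hy' hy)
    (la34_2 h) hx' hne (fun y hy => T2_of_T23 h hy h1) (fun y hy => T2_of_T23 h hy h2)
  intro y hy
  exact T23_of_all h fun z hz => h3 z (rt hy (resL hz))

theorem B2b {x x' : C} (hx' : x' ∈ Δ.Pan i4 x) (hne : x' ≠ x) (h1 : Δ.Res {i2, i3} x ⊆ F)
    (h2 : Δ.Res {i2, i3} x' ⊆ F) : Δ.Res {i2, i3, i4} x ⊆ F := by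
  have key : ∀ y ∈ Δ.Res {i2, i3, i4} x, ∀ y' ∈ Δ.Pan i4 y, Δ.Res {i2, i3} y' ⊆ F := by
    intro y hy
    refine Δ.Res_induction (p := fun y => ∀ y' ∈ Δ.Pan i4 y, Δ.Res {i2, i3} y' ⊆ F) ?_ ?_ hy
    · intro y' hy'
      exact B2b0 h hx' hne h1 h2 y' (resR hy')
    · intro z _ z' j hj hzz' hz w hw
      rcases hj with rfl | rfl | rfl
      · obtain ⟨w', e1, e2, _⟩ := tr h.m24 hw (ps (pan hzz'))
        exact T_eq (rs (resL e1)) (hz w' e2)
      · obtain ⟨u, hu, huz⟩ := other h.thick i4 z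
        exact B2b0 h hu huz (hz z (Δ.self_mem_Pan _ _)) (hz u hu) w (rt (resL (pan hzz')) (resR hw))
      · exact hz w (pt (pan hzz') hw)
  intro y hy
  exact self_of_T (key y hy y (Δ.self_mem_Pan _ _))

theorem climb {x : C} (hx : x ∈ F) : ∃ x' ∈ Δ.Res {i3, i4} x, Δ.Res {i2, i3} x' ⊆ F := by
  obtain ⟨a, ha, h1⟩ := h.b1 x hx
  obtain ⟨b, hb, h2⟩ := B2a h h1
  exact ⟨b, rt (resL ha) (resR hb), h2⟩

/-- two symplecta in a residue `{3, 4}` -/
theorem B0 {x w : C} (hw : w ∈ Δ.Res {i3, i4} x) (h1 : Δ.Res {i2, i3} x ⊆ F) (h2 : Δ.Res {i2, i3} w ⊆ F) :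
    Δ.Res {i2, i3, i4} x ⊆ F ∨ w ∈ Δ.Pan i3 x := by
  obtain ⟨a, ha, b, hb, hwb⟩ := join3 h.m34 hw
  by_cases hab : b = a
  · subst hab
    exact Or.inr (pt ha hwb)
  · left
    have h3 := B2b h hb hab (T_eq (resR ha) h1) (T_eq (rs (resR hwb)) h2)
    exact T_eq (rs (pr (by simp) ha)) h3

theorem B3 {x x' : C} (h1 : Δ.Res {i2, i3} x ⊆ F) (h2 : Δ.Res {i2, i3} x' ⊆ F)
    (hx' : x' ∈ Δ.Res {i2, i3, i4} x) : Δ.Res {i2, i3, i4} x ⊆ F ∨ x' ∈ Δ.Res {i2, i3} x := by
  by_cases hD : Δ.Res {i2, i3, i4} x ⊆ F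
  · exact Or.inl hD
  right
  have h23 : ({i2, i3} : Set I) ⊆ {i2, i3, i4} := by
    intro j hj
    rcases hj with rfl | rfl <;> simp
  have h34 : ({i3, i4} : Set I) ⊆ {i2, i3, i4} := by
    intro j hj
    rcases hj with rfl | rfl <;> simp
  have key : ∀ w ∈ Δ.Res {i3, i4} x', Δ.Res {i2, i3} w ⊆ F → w ∈ Δ.Res {i2, i3} x := by
    refine conn (p := fun y => ∀ w ∈ Δ.Res {i3, i4} y, Δ.Res {i2, i3} w ⊆ F → w ∈ Δ.Res {i2, i3} x) h.conv
      (self_of_T h1) (self_of_T h2) hx' ?_ ?_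
    · intro w hw hTw
      rcases B0 h hw h1 hTw with h3 | h3
      · exact absurd h3 hD
      · exact resR h3
    · intro y hyF z hzF hyR j hj hzy hne hy w hw hTw
      rcases hj with rfl | rfl | rfl
      · -- `y -2- z`
        have hT2 : Δ.Pan j y ⊆ F := h.uni j y z hyF hzF hzy hne
        obtain ⟨y', hy', hTy'⟩ := B2a h hT2
        have e1 := hy y' (resR hy') hTy'
        obtain ⟨z', e2, e3, _⟩ := tr h.m24 hy' hzy
        have e4 : z' ∈ Δ.Res {j, i3} x := rt e1 (resL e2)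
        have e5 : Δ.Res {j, i3} z' ⊆ F := T_eq (resL e2) hTy'
        rcases B0 h (rt (rs (resR e3)) hw) e5 hTw with h3 | h3
        · exact absurd (T_eq (rs (Δ.Res_mono h23 x e4)) h3) hD
        · exact rt e4 (resR h3)
      · exact hy w (rt (resL hzy) hw) hTw
      · exact hy w (rt (resR hzy) hw) hTw
  exact key x' (Δ.self_mem_Res _ _) h2

theorem G2 {x x' : C} (hx' : x' ∈ Δ.Pan i1 x) (hne : x' ≠ x) (h1 : Δ.Res {i2, i3} x ⊆ F)
    (h2 : Δ.Res {i2, i3} x' ⊆ F) : ∀ z ∈ Δ.Pan i1 x, Δ.Res {i2, i3} z ⊆ F := by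
  intro z hz
  refine T23_of_all h fun z3 hz3 => ?_
  obtain ⟨x3, e1, e2, _⟩ := tr h.m13 hz3 (ps hz)
  obtain ⟨x3', e3, e4, _⟩ := tr h.m13 hz3 (pt (ps hz) hx')
  have hne3 : x3' ≠ x3 := by
    rintro rfl
    exact hne (pan_inter (ne_of_two h.m13) hx' (pt e2 (ps e4)))
  have h3 := C3 h (pt (ps e1) e3) hne3 (T2_of_T23 h e2 h1) (T2_of_T23 h e4 h2)
  exact T1_of_T (by simp) (T_eq (resL (ps e1)) h3)

theorem G2' {x x' : C} (hx' : x' ∈ Δ.Pan i1 x) (hne : x' ≠ x) (h1 : Δ.Res {i2, i3, i4} x ⊆ F)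
    (h2 : Δ.Res {i2, i3, i4} x' ⊆ F) : ∀ z ∈ Δ.Pan i1 x, Δ.Res {i2, i3, i4} z ⊆ F := by
  have h23 : ({i2, i3} : Set I) ⊆ {i2, i3, i4} := by
    intro j hj
    rcases hj with rfl | rfl <;> simp
  have key : ∀ x4 ∈ Δ.Pan i4 x, ∀ z ∈ Δ.Pan i1 x4, Δ.Res {i2, i3} z ⊆ F := by
    intro x4 hx4 z hz
    obtain ⟨x4', e1, e2, e3, e4⟩ := tr h.m14 hx4 hx'
    refine G2 h e1 (e4 hne) ?_ ?_ z hz
    · exact T_mono h23 (T_eq (pr (by simp) hx4) h1)
    · exact T_mono h23 (T_eq (pr (by simp) e2) h2)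
  intro z hz
  obtain ⟨z4, hz4, hzz4⟩ := other h.thick i4 z
  obtain ⟨x4, e1, e2, _⟩ := tr h.m14 hz4 (ps hz)
  exact B2b h hz4 hzz4 (key x (Δ.self_mem_Pan _ _) z hz) (key x4 e2 z4 (ps e1))

theorem L1 {x : C} (hx : ∀ y ∈ Δ.Pan i1 x, Δ.Res {i2, i3} y ⊆ F) :
    ∃ x' ∈ Δ.Pan i1 x, Δ.Res {i2, i3, i4} x' ⊆ F := by
  obtain ⟨x1, hx1, hne1⟩ := other h.thick i4 x
  obtain ⟨x2, hx2, hne2⟩ := other h.thick i3 x1
  have hT1 : Δ.Pan i1 x ⊆ F := fun y hy => self_of_T (hx y hy)
  have hT1' : Δ.Pan i1 x2 ⊆ F := inv13 h hx2 (inv14 h hx1 hT1)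
  obtain ⟨x2', hx2', hT2⟩ := h.c2 x2 hT1'
  obtain ⟨x3, hx3, hT3⟩ := B2a h hT2
  obtain ⟨x1', e1, e2, hne3, _⟩ := tr h.m13 (ps hx2) hx2'
  -- `x1' -1- x1`, `x1' -3- x2'`
  obtain ⟨x', e3, e4, hne4, _⟩ := tr h.m14 (ps hx1) e1
  -- `x' -1- x`, `x' -4- x1'`
  have hne3 : x2' ≠ x1' := (hne3 hne2.symm).symm
  have hne4 : x1' ≠ x' := (hne4 hne1.symm).symm
  have hTx' := hx x' e3
  have hR : x3 ∈ Δ.Res {i3, i4} x' := rt (resR (ps e4)) (rt (resL (ps e2)) (resR hx3))
  rcases B0 h hR hTx' hT3 with h6 | h6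
  · exact ⟨x', e3, h6⟩
  · exfalso
    have h34 := ne_of_three h.m34
    exact no_swap h34.symm (by rw [sym h.m34]; omega) (adj (ps e4) hne4) (adj (ps e2) hne3) h6 (ps hx3)

end Cfsg.Agent.H864.F4
end

-- part: H864/F4/Deep
section
/-!
# S2451, F4 combinatorics: deep chambers, trivial symplecta (helper864)

`L2` : deep chambers exist; `G1`, `K1`, `K2`, `M1`, `M2` as in `tools/plans/S2451-F4.md`.
-/

set_option autoImplicit false
set_option linter.unusedSectionVars false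

namespace Cfsg.Agent.H864.F4

open Cfsg.Agent.Tits.Core Cfsg.Agent.Tits.Core.Bldg Cfsg.Agent.Tits.Exchange Cfsg.Agent.Tits
open Cfsg.Agent.H148.Cls

variable {I : Type*} {M : CoxeterMatrix I} {W : Type*} [Group W] {cs : CoxeterSystem M W} {C : Type*}
  {Δ : Bldg cs C} [Finite I] [Finite W] {i1 i2 i3 i4 : I} {F : Set C}

theorem s23 : ({i2, i3} : Set I) ⊆ {i2, i3, i4} := by
  intro j hj
  rcases hj with rfl | rfl <;> simp

theorem s34 : ({i3, i4} : Set I) ⊆ {i2, i3, i4} := by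
  intro j hj
  rcases hj with rfl | rfl <;> simp

theorem s12 : ({i1, i2} : Set I) ⊆ {i1, i2, i3} := by
  intro j hj
  rcases hj with rfl | rfl <;> simp

theorem s23' : ({i2, i3} : Set I) ⊆ {i1, i2, i3} := by
  intro j hj
  rcases hj with rfl | rfl <;> simp

variable (h : F4Set Δ i1 i2 i3 i4 F)

include h

/-- **Deep chambers exist.** -/
theorem L2 (hne : F.Nonempty) : ∃ x, Δ.Res {i2, i3, i4} x ⊆ F := by
  by_contra hno
  push Not at hno
  -- at most one `T_23` in a `1`-panel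
  have U1 : ∀ x x' : C, x' ∈ Δ.Pan i1 x → x' ≠ x → Δ.Res {i2, i3} x ⊆ F → ¬ Δ.Res {i2, i3} x' ⊆ F := by
    intro x x' hx' hne h1 h2
    obtain ⟨y, _, hy⟩ := L1 h (G2 h hx' hne h1 h2)
    exact hno y hy
  have m21 := sym h.m12
  have n12 := ne_of_three h.m12
  have n34 := ne_of_three h.m34
  obtain ⟨x0, hx0⟩ := hne
  obtain ⟨x00, _, hT00⟩ := climb h hx0
  obtain ⟨x, hx, hT1⟩ := h.c1 x00 (T1_of_T (by simp) hT00)
  have hT : Δ.Res {i2, i3} x ⊆ F := T_eq (resL hx) hT00
  -- another point on the line of `x`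
  obtain ⟨x', hx', hne'⟩ := other h.thick i1 x
  have hx'F : x' ∈ F := hT1 hx'
  obtain ⟨y', hy', hTy'⟩ := climb h hx'F
  obtain ⟨a', ha', b', hb', hyb'⟩ := join3 h.m34 hy'
  have hT2b' : Δ.Pan i2 b' ⊆ F := T2_of_T23 h (ps hyb') hTy'
  have hT2a' : Δ.Pan i2 a' ⊆ F := inv24 h (ps hb') hT2b'
  obtain ⟨a, ha1, ha2, ha3, _⟩ := tr h.m13 ha' (ps hx')
  -- `a -1- a'`, `a -3- x`
  have hTa : Δ.Res {i2, i3} a ⊆ F := T_eq (resR ha2) hT
  have haa' : a ≠ a' := by
    rintro rfl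
    exact hne' (pan_inter (ne_of_two h.m13) hx' (pt ha2 (ps ha')))
  have hT12 : Δ.Res {i1, i2} a ⊆ F := C3 h (ps ha1) haa'.symm (T1_of_T (by simp) hTa) hT2a'
  -- `r`
  obtain ⟨c, hc, hca⟩ := other h.thick i2 a
  obtain ⟨r, hr, hrc⟩ := other h.thick i1 c
  have hrR : r ∈ Δ.Res {i1, i2} a := rt (resR hc) (resL hr)
  have hT2r : Δ.Pan i2 r ⊆ F := T1_of_T (by simp) (T_eq hrR hT12)
  obtain ⟨r1, hr1, hTr1⟩ := B2a h hT2r
  obtain ⟨c1, e1, e2, e3, e4⟩ := tr h.m14 hr1 (ps hr)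
  -- `c1 -1- r1`, `c1 -4- c`
  obtain ⟨a1, e5, e6, e7, e8⟩ := tr h.m24 e2 (ps hc)
  -- `a1 -2- c1`, `a1 -4- a`
  have hT12' : Δ.Res {i1, i2} a1 ⊆ F := inv124 h e6 hT12
  obtain ⟨a2, ha2', hne2⟩ := other h.thick i3 a1
  have hT1a2 : Δ.Pan i1 a2 ⊆ F := inv13 h ha2' (T1_of_T (by simp) hT12')
  obtain ⟨a3, ha3', hT2a3⟩ := h.c2 a2 hT1a2
  obtain ⟨a4, e9, e10, e11, _⟩ := tr h.m13 (ps ha2') ha3'
  -- `a4 -1- a1`, `a4 -3- a3`
  have hT2a4 : Δ.Pan i2 a4 ⊆ F := T1_of_T (by simp) (T_eq (resL e9) hT12')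
  have hTa4 : Δ.Res {i2, i3} a4 ⊆ F := h.b1' a4 a3 (ps e10) (e11 hne2.symm).symm hT2a4 hT2a3
  have hR : r1 ∈ Δ.Res {i2, i1} a4 := by
    rw [Set.pair_comm]
    exact rt (resL (ps e9)) (rt (resR (ps e5)) (resL (ps e1)))
  obtain ⟨u, hu, v, hv, hrv⟩ := join3 m21 hR
  by_cases huv : v = u
  · subst huv
    have h1 : r1 ∈ Δ.Pan i2 a4 := pt hu hrv
    have g1 : Δ.δ a1 c1 = cs.simple i2 := adj (ps e5) (e8 hca.symm).symm
    have g2 : Δ.δ c1 r1 = cs.simple i1 := adj (ps e1) (e4 hrc.symm).symm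
    by_cases h2 : a4 = a1
    · subst h2
      have h3 := len2 n12.symm g1 g2
      have h4 := len_le (x := a4) h1
      have h5 := len_self (Δ := Δ) a4
      omega
    · have h3 := len3 n12 (by rw [h.m12]; omega) (adj (ps e9) (Ne.symm h2)) g1 g2
      have h4 := len_le (x := a4) h1
      have h5 := len_self (Δ := Δ) a4
      omega
  · exact U1 u v hv huv (T_eq (resL hu) hTa4) (T_eq (rs (resL hrv)) hTr1)

theorem G1 {x : C} (hx : ∀ y ∈ Δ.Res {i1, i2} x, Δ.Res {i2, i3} y ⊆ F) : Δ.Res {i1, i2, i3} x ⊆ F := by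
  obtain ⟨x1, h1, n1⟩ := other h.thick i1 x
  obtain ⟨x2, h2, n2⟩ := other h.thick i2 x1
  obtain ⟨x3, h3, n3⟩ := other h.thick i3 x2
  obtain ⟨x4, h4, n4⟩ := other h.thick i2 x3
  obtain ⟨y, h5, n5⟩ := other h.thick i1 x4
  have r2 : x2 ∈ Δ.Res {i1, i2} x := rt (resL h1) (resR h2)
  have hT2 := hx x2 r2
  obtain ⟨x2', h6, n6⟩ := other h.thick i1 x2
  have hT2' := hx x2' (rt r2 (resL h6))
  obtain ⟨x3', e1, e2, _, e4⟩ := tr h.m13 h3 h6
  have hT12 : Δ.Res {i1, i2} x3 ⊆ F := C3 h e1 (e4 n6) (T2_of_T23 h h3 hT2) (T2_of_T23 h e2 hT2')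
  have hy : y ∈ F := hT12 (rt (resR h4) (resL h5))
  exact h.g3 x y (hx x (Δ.self_mem_Res _ _)) hy
    (d5 h.m12 h.m23 h.m13 (adj h1 n1) (adj h2 n2) (adj h3 n3) (adj h4 n4) (adj h5 n5))

theorem G1' {x w : C} (hx : ∀ y ∈ Δ.Pan i1 x, Δ.Res {i2, i3} y ⊆ F) (hw : w ∈ Δ.Res {i1, i2} x)
    (hTw : Δ.Res {i2, i3} w ⊆ F) (hno : ∀ z ∈ Δ.Pan i1 x, w ∉ Δ.Pan i2 z) : Δ.Res {i1, i2, i3} x ⊆ F := by
  refine G1 h fun y hy => ?_
  have m21 := sym h.m12
  have hR : w ∈ Δ.Res {i2, i1} y := by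
    rw [Set.pair_comm]
    exact rt (rs hy) hw
  obtain ⟨u, hu, v, hv, hwv⟩ := join3 m21 hR
  have hTv : Δ.Res {i2, i3} v ⊆ F := T_eq (rs (resL hwv)) hTw
  by_cases huv : v = u
  · subst huv
    exact T_eq (rs (resL hu)) hTv
  have huR : u ∈ Δ.Res {i1, i2} x := rt hy (resR hu)
  obtain ⟨z, hz, z', hz', huz'⟩ := join3 h.m12 huR
  have hTz' : Δ.Res {i2, i3} z' ⊆ F := T_eq (resL hz') (hx z hz)
  have hvz : z' ≠ v := by
    rintro rfl
    exact hno z hz (pt hz' hwv)
  have h1 := G2 h (pt (ps hv) (ps huz')) hvz hTv hTz' u (ps hv)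
  exact T_eq (rs (resL hu)) h1

/-- symplecta of a deep plane are trivial -/
theorem DV {x : C} (hx : ∀ y ∈ Δ.Res {i1, i2} x, Δ.Res {i2, i3, i4} y ⊆ F) :
    ∀ x' ∈ Δ.Pan i4 x, Δ.Res {i1, i2, i3} x' ⊆ F := by
  intro x' hx'
  refine G1 h fun y' hy' => ?_
  obtain ⟨y, e1, e2, _⟩ := trRes (c12 h) (ps hx') hy'
  exact T_mono s23 (T_eq (rs (pr (by simp) e2)) (hx y e1))

/-- two trivial symplecta on a plane -/
theorem K2a {x x' : C} (hx' : x' ∈ Δ.Pan i4 x) (hne : x' ≠ x) (h1 : Δ.Res {i1, i2, i3} x ⊆ F)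
    (h2 : Δ.Res {i1, i2, i3} x' ⊆ F) : ∀ y ∈ Δ.Res {i1, i2} x, Δ.Res {i2, i3, i4} y ⊆ F := by
  intro y hy
  obtain ⟨y', e1, e2, e3⟩ := trRes (c12 h) hx' hy
  exact B2b h e2 (e3 hne) (T_mono s23' (T_eq (Δ.Res_mono s12 _ hy) h1))
    (T_mono s23' (T_eq (Δ.Res_mono s12 _ e1) h2))

theorem K2 {x x' : C} (hx' : x' ∈ Δ.Pan i4 x) (hne : x' ≠ x) (h1 : Δ.Res {i1, i2, i3} x ⊆ F)
    (h2 : Δ.Res {i1, i2, i3} x' ⊆ F) : ∀ x'' ∈ Δ.Pan i4 x, Δ.Res {i1, i2, i3} x'' ⊆ F :=
  DV h (K2a h hx' hne h1 h2)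

/-- `D_1` is invariant under `3`, `4` -/
theorem D1_inv {k : I} (hk : M i1 k = 2) (hk' : k = i3 ∨ k = i4) {x y : C} (hy : y ∈ Δ.Pan k x)
    (hx : ∀ z ∈ Δ.Pan i1 x, Δ.Res {i2, i3, i4} z ⊆ F) : ∀ z ∈ Δ.Pan i1 y, Δ.Res {i2, i3, i4} z ⊆ F := by
  intro z hz
  obtain ⟨w, e1, e2, _⟩ := tr hk (ps hy) hz
  have hmem : k ∈ ({i2, i3, i4} : Set I) := by rcases hk' with rfl | rfl <;> simp
  exact T_eq (rs (pr hmem e2)) (hx w e1)

theorem K1 {x : C} (hx : ∀ z ∈ Δ.Pan i1 x, Δ.Res {i2, i3, i4} z ⊆ F) :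
    ∃ x' ∈ Δ.Pan i4 x, Δ.Res {i1, i2, i3} x' ⊆ F := by
  have n12 := ne_of_three h.m12
  obtain ⟨x1, hx1, hne1⟩ := other h.thick i1 x
  have hT12 : Δ.Res {i1, i2} x ⊆ F := C3 h hx1 hne1 (T1_of_T (by simp) (hx x (Δ.self_mem_Pan _ _)))
    (T1_of_T (by simp) (hx x1 hx1))
  obtain ⟨b, hb, hbx⟩ := other h.thick i2 x
  obtain ⟨x2, hx2, hne2⟩ := other h.thick i1 b
  have hR : x2 ∈ Δ.Res {i1, i2} x := rt (resR hb) (resL hx2)
  obtain ⟨x3, hx3, hT3⟩ := B2a h (T1_of_T (by simp) (T_eq hR hT12) : Δ.Pan i2 x2 ⊆ F)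
  obtain ⟨b', e1, e2, e3, e4⟩ := tr h.m14 hx3 (ps hx2)
  -- `b' -1- x3`, `b' -4- b`
  obtain ⟨x', e5, e6, e7, e8⟩ := tr h.m24 e2 (ps hb)
  -- `x' -2- b'`, `x' -4- x`
  refine ⟨x', e6, G1' h (w := x3) ?_ (rt (resR (ps e5)) (resL (ps e1))) hT3 ?_⟩
  · intro y' hy'
    obtain ⟨y, f1, f2, _⟩ := tr h.m14 (ps e6) hy'
    exact T_mono s23 (T_eq (rs (pr (by simp) f2)) (hx y f1))
  · intro z hz hz'
    exact no_swap n12.symm (by rw [sym h.m12]; omega) (adj (ps e5) (e8 hbx.symm).symm) (adj (ps e1) (e4 hne2.symm).symm)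
      hz hz'

theorem M1 {y : C} (hV : Δ.Res {i1, i2, i3} y ⊆ F) (hD : Δ.Res {i2, i3, i4} y ⊆ F) :
    ∃ y' ∈ Δ.Pan i2 y, ∀ z ∈ Δ.Pan i1 y', Δ.Res {i2, i3, i4} z ⊆ F := by
  have n12 := ne_of_three h.m12
  obtain ⟨a, ha, hay⟩ := other h.thick i1 y
  obtain ⟨b, hb, hba⟩ := other h.thick i2 a
  have hbR : b ∈ Δ.Res {i1, i2} y := rt (resL ha) (resR hb)
  obtain ⟨b', hb', hDb'⟩ := L1 h (x := b) fun z hz =>
    T_mono s23' (T_eq (Δ.Res_mono s12 _ (rt hbR (resL hz))) hV)
  have hR : b' ∈ Δ.Res {i2, i1} y := by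
    rw [Set.pair_comm]
    exact rt hbR (resL hb')
  obtain ⟨u, hu, v, hv, hbv⟩ := join3 (sym h.m12) hR
  by_cases huv : v = u
  · exfalso
    subst huv
    have h1 : b' ∈ Δ.Pan i2 y := pt hu hbv
    have h4 := len_le (x := y) h1
    have h5 := len_self (Δ := Δ) y
    by_cases hbb : b' = b
    · subst hbb
      have h3 := len2 n12 (adj ha hay) (adj hb hba)
      omega
    · have h3 := len3 n12 (by rw [h.m12]; omega) (adj ha hay) (adj hb hba) (adj hb' hbb)
      omega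
  · refine ⟨u, hu, G2' h hv huv (T_eq (pr (by simp) hu) hD) (T_eq (rs (pr (by simp) hbv)) hDb')⟩

/-- two deep lines in a plane -/
theorem M2a {y y' : C} (hy' : y' ∈ Δ.Pan i2 y) (hne : y' ≠ y) (h1 : ∀ z ∈ Δ.Pan i1 y, Δ.Res {i2, i3, i4} z ⊆ F)
    (h2 : ∀ z ∈ Δ.Pan i1 y', Δ.Res {i2, i3, i4} z ⊆ F) : ∀ z ∈ Δ.Res {i1, i2} y, Δ.Res {i2, i3, i4} z ⊆ F :=
  la2b (V := fun z => Δ.Res {i2, i3, i4} z ⊆ F) h.thick h.m12 (fun _ hz _ hz' => T_eq (pr (by simp) hz') hz)
    (fun _ _ _ hz' hne h3 h4 => G2' h hz' hne h3 h4) hy' hne h1 h2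

theorem M2 {y y' : C} (hy' : y' ∈ Δ.Pan i2 y) (hne : y' ≠ y) (h1 : ∀ z ∈ Δ.Pan i1 y, Δ.Res {i2, i3, i4} z ⊆ F)
    (h2 : ∀ z ∈ Δ.Pan i1 y', Δ.Res {i2, i3, i4} z ⊆ F) : ∀ x' ∈ Δ.Pan i4 y, Δ.Res {i1, i2, i3} x' ⊆ F :=
  DV h (M2a h hy' hne h1 h2)

end Cfsg.Agent.H864.F4
end

-- part: H864/F4/Main
section
/-!
# S2451, F4 combinatorics: the alternative (helper864, task T2 of helper148)

`f4Set_main`.
-/

set_option autoImplicit false
set_option linter.unusedSectionVars false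

namespace Cfsg.Agent.H864.F4

open Cfsg.Agent.Tits.Core Cfsg.Agent.Tits.Core.Bldg Cfsg.Agent.Tits.Exchange Cfsg.Agent.Tits
open Cfsg.Agent.H148.Cls

variable {I : Type*} {M : CoxeterMatrix I} {W : Type*} [Group W] {cs : CoxeterSystem M W} {C : Type*}
  {Δ : Bldg cs C} [Finite I] [Finite W] {i1 i2 i3 i4 : I} {F : Set C}

variable (h : F4Set Δ i1 i2 i3 i4 F)

include h

/-! ### Case II : no trivial symplecton -/

theorem T1_res34 {x y : C} (hy : y ∈ Δ.Res {i3, i4} x) (hx : Δ.Pan i1 x ⊆ F) : Δ.Pan i1 y ⊆ F := by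
  refine Δ.Res_induction (p := fun y => Δ.Pan i1 y ⊆ F) hx ?_ hy
  intro z _ z' i hi hz hzF
  rcases hi with rfl | rfl
  · exact inv13 h (pan hz) hzF
  · exact inv14 h (pan hz) hzF

/-- `x` has a point equal or joined to the point of `P` -/
def Near (Δ : Bldg cs C) (i1 i2 i3 i4 : I) (F : Set C) (P x : C) : Prop :=
  ∃ x1 ∈ Δ.Res {i2, i3, i4} x, x1 ∈ F ∧ ∃ y ∈ Δ.Res {i2, i3, i4} P, x1 ∈ Δ.Pan i1 y

theorem near_step {P y x1 x2 x2' z z' a b : C} (hy : y ∈ Δ.Res {i2, i3, i4} P) (hx1 : x1 ∈ Δ.Pan i1 y)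
    (hx2 : x2 ∈ Δ.Res {i3, i4} x1) (hx2' : x2' ∈ Δ.Res {i3, i4} z) (hz' : z' ∈ Δ.Pan i1 z)
    (hT : Δ.Pan i1 x2 ⊆ F) (hT' : Δ.Pan i1 x2' ⊆ F) (ha : a ∈ Δ.Pan i3 x2) (hb : b ∈ Δ.Pan i2 a)
    (hb' : x2' ∈ Δ.Pan i3 b) : Near Δ i1 i2 i3 i4 F P z' := by
  obtain ⟨y'', e1, e2, _⟩ := trRes (c34 h) (ps hx1) (rt hx2 (resL ha))
  obtain ⟨x'', e3, e4, _⟩ := trRes (c34 h) hz' (rt hx2' (resL (ps hb')))
  have hTa : Δ.Pan i1 a ⊆ F := inv13 h ha hT
  have hTb : Δ.Pan i1 b ⊆ F := inv13 h (ps hb') hT'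
  have hy'' : y'' ∈ Δ.Res {i2, i3, i4} P := rt hy (Δ.Res_mono s34 _ e1)
  have hx'' : x'' ∈ Δ.Res {i2, i3, i4} z' := Δ.Res_mono s34 _ e3
  by_cases hab : b = a
  · subst hab
    exact ⟨x'', hx'', hTb e4, y'', hy'', pt (ps e2) e4⟩
  · have hT12 := C3' h hb hab hTa hTb
    have hR : x'' ∈ Δ.Res {i2, i1} y'' := by
      rw [Set.pair_comm]
      exact rt (resL (ps e2)) (rt (resR hb) (resL e4))
    obtain ⟨u, hu, v, hv, hxv⟩ := join3 (sym h.m12) hR
    refine ⟨v, rt hx'' (pr (by simp) (ps hxv)), hT12 ?_, u, rt hy'' (pr (by simp) hu), hv⟩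
    exact rt (resL e2) (rt (resR hu) (resL hv))

theorem near_all (hall : ∀ i : I, i = i1 ∨ i = i2 ∨ i = i3 ∨ i = i4) {P : C} (hP : Δ.Res {i2, i3, i4} P ⊆ F)
    (hno : ∀ x, ¬ Δ.Res {i1, i2, i3} x ⊆ F) {x : C} (hx : x ∈ F) : Near Δ i1 i2 i3 i4 F P x := by
  refine conn (p := fun x => Near Δ i1 i2 i3 i4 F P x) h.conv (J := Set.univ) (self_of_T hP) hx
    (by rw [Δ.Res_univ]; trivial) ⟨P, Δ.self_mem_Res _ _, self_of_T hP, P, Δ.self_mem_Res _ _, Δ.self_mem_Pan _ _⟩ ?_
  rintro z hzF z' hzF' _ j _ hzz' hne ⟨x1, hx1, hx1F, y, hy, hx1y⟩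
  have hj : j = i1 ∨ j ∈ ({i2, i3, i4} : Set I) := by
    rcases hall j with rfl | rfl | rfl | rfl
    · exact Or.inl rfl
    all_goals exact Or.inr (by simp)
  rcases hj with rfl | hj
  swap
  · exact ⟨x1, rt (rs (pr hj hzz')) hx1, hx1F, y, hy, hx1y⟩
  by_cases hxy : x1 = y
  · subst hxy
    exact ⟨z', Δ.self_mem_Res _ _, hzF', z, rt hy (rs hx1), hzz'⟩
  have hDy : Δ.Res {i2, i3, i4} y ⊆ F := T_eq hy hP
  have hDx1 : ¬ Δ.Res {i2, i3, i4} x1 ⊆ F := by
    intro hD
    obtain ⟨w, _, hw⟩ := K1 h (G2' h hx1y hxy hDy hD)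
    exact hno w hw
  have hT1 : Δ.Pan j x1 ⊆ F := T1_eq hx1y (h.uni j y x1 (self_of_T hDy) hx1F hx1y hxy)
  have hTz : Δ.Pan j z ⊆ F := h.uni j z z' hzF hzF' hzz' hne
  obtain ⟨x2, hx2, hTx2⟩ := climb h hx1F
  obtain ⟨x2', hx2', hTx2'⟩ := climb h hzF
  have hT1' := T1_res34 h hx2 hT1
  have hTz' := T1_res34 h hx2' hTz
  have hR : x2' ∈ Δ.Res {i2, i3, i4} x2 :=
    rt (rs (Δ.Res_mono s34 _ hx2)) (rt (rs hx1) (Δ.Res_mono s34 _ hx2'))
  rcases B3 h hTx2 hTx2' hR with hD | hR'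
  · exact absurd (T_eq (rs (Δ.Res_mono s34 _ hx2)) hD) hDx1
  rw [Set.pair_comm] at hR'
  obtain ⟨a, ha, b, hb, c, hc, hd⟩ := join4 (sym h.m23) hR'
  have hs := Δ.self_mem_Pan
  by_cases n1 : x2' = c
  · subst n1
    exact near_step h hy hx1y hx2 hx2' hzz' hT1' hTz' ha hb hc
  by_cases n2 : c = b
  · subst n2
    exact near_step h hy hx1y hx2 hx2' hzz' hT1' hTz' ha (pt hb hd) (hs i3 x2')
  by_cases n3 : b = a
  · subst n3
    exact near_step h hy hx1y hx2 hx2' hzz' hT1' hTz' (pt ha hc) hd (hs i3 x2')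
  exfalso
  obtain ⟨y'', e1, e2, e3⟩ := trRes (c34 h) (ps hx1y) (rt hx2 (resL ha))
  obtain ⟨x'', e4, e5, e6⟩ := trRes (c34 h) hzz' hx2'
  have hy'' : y'' ∈ Δ.Res {i2, i3, i4} P := rt hy (Δ.Res_mono s34 _ e1)
  refine hno y'' (h.g3 y'' x'' (T_mono s23 (T_eq hy'' hP)) (hTz' e5) ?_)
  exact d5 h.m12 h.m23 h.m13 (adj (ps e2) (e3 (Ne.symm hxy)).symm) (adj hb n3) (adj hc n2) (adj hd n1)
    (adj e5 (e6 hne))

theorem caseII (hall : ∀ i : I, i = i1 ∨ i = i2 ∨ i = i3 ∨ i = i4) {P : C} (hP : Δ.Res {i2, i3, i4} P ⊆ F)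
    (hno : ∀ x, ¬ Δ.Res {i1, i2, i3} x ⊆ F) {x : C} (hx : Δ.Res {i2, i3} x ⊆ F) :
    ∃ y ∈ Δ.Res {i2, i3} x, ∃ y' ∈ Δ.Pan i1 y, y' ∈ Δ.Res {i2, i3, i4} P := by
  obtain ⟨x1, hx1, hx1F, y, hy, hx1y⟩ := near_all h hall hP hno (self_of_T hx)
  by_cases hxy : x1 = y
  · subst hxy
    exact ⟨x, Δ.self_mem_Res _ _, x, Δ.self_mem_Pan _ _, rt hy (rs hx1)⟩
  have hDy : Δ.Res {i2, i3, i4} y ⊆ F := T_eq hy hP
  have hDx1 : ¬ Δ.Res {i2, i3, i4} x1 ⊆ F := by
    intro hD
    obtain ⟨w, _, hw⟩ := K1 h (G2' h hx1y hxy hDy hD)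
    exact hno w hw
  obtain ⟨x2, hx2, hTx2⟩ := climb h hx1F
  have hR : x2 ∈ Δ.Res {i2, i3, i4} x := rt hx1 (Δ.Res_mono s34 _ hx2)
  rcases B3 h hx hTx2 hR with hD | hR'
  · exact absurd (T_eq hx1 hD) hDx1
  obtain ⟨y'', e1, e2, _⟩ := trRes (c34 h) (ps hx1y) hx2
  exact ⟨x2, hR', y'', e2, rt hy (Δ.Res_mono s34 _ e1)⟩

/-! ### Case I : trivial symplecta -/

theorem D_of_V4 {x : C} (hx : ∀ x' ∈ Δ.Pan i4 x, Δ.Res {i1, i2, i3} x' ⊆ F) :
    ∀ y ∈ Δ.Res {i1, i2} x, Δ.Res {i2, i3, i4} y ⊆ F := by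
  obtain ⟨x', hx', hne⟩ := other h.thick i4 x
  exact K2a h hx' hne (hx x (Δ.self_mem_Pan _ _)) (hx x' hx')

theorem D1_of_V4 {x u : C} (hx : ∀ x' ∈ Δ.Pan i4 x, Δ.Res {i1, i2, i3} x' ⊆ F) (hu : u ∈ Δ.Pan i2 x) :
    ∀ z ∈ Δ.Pan i1 u, Δ.Res {i2, i3, i4} z ⊆ F := fun z hz => D_of_V4 h hx z (rt (resR hu) (resL hz))

theorem D1_inv3 {x y : C} (hy : y ∈ Δ.Pan i3 x) (hx : ∀ z ∈ Δ.Pan i1 x, Δ.Res {i2, i3, i4} z ⊆ F) :
    ∀ z ∈ Δ.Pan i1 y, Δ.Res {i2, i3, i4} z ⊆ F := D1_inv h h.m13 (Or.inl rfl) hy hx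

theorem D1_inv4 {x y : C} (hy : y ∈ Δ.Pan i4 x) (hx : ∀ z ∈ Δ.Pan i1 x, Δ.Res {i2, i3, i4} z ⊆ F) :
    ∀ z ∈ Δ.Pan i1 y, Δ.Res {i2, i3, i4} z ⊆ F := D1_inv h h.m14 (Or.inr rfl) hy hx

theorem V4_inv {k : I} (hk : k = i1 ∨ k = i2) {x y : C} (hy : y ∈ Δ.Pan k x)
    (hx : ∀ x' ∈ Δ.Pan i4 x, Δ.Res {i1, i2, i3} x' ⊆ F) : ∀ x' ∈ Δ.Pan i4 y, Δ.Res {i1, i2, i3} x' ⊆ F := by
  intro z hz
  have hm : M k i4 = 2 := by
    rcases hk with rfl | rfl
    · exact h.m14
    · exact h.m24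
  obtain ⟨w, e1, e2, _⟩ := tr hm hz (ps hy)
  have hmem : k ∈ ({i1, i2, i3} : Set I) := by rcases hk with rfl | rfl <;> simp
  exact T_eq (rs (pr hmem e1)) (hx w e2)

theorem V34_inv1 {x y : C} (hy : y ∈ Δ.Pan i1 x) (hx : ∀ x' ∈ Δ.Res {i3, i4} x, Δ.Res {i1, i2, i3} x' ⊆ F) :
    ∀ x' ∈ Δ.Res {i3, i4} y, Δ.Res {i1, i2, i3} x' ⊆ F := by
  intro z hz
  obtain ⟨w, e1, e2, _⟩ := trRes (c34 h) (ps hy) hz
  exact T_eq (rs (pr (by simp) e2)) (hx w e1)

omit h in
theorem V4_of_V34 {x y : C} (hx : ∀ x' ∈ Δ.Res {i3, i4} x, Δ.Res {i1, i2, i3} x' ⊆ F) (hy : y ∈ Δ.Res {i3, i4} x) :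
    ∀ x' ∈ Δ.Pan i4 y, Δ.Res {i1, i2, i3} x' ⊆ F := fun z hz => hx z (rt hy (resR hz))

theorem E3 {x : C} (hD : ∀ z ∈ Δ.Pan i1 x, Δ.Res {i2, i3, i4} z ⊆ F) (hV : Δ.Res {i1, i2, i3} x ⊆ F) :
    ∃ x' ∈ Δ.Pan i3 x, ∀ y ∈ Δ.Pan i4 x', Δ.Res {i1, i2, i3} y ⊆ F := by
  refine la2a (V := fun y => Δ.Res {i1, i2, i3} y ⊆ F) h.thick (sym h.m34)
    (fun y hy y' hy' => T_eq (pr (by simp) hy') hy) (fun y hy => ?_) (fun y _ y' hy' hne h1 h2 => K2 h hy' hne h1 h2) hV
  have h1 : ∀ z ∈ Δ.Pan i1 y, Δ.Res {i2, i3, i4} z ⊆ F := by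
    refine Δ.Res_induction (p := fun y => ∀ z ∈ Δ.Pan i1 y, Δ.Res {i2, i3, i4} z ⊆ F) hD ?_ hy
    intro z _ z' i hi hz hzD
    rcases hi with rfl | rfl
    · exact D1_inv4 h (pan hz) hzD
    · exact D1_inv3 h (pan hz) hzD
  exact K1 h h1

theorem E3' {x x' : C} (hx' : x' ∈ Δ.Pan i3 x) (hne : x' ≠ x) (h1 : ∀ y ∈ Δ.Pan i4 x, Δ.Res {i1, i2, i3} y ⊆ F)
    (h2 : ∀ y ∈ Δ.Pan i4 x', Δ.Res {i1, i2, i3} y ⊆ F) : ∀ y ∈ Δ.Res {i3, i4} x, Δ.Res {i1, i2, i3} y ⊆ F := by
  have h3 := la2b (V := fun y => Δ.Res {i1, i2, i3} y ⊆ F) h.thick (sym h.m34)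
    (fun y hy y' hy' => T_eq (pr (by simp) hy') hy) (fun y _ y' hy' hne h1 h2 => K2 h hy' hne h1 h2) hx' hne h1 h2
  intro y hy
  rw [Set.pair_comm] at hy
  exact h3 y hy

theorem E2 {x : C} (hx : ∀ x' ∈ Δ.Pan i4 x, Δ.Res {i1, i2, i3} x' ⊆ F) :
    ∃ x' ∈ Δ.Pan i2 x, ∀ y ∈ Δ.Res {i3, i4} x', Δ.Res {i1, i2, i3} y ⊆ F := by
  have n23 := ne_of_four h.m23
  have m32 := sym h.m23
  have hV := hx x (Δ.self_mem_Pan _ _)
  have hD := D_of_V4 h hx x (Δ.self_mem_Res _ _)
  obtain ⟨a, ha, hax⟩ := other h.thick i3 x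
  obtain ⟨b, hb, hba⟩ := other h.thick i2 a
  obtain ⟨y, hy, hyb⟩ := other h.thick i3 b
  have hyR : y ∈ Δ.Res {i2, i3} x := rt (resR ha) (rt (resL hb) (resR hy))
  obtain ⟨y', hy', hDy'⟩ := M1 h (T_eq (Δ.Res_mono s23' _ hyR) hV) (T_eq (Δ.Res_mono s23 _ hyR) hD)
  have hlen : 3 ≤ cs.length (Δ.δ x y') := by
    by_cases hyy : y' = y
    · subst hyy
      have := len3 n23.symm (by rw [m32]; omega) (adj ha hax) (adj hb hba) (adj hy hyb)
      omega
    · have := len4 m32 (adj ha hax) (adj hb hba) (adj hy hyb) (adj hy' hyy)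
      omega
  obtain ⟨u, hu, v, hv, w, hw, hyw⟩ := join4 h.m23 (rt hyR (resL hy'))
  have l0 := len_self (Δ := Δ) x
  have l1 := len_le (x := x) hu
  have huv : v ≠ u := by
    rintro rfl
    have l2 := len_le (x := x) (pt hu hw)
    have l3 := len_le (x := x) hyw
    omega
  have hvw : w ≠ v := by
    rintro rfl
    have l3 := len_le (x := x) (pt hv hyw)
    omega
  have D1w := D1_inv3 h (ps hyw) hDy'
  have D1u := D1_of_V4 h hx hu
  have D1v := D1_inv3 h hv D1u
  have V4v := M2 h hw hvw D1v D1w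
  have V4u := V4_inv h (Or.inr rfl) hu hx
  exact ⟨u, hu, E3' h hv huv V4u V4v⟩

theorem W2a {y1 y2 : C} (hy2 : y2 ∈ Δ.Pan i2 y1) (hne : y2 ≠ y1)
    (h1 : ∀ y ∈ Δ.Res {i3, i4} y1, Δ.Res {i1, i2, i3} y ⊆ F) (h2 : ∀ y ∈ Δ.Res {i3, i4} y2, Δ.Res {i1, i2, i3} y ⊆ F) :
    ∀ y3 ∈ Δ.Pan i2 y1, ∀ y ∈ Δ.Res {i3, i4} y3, Δ.Res {i1, i2, i3} y ⊆ F := by
  intro y3 hy3
  by_cases n1 : y3 = y1
  · subst n1; exact h1
  by_cases n2 : y3 = y2
  · subst n2; exact h2
  have n23 := ne_of_four h.m23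
  have m32 := sym h.m23
  have hV4y1 := V4_of_V34 h1 (Δ.self_mem_Res _ _)
  have hV4y3 := V4_inv h (Or.inr rfl) hy3 hV4y1
  obtain ⟨r, hr, n3⟩ := other h.thick i3 y3
  obtain ⟨t, ht, n4⟩ := other h.thick i2 r
  obtain ⟨m, hm, n5⟩ := other h.thick i3 t
  have key : ∀ y : C, y3 ∈ Δ.Pan i2 y → y3 ≠ y → (∀ z ∈ Δ.Res {i3, i4} y, Δ.Res {i1, i2, i3} z ⊆ F) →
      ∃ a b m', Δ.δ y a = cs.simple i3 ∧ Δ.δ a b = cs.simple i2 ∧ Δ.δ b m' = cs.simple i3 ∧ m' ∈ Δ.Pan i2 m ∧
        (∀ z ∈ Δ.Pan i1 m', Δ.Res {i2, i3, i4} z ⊆ F) := by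
    intro y hy3y hne3 hV
    have l4 := len4 h.m23 (adj hy3y hne3) (adj hr n3) (adj ht n4) (adj hm n5)
    have hR : m ∈ Δ.Res {i3, i2} y := by
      rw [Set.pair_comm]
      exact rt (resL hy3y) (rt (resR hr) (rt (resL ht) (resR hm)))
    obtain ⟨a, ha, b, hb, m', hm', hmm'⟩ := join4 m32 hR
    have l0 := len_self (Δ := Δ) y
    have e1 := len_le (x := y) ha
    have e2 := len_le (x := y) hb
    have e3 := len_le (x := y) hm'
    have e4 := len_le (x := y) hmm'
    have na : a ≠ y := by rintro rfl; omega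
    have nb : b ≠ a := by rintro rfl; omega
    have nm : m' ≠ b := by rintro rfl; omega
    refine ⟨a, b, m', adj ha na, adj hb nb, adj hm' nm, ps hmm', ?_⟩
    exact D1_inv3 h hm' (D1_of_V4 h (V4_of_V34 hV (resL ha)) hb)
  obtain ⟨a1, b1, m1, e1, e2, e3, e4, D1m1⟩ := key y1 hy3 n1 h1
  obtain ⟨a2, b2, m2, f1, f2, f3, f4, D1m2⟩ := key y2 (pt (ps hy2) hy3) n2 h2
  have hm12 : m2 ≠ m1 := by
    rintro rfl
    have l3 := len3 n23.symm (by rw [m32]; omega) f1 f2 f3
    have l4 := len4 h.m23 (Δ.δ_symm_simple (adj hy2 hne)) e1 e2 e3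
    omega
  have hDm := M2a h (pt (ps e4) f4) hm12 D1m1 D1m2
  have D1m : ∀ z ∈ Δ.Pan i1 m, Δ.Res {i2, i3, i4} z ⊆ F := fun z hz => hDm z (rt (resR (ps e4)) (resL hz))
  have D1t := D1_inv3 h (ps hm) D1m
  have D1r := D1_inv3 h hr (D1_of_V4 h hV4y3 (Δ.self_mem_Pan _ _))
  have V4r := M2 h ht n4 D1r D1t
  exact E3' h hr n3 hV4y3 V4r

theorem W2b {y : C} (hy : ∀ y' ∈ Δ.Pan i2 y, ∀ z ∈ Δ.Res {i3, i4} y', Δ.Res {i1, i2, i3} z ⊆ F) :
    ∀ z ∈ Δ.Res {i2, i3, i4} y, Δ.Res {i1, i2, i3} z ⊆ F := by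
  have key : ∀ z ∈ Δ.Res {i2, i3, i4} y, ∀ y' ∈ Δ.Pan i2 z, ∀ z' ∈ Δ.Res {i3, i4} y', Δ.Res {i1, i2, i3} z' ⊆ F := by
    intro z hz
    refine Δ.Res_induction (p := fun z => ∀ y' ∈ Δ.Pan i2 z, ∀ z' ∈ Δ.Res {i3, i4} y', Δ.Res {i1, i2, i3} z' ⊆ F)
      hy ?_ hz
    clear hz z
    intro z _ z1 j hj hzz1 hz w hw
    have hs := Δ.self_mem_Pan
    rcases hj with rfl | rfl | rfl
    · exact hz w (pt (pan hzz1) hw)
    · -- `z1 =3= z`
      have h0 := hz z (hs i2 z)
      have h1 : ∀ z' ∈ Δ.Res {j, i4} z1, Δ.Res {i1, i2, j} z' ⊆ F := fun z' hz' =>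
        h0 z' (rt (resL (pan hzz1)) hz')
      by_cases hwz : w = z1
      · subst hwz; exact h1
      have hV4w := V4_inv h (Or.inr rfl) hw (V4_of_V34 h1 (Δ.self_mem_Res _ _))
      obtain ⟨w2, hw2, nw2⟩ := other h.thick j w
      have hD : ∀ u ∈ Δ.Pan i2 w2, ∀ v ∈ Δ.Pan i1 u, Δ.Res {i2, j, i4} v ⊆ F := by
        intro u hu
        have hR : z ∈ Δ.Res {j, i2} u := by
          rw [Set.pair_comm]
          exact rt (resL (ps hu)) (rt (resR (ps hw2)) (rt (resL (ps hw)) (resR (ps (pan hzz1)))))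
        obtain ⟨a, ha, b, hb, c, hc, hzc⟩ := join4 (sym h.m23) hR
        have hVc := hz c (ps hzc)
        exact D1_inv3 h (ps ha) (D1_of_V4 h (V4_of_V34 hVc (resL (ps hc))) (ps hb))
      obtain ⟨u, hu, nu⟩ := other h.thick i2 w2
      have hV4w2 := M2 h hu nu (hD w2 (hs i2 w2)) (hD u hu)
      exact E3' h hw2 nw2 hV4w hV4w2
    · obtain ⟨w', e1, e2, _⟩ := tr h.m24 (ps (pan hzz1)) hw
      intro z' hz'
      exact hz w' e1 z' (rt (resR (ps e2)) hz')
  intro z hz
  exact key z hz z (Δ.self_mem_Pan _ _) z (Δ.self_mem_Res _ _)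

theorem E1 {x : C} (hx : ∀ x' ∈ Δ.Res {i3, i4} x, Δ.Res {i1, i2, i3} x' ⊆ F) :
    ∃ x', ∀ z ∈ Δ.Res {i2, i3, i4} x', Δ.Res {i1, i2, i3} z ⊆ F := by
  have hE : ∀ y ∈ Δ.Res {i2, i1} x, ∃ y' ∈ Δ.Pan i2 y, ∀ z ∈ Δ.Res {i3, i4} y', Δ.Res {i1, i2, i3} z ⊆ F := by
    intro y hy
    have h1 : ∀ z ∈ Δ.Pan i4 y, Δ.Res {i1, i2, i3} z ⊆ F := by
      refine Δ.Res_induction (p := fun y => ∀ z ∈ Δ.Pan i4 y, Δ.Res {i1, i2, i3} z ⊆ F)
        (V4_of_V34 hx (Δ.self_mem_Res _ _)) ?_ hy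
      intro z _ z' i hi hz hzD
      rcases hi with rfl | rfl
      · exact V4_inv h (Or.inr rfl) (pan hz) hzD
      · exact V4_inv h (Or.inl rfl) (pan hz) hzD
    exact E2 h h1
  obtain ⟨x', _, h1⟩ := la2a (V := fun y => ∀ x' ∈ Δ.Res {i3, i4} y, Δ.Res {i1, i2, i3} x' ⊆ F) h.thick (sym h.m12)
    (x := x) (fun y hy y' hy' => V34_inv1 h hy' hy) hE (fun y _ y' hy' hne h1 h2 => W2a h hy' hne h1 h2) hx
  exact ⟨x', W2b h h1⟩

theorem caseI {x : C} (hx : Δ.Res {i1, i2, i3} x ⊆ F) :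
    ∃ x', ∀ z ∈ Δ.Res {i2, i3, i4} x', Δ.Res {i1, i2, i3} z ⊆ F := by
  have hpan : ∀ {y z : C} {i : I}, i ∈ ({i1, i2, i3} : Set I) → z ∈ Δ.Pan i y → Δ.Res {i1, i2, i3} y ⊆ F →
      Δ.Res {i1, i2, i3} z ⊆ F := fun hi hz hy => T_eq (pr hi hz) hy
  obtain ⟨x1, hx1, hD1⟩ := L1 h (x := x) fun z hz => T_mono s23' (hpan (by simp) hz hx)
  have hV1 := hpan (by simp) hx1 hx
  obtain ⟨x2, hx2, hD2⟩ := M1 h hV1 hD1
  have hV2 := hpan (by simp) hx2 hV1
  obtain ⟨x3, hx3, hV3⟩ := E3 h hD2 hV2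
  obtain ⟨x4, hx4, hV4⟩ := E2 h hV3
  exact E1 h hV4

/-- **The alternative** (`F4Set.main` of task T2). -/
theorem f4Set_main (hall : ∀ i : I, i = i1 ∨ i = i2 ∨ i = i3 ∨ i = i4) (hne : F.Nonempty) :
    F4Main Δ i1 i2 i3 i4 F := by
  by_cases hV : ∃ x, Δ.Res {i1, i2, i3} x ⊆ F
  · obtain ⟨x, hx⟩ := hV
    exact Or.inl (caseI h hx)
  · push Not at hV
    obtain ⟨P, hP⟩ := L2 h hne
    exact Or.inr ⟨P, hP, fun x hx => caseII h hall hP hV hx⟩

end Cfsg.Agent.H864.F4
end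

-- part: H148/Cls/F4G
section
/-!
# S2451, helper148: type `F4`, `Dis Δ a b ⊆ {1}` : the fixed chambers form an `F4Set`; the cases of `F4Main`
-/

set_option autoImplicit false
set_option linter.unusedSectionVars false

open scoped Pointwise

namespace Cfsg.Agent.H148.Cls

open Cfsg.Agent.Tits.Core Cfsg.Agent.Tits.Core.Bldg Cfsg.Agent.Tits.Exchange Cfsg.Agent.Tits Cfsg.Agent.FixBN
open Cfsg.Agent.H197.Cls Cfsg.Agent.H234.CoxB Cfsg.Agent.H330.ClassProd

variable {I : Type*} {M : CoxeterMatrix I} {W : Type*} [Group W] {cs : CoxeterSystem M W} {C : Type*}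

local prefix:100 "ℓ" => cs.length

section Len

variable [F : OppRes.Cox cs]

theorem len_not_mem {J : Set I} {v : W} (hv : v ∈ WJ cs J) {k : I} (hk : k ∉ J) : ℓ (v * cs.simple k) = ℓ v + 1 := by
  rcases cs.length_mul_simple v k with h | h
  · exact h
  · exact absurd (F.descent_mem J v hv k (by omega)) hk

theorem len_not_mem_left {J : Set I} {v : W} (hv : v ∈ WJ cs J) {k : I} (hk : k ∉ J) : ℓ (cs.simple k * v) = ℓ v + 1 := by
  have h := len_not_mem (cs := cs) (inv_mem hv) hk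
  rw [cs.length_inv, ← cs.length_inv, mul_inv_rev, inv_inv, cs.inv_simple] at h
  exact h

variable {i1 i2 i3 : I} (h12 : orderOf (cs.simple i1 * cs.simple i2) = 3) (h23 : orderOf (cs.simple i2 * cs.simple i3) = 4)
  (h13 : cs.simple i1 * cs.simple i3 = cs.simple i3 * cs.simple i1) (n13 : i1 ≠ i3)

include h12 h23 h13 n13

/-- `s1 s2 s3` is minimal for the right action of `W_{12}` -/
theorem min123 : ∀ v ∈ WJ cs {i1, i2}, ℓ (cs.simple i1 * cs.simple i2 * cs.simple i3 * v) = 3 + ℓ v := by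
  have n12 : i1 ≠ i2 := ne_kl h12
  have n23 : i2 ≠ i3 := by
    rintro rfl
    rw [cs.simple_mul_simple_self, orderOf_one] at h23
    omega
  have m12 : cs.simple i1 * cs.simple i2 ∈ WJ cs {i1, i2} :=
    mul_mem (simple_mem_WJ cs (by simp)) (simple_mem_WJ cs (by simp))
  have hn3 : i3 ∉ ({i1, i2} : Set I) := by
    rintro (h | h)
    · exact n13 h.symm
    · exact n23 h.symm
  have hn1 : i1 ∉ ({i2, i3} : Set I) := by
    rintro (h | h)
    · exact n12 h
    · exact n13 h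
  have h3 : ℓ (cs.simple i1 * cs.simple i2 * cs.simple i3) = 3 := by
    rw [len_not_mem m12 hn3, len_two n12]
  have hmin := F.add_right {i1, i2} (cs.simple i1 * cs.simple i2 * cs.simple i3) (by
    rintro j (rfl | hj)
    · -- `s1 s2 s3 s1 = s1 s2 s1 s3`
      have e : cs.simple j * cs.simple i2 * cs.simple i3 * cs.simple j =
          alt cs j i2 3 * cs.simple i3 := by
        rw [alt_succ, alt_succ, alt_one, mul_assoc, ← h13]; simp only [mul_assoc]
      rw [e, len_not_mem (alt_mem j i2 3) hn3, wa h12 le_rfl, h3]; omega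
    · rw [Set.mem_singleton_iff] at hj
      subst hj
      have e : cs.simple i1 * cs.simple j * cs.simple i3 * cs.simple j = cs.simple i1 * alt cs j i3 3 := by
        rw [alt_succ, alt_succ, alt_one]; simp only [mul_assoc]
      rw [e, len_not_mem_left (alt_mem j i3 3) hn1, len_alt h23 (by omega), h3]; omega)
  intro v hv
  rw [hmin v hv, h3]

theorem len5 : ℓ (cs.simple i1 * cs.simple i2 * cs.simple i3 * cs.simple i2 * cs.simple i1) = 5 := by
  have h := min123 (cs := cs) h12 h23 h13 n13 (cs.simple i2 * cs.simple i1)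
    (mul_mem (simple_mem_WJ cs (by simp)) (simple_mem_WJ cs (by simp)))
  rw [len_two (ne_kl h12).symm] at h
  rw [mul_assoc]
  exact h

/-- **(W1)** -/
theorem w123 : wJ cs {i1, i2, i3} = wJ cs {i2, i3} *
    (cs.simple i1 * cs.simple i2 * cs.simple i3 * cs.simple i2 * cs.simple i1) ∧
    ℓ (wJ cs {i2, i3} * (cs.simple i1 * cs.simple i2 * cs.simple i3 * cs.simple i2 * cs.simple i1)) = 4 + 5 := by
  have n12 : i1 ≠ i2 := ne_kl h12
  have n23 : i2 ≠ i3 := by
    rintro rfl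
    rw [cs.simple_mul_simple_self, orderOf_one] at h23
    omega
  set m := cs.simple i1 * cs.simple i2 * cs.simple i3 * cs.simple i2 * cs.simple i1 with hm
  have hl5 : ℓ m = 5 := len5 h12 h23 h13 n13
  have b12 : cs.simple i1 * (cs.simple i2 * cs.simple i1) = cs.simple i2 * (cs.simple i1 * cs.simple i2) := by
    have := w3 (cs := cs) h12
    rw [alt_succ, alt_succ, alt_one, alt_succ, alt_succ, alt_one] at this
    exact this
  have hw23 : wJ cs {i2, i3} = alt cs i2 i3 4 := wJ_pair h23 (by decide)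
  have hw32 : wJ cs {i2, i3} = alt cs i3 i2 4 := by
    rw [Set.pair_comm]; exact wJ_pair (by rw [orderOf_comm', h23]) (by decide)
  have b23 : cs.simple i2 * (cs.simple i3 * (cs.simple i2 * cs.simple i3)) =
      cs.simple i3 * (cs.simple i2 * (cs.simple i3 * cs.simple i2)) := by
    have := hw23.symm.trans hw32
    rw [alt_succ, alt_succ, alt_succ, alt_one, alt_succ, alt_succ, alt_succ, alt_one] at this
    exact this
  -- `m` commutes with `s2` and `s3`
  have c2 : m * cs.simple i2 = cs.simple i2 * m := by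
    have e1 : m * cs.simple i2 = cs.simple i1 * cs.simple i2 * cs.simple i3 *
        (cs.simple i2 * (cs.simple i1 * cs.simple i2)) := by rw [hm]; simp only [mul_assoc]
    rw [e1, ← b12]
    calc cs.simple i1 * cs.simple i2 * cs.simple i3 * (cs.simple i1 * (cs.simple i2 * cs.simple i1))
        = cs.simple i1 * cs.simple i2 * (cs.simple i3 * cs.simple i1) * (cs.simple i2 * cs.simple i1) := by
          simp only [mul_assoc]
      _ = cs.simple i1 * cs.simple i2 * (cs.simple i1 * cs.simple i3) * (cs.simple i2 * cs.simple i1) := by rw [h13]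
      _ = (cs.simple i1 * (cs.simple i2 * cs.simple i1)) * cs.simple i3 * (cs.simple i2 * cs.simple i1) := by
          simp only [mul_assoc]
      _ = (cs.simple i2 * (cs.simple i1 * cs.simple i2)) * cs.simple i3 * (cs.simple i2 * cs.simple i1) := by rw [b12]
      _ = _ := by rw [hm]; simp only [mul_assoc]
  have c3 : m * cs.simple i3 = cs.simple i3 * m := by
    calc m * cs.simple i3 = cs.simple i1 * cs.simple i2 * cs.simple i3 * cs.simple i2 * (cs.simple i1 * cs.simple i3) := by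
          rw [hm]; simp only [mul_assoc]
      _ = cs.simple i1 * (cs.simple i2 * (cs.simple i3 * (cs.simple i2 * cs.simple i3))) * cs.simple i1 := by
          rw [h13]; simp only [mul_assoc]
      _ = cs.simple i1 * (cs.simple i3 * (cs.simple i2 * (cs.simple i3 * cs.simple i2))) * cs.simple i1 := by rw [b23]
      _ = (cs.simple i1 * cs.simple i3) * (cs.simple i2 * (cs.simple i3 * cs.simple i2)) * cs.simple i1 := by
          simp only [mul_assoc]
      _ = _ := by rw [h13, hm]; simp only [mul_assoc]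
  have cw : m * wJ cs {i2, i3} = wJ cs {i2, i3} * m := by
    rw [hw23, alt_succ, alt_succ, alt_succ, alt_one]
    calc m * (cs.simple i2 * (cs.simple i3 * (cs.simple i2 * cs.simple i3)))
        = (m * cs.simple i2) * (cs.simple i3 * (cs.simple i2 * cs.simple i3)) := by simp only [mul_assoc]
      _ = cs.simple i2 * (m * cs.simple i3) * (cs.simple i2 * cs.simple i3) := by rw [c2]; simp only [mul_assoc]
      _ = cs.simple i2 * cs.simple i3 * (m * cs.simple i2) * cs.simple i3 := by rw [c3]; simp only [mul_assoc]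
      _ = cs.simple i2 * cs.simple i3 * cs.simple i2 * (m * cs.simple i3) := by rw [c2]; simp only [mul_assoc]
      _ = _ := by rw [c3]; simp only [mul_assoc]
  have hm2 : ℓ (m * cs.simple i2) = 6 := by
    have e : m * cs.simple i2 = cs.simple i1 * cs.simple i2 * cs.simple i3 * alt cs i2 i1 3 := by
      rw [hm, alt_succ, alt_succ, alt_one]; simp only [mul_assoc]
    have h := min123 (cs := cs) h12 h23 h13 n13 (alt cs i2 i1 3) (by rw [Set.pair_comm]; exact alt_mem i2 i1 3)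
    rw [e, h, wb h12 le_rfl]
  have mem123 : ∀ k ∈ ({i1, i2, i3} : Set I), cs.simple k ∈ WJ cs {i1, i2, i3} := fun k hk => simple_mem_WJ cs hk
  have s1m := mem123 i1 (by simp)
  have s2m := mem123 i2 (by simp)
  have s3m := mem123 i3 (by simp)
  have hmm : m ∈ WJ cs {i1, i2, i3} := mul_mem (mul_mem (mul_mem (mul_mem s1m s2m) s3m) s2m) s1m
  have hwm : wJ cs {i2, i3} ∈ WJ cs {i1, i2, i3} := WJ_mono cs (by
    intro k hk; exact Or.inr hk) (F.wJ_mem _)
  have hl4 : ℓ (wJ cs {i2, i3}) = 4 := len_wJ_pair h23 (by decide)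
  have hn1 : i1 ∉ ({i2, i3} : Set I) := by
    rintro (h | h)
    · exact n12 h
    · exact n13 h
  have hm3 : ℓ (m * cs.simple i3) = 6 := by
    rcases cs.length_mul_simple m i3 with h | h
    · rw [h, hl5]
    · exfalso
      -- `m s3 = s1 w23 s1`
      have e : m * cs.simple i3 = cs.simple i1 * wJ cs {i2, i3} * cs.simple i1 := by
        rw [hw23, alt_succ, alt_succ, alt_succ, alt_one, hm]
        calc cs.simple i1 * cs.simple i2 * cs.simple i3 * cs.simple i2 * cs.simple i1 * cs.simple i3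
            = cs.simple i1 * cs.simple i2 * cs.simple i3 * cs.simple i2 * (cs.simple i1 * cs.simple i3) := by
              simp only [mul_assoc]
          _ = _ := by rw [h13]; simp only [mul_assoc]
      have h5 : ℓ (cs.simple i1 * wJ cs {i2, i3}) = 5 := by rw [len_not_mem_left (F.wJ_mem _) hn1, hl4]
      have h6 : cs.simple i1 * wJ cs {i2, i3} = wJ cs {i1, i2, i3} := by
        refine F.eq_wJ_of_descents (mul_mem s1m hwm) ?_
        rintro j (rfl | hj)
        · rw [← e, h5]; omega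
        · have h7 := F.len_wJ_mul (J := {i2, i3}) (v := cs.simple j) (simple_mem_WJ cs hj)
          rw [cs.length_simple, hl4] at h7
          have h8 := cs.length_mul_le (cs.simple i1) (wJ cs {i2, i3} * cs.simple j)
          rw [cs.length_simple, ← mul_assoc] at h8
          rw [h5]; omega
      have h7 := F.len_wJ_mul (J := {i1, i2, i3}) (v := m * cs.simple i2) (mul_mem hmm s2m)
      rw [← h6, h5, hm2] at h7
      omega
  -- `m` is minimal for the left action of `W_{23}`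
  have hadd : ℓ (m * wJ cs {i2, i3}) = 5 + 4 := by
    rw [F.add_right {i2, i3} m (by
      rintro j (rfl | hj)
      · rw [hm2, hl5]; omega
      · rw [Set.mem_singleton_iff] at hj
        subst hj
        rw [hm3, hl5]; omega) _ (F.wJ_mem _), hl5, hl4]
  have h9 : ℓ (wJ cs {i2, i3} * m) = 4 + 5 := by rw [← cw, hadd]
  refine ⟨?_, h9⟩
  symm
  refine eq_wJ_of_descentsL (mul_mem hwm hmm) ?_
  rintro j (rfl | hj)
  · have e : cs.simple j * (wJ cs {i2, i3} * m) = cs.simple i2 * cs.simple i3 * cs.simple i2 * cs.simple j * wJ cs {i2, i3} := by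
      rw [← cw, hm, ← mul_assoc, ← mul_assoc, ← mul_assoc, ← mul_assoc, ← mul_assoc, cs.simple_mul_simple_self, one_mul]
    have h7 := cs.length_mul_le (cs.simple i2 * cs.simple i3 * cs.simple i2 * cs.simple j) (wJ cs {i2, i3})
    have h8 := cs.length_mul_le (cs.simple i2 * cs.simple i3 * cs.simple i2) (cs.simple j)
    have h10 := cs.length_mul_le (cs.simple i2 * cs.simple i3) (cs.simple i2)
    have h11 := cs.length_mul_le (cs.simple i2) (cs.simple i3)
    rw [cs.length_simple] at h8 h10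
    rw [cs.length_simple, cs.length_simple] at h11
    rw [e, h9]
    omega
  · have h7 := F.len_mul_wJ (J := {i2, i3}) (v := cs.simple j) (simple_mem_WJ cs hj)
    rw [cs.length_simple, hl4] at h7
    have h8 := cs.length_mul_le (cs.simple j * wJ cs {i2, i3}) m
    rw [← mul_assoc, h9]
    omega

end Len

variable {Δ : Bldg cs C} {G : Type*} [Group G] [MulAction G C] {p : ℕ}

section Sys

variable (S : Sys Δ G p) [F : OppRes.Cox cs]

include S

/-- an elation of a plane with an axis has a centre -/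
theorem a2_axis {a : G} (hu : Uni Δ a) (hst : StF Δ a) {k l : I} (hm : orderOf (cs.simple k * cs.simple l) = 3) {x : C}
    (hx : ∀ y ∈ Δ.Pan k x, a • y = y) : ∃ x' ∈ Δ.Pan k x, ∀ y ∈ Δ.Pan l x', a • y = y := by
  have hm' : orderOf (cs.simple l * cs.simple k) = 3 := by rw [orderOf_comm', hm]
  obtain ⟨y, hy⟩ := exists_adj Δ x l
  obtain ⟨z, hz⟩ := exists_adj Δ y k
  have hxz : Δ.δ x z = alt cs l k 2 := by
    rw [alt_succ, alt_one]
    exact Δ.δ_mul_of hy hz (by rw [len_two (ne_kl hm').symm.symm, cs.length_simple, cs.length_simple])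
  -- the `l`-panel of `z` does not meet the `k`-panel of `x`
  have hfar : ∀ v ∈ Δ.Pan k x, v ∉ Δ.Pan l z := by
    intro v hv hvz
    have h1 : 2 ≤ ℓ (Δ.δ x v) := by
      rcases hvz with rfl | hvz
      · rw [hxz, wb hm (by omega)]
      · have h2 := alt_succ' (cs := cs) l k 2
        rw [lt_even l k (by decide)] at h2
        have h3 : Δ.δ x v = alt cs l k 3 := by
          rw [h2]
          exact Δ.δ_mul_of hxz hvz (by rw [← h2, wb hm le_rfl, wb hm (by omega), cs.length_simple])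
        rw [h3, wb hm le_rfl]; omega
    rcases hv with rfl | hv
    · rw [Δ.δ_self, cs.length_one] at h1; omega
    · rw [hv, cs.length_simple] at h1; omega
  -- the residue is stable
  have haz : a • z ∈ Δ.Res {k, l} z := by
    have h1 : z ∈ Δ.Res {k, l} x := by rw [mem_Res, hxz, Set.pair_comm]; exact alt_mem l k 2
    have h2 := S.smul_mem_Res (g := a) h1
    rw [hx x (Δ.self_mem_Pan k x)] at h2
    exact Δ.mem_Res_trans (Δ.mem_Res_symm h1) h2
  obtain ⟨x1, hx1, y1, hy1, h1⟩ := a2join hm haz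
  have hxx1 : x ∈ Δ.Res {l, k} x1 := by
    rw [Set.pair_comm]
    have h2 : x1 ∈ Δ.Res {k, l} x := by
      refine Δ.mem_Res_trans (y := z) (by rw [mem_Res, hxz, Set.pair_comm]; exact alt_mem l k 2)
        (Δ.Pan_subset_Res (by simp) z hx1)
    exact Δ.mem_Res_symm h2
  obtain ⟨u, hu1, v, hv1, huv⟩ := a2join hm' hxx1
  -- `u ∈ Pan k x1`, `v ∈ Pan k x`, `v ∈ Pan l u`
  have hav : a • v = v := hx v hv1
  have huv' : u ≠ v := by
    rintro rfl
    have h2 : x1 ∈ Δ.Pan k x := Δ.mem_Pan_trans hv1 (Δ.mem_Pan_symm hu1)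
    exact hfar x1 h2 hx1
  have hx1u : x1 ≠ u := by
    rintro rfl
    exact hfar v hv1 (Δ.mem_Pan_trans hx1 huv)
  have hy1u : y1 ≠ u := by
    rintro rfl
    have h2 : v ∈ Δ.Pan l (a • z) := Δ.mem_Pan_trans hy1 huv
    have h3 := smul_mem_Pan S (g := a⁻¹) h2
    rw [inv_smul_smul, inv_smul_eq_iff.2 hav.symm] at h3
    exact hfar v hv1 h3
  -- the panel of `x1` is stable or `u` is fixed
  have hau : a • u = u := by
    by_contra hau
    have g1 : a • u ∈ Δ.Pan l u := by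
      have h2 := smul_mem_Pan S (g := a) huv
      rw [hav] at h2
      exact Δ.mem_Pan_trans huv (Δ.mem_Pan_symm h2)
    have g2 : a • x1 ∈ Δ.Pan k (a • u) := smul_mem_Pan S (Δ.mem_Pan_symm hu1)
    have g3 : y1 ∈ Δ.Pan l (a • x1) := by
      have h2 := smul_mem_Pan S (g := a) hx1
      exact Δ.mem_Pan_trans (Δ.mem_Pan_symm h2) hy1
    have g4 : y1 ∈ Δ.Pan k u := Δ.mem_Pan_trans (Δ.mem_Pan_symm hu1) h1
    by_cases hay : a • x1 = y1
    · -- the panel of `x1` is stable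
      have h2 : a • x1 ∈ Δ.Pan k x1 := by rw [hay]; exact h1
      obtain ⟨w, hw, haw⟩ := hst.pan h2
      have hwu : w ≠ u := by
        rintro rfl
        exact hau haw
      have e1 : Δ.δ w u = cs.simple k := Δ.δ_eq_of_mem_Pan hw hu1 hwu
      have e2 : Δ.δ u v = cs.simple l := Δ.δ_eq_of_mem_Pan (Δ.self_mem_Pan l u) huv huv'
      refine hau (fix_conv S haw hav (Δ.δ_mul_of e1 e2 ?_ |>.trans (by rw [e1, e2])) (by
        rw [e1, e2, len_two (ne_kl hm), cs.length_simple, cs.length_simple]))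
      rw [len_two (ne_kl hm), cs.length_simple, cs.length_simple]
    · have e1 : Δ.δ u (a • u) = cs.simple l := Δ.δ_eq_of_mem_Pan (Δ.self_mem_Pan l u) g1 (Ne.symm hau)
      have e2 : Δ.δ (a • u) (a • x1) = cs.simple k :=
        Δ.δ_eq_of_mem_Pan (Δ.self_mem_Pan k _) g2 (fun h => hx1u (smul_left_cancel a h).symm)
      have e3 : Δ.δ (a • x1) y1 = cs.simple l := Δ.δ_eq_of_mem_Pan (Δ.self_mem_Pan l _) g3 hay
      have e12 : Δ.δ u (a • x1) = alt cs l k 2 := by
        rw [alt_succ, alt_one]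
        exact Δ.δ_mul_of e1 e2 (by rw [len_two (ne_kl hm').symm.symm, cs.length_simple, cs.length_simple])
      have h2 := alt_succ' (cs := cs) l k 2
      rw [lt_even l k (by decide)] at h2
      have e123 : Δ.δ u y1 = alt cs l k 3 := by
        rw [h2]
        exact Δ.δ_mul_of e12 e3 (by rw [← h2, wb hm le_rfl, wb hm (by omega), cs.length_simple])
      have h3 : ℓ (Δ.δ u y1) ≤ 1 := by
        rcases g4 with h4 | h4
        · rw [h4, Δ.δ_self, cs.length_one]; omega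
        · rw [h4, cs.length_simple]
      rw [e123, wb hm le_rfl] at h3
      omega
  exact ⟨v, hv1, hu l v u hav hau (Δ.mem_Pan_symm huv) huv'⟩

end Sys

end Cfsg.Agent.H148.Cls
end

-- part: H148/Cls/F4H
section
/-!
# S2451, helper148: type `F4`, `Dis Δ a b ⊆ {1}` : the fixed chambers form an `F4Set`
-/

set_option autoImplicit false
set_option linter.unusedSectionVars false

open scoped Pointwise

namespace Cfsg.Agent.H148.Cls

open Cfsg.Agent.Tits.Core Cfsg.Agent.Tits.Core.Bldg Cfsg.Agent.Tits.Exchange Cfsg.Agent.Tits Cfsg.Agent.FixBN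
open Cfsg.Agent.H197.Cls Cfsg.Agent.H234.CoxB Cfsg.Agent.H330.ClassProd

variable {I : Type*} {M : CoxeterMatrix I} {W : Type*} [Group W] {cs : CoxeterSystem M W} {C : Type*}

local prefix:100 "ℓ" => cs.length

theorem comm_of_two (cs : CoxeterSystem M W) {i j : I} (h : M i j = 2) :
    cs.simple i * cs.simple j = cs.simple j * cs.simple i := by
  have h1 := cs.simple_mul_simple_pow i j
  rw [h, pow_two] at h1
  have h2 : cs.simple i * cs.simple j = (cs.simple i * cs.simple j)⁻¹ := eq_inv_of_mul_eq_one_left h1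
  rw [mul_inv_rev, cs.inv_simple, cs.inv_simple] at h2
  exact h2

variable {Δ : Bldg cs C} {G : Type*} [Group G] [MulAction G C] {p : ℕ}

/-- the diagram `F4` -/
structure F4Dia (M : CoxeterMatrix I) (i1 i2 i3 i4 : I) : Prop where
  m12 : M i1 i2 = 3
  m23 : M i2 i3 = 4
  m34 : M i3 i4 = 3
  m13 : M i1 i3 = 2
  m14 : M i1 i4 = 2
  m24 : M i2 i4 = 2
  all : ∀ i, i = i1 ∨ i = i2 ∨ i = i3 ∨ i = i4

namespace F4Dia

variable {i1 i2 i3 i4 : I} (h : F4Dia M i1 i2 i3 i4)

include h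

theorem symm : F4Dia M i4 i3 i2 i1 where
  m12 := by rw [M.symmetric]; exact h.m34
  m23 := by rw [M.symmetric]; exact h.m23
  m34 := by rw [M.symmetric]; exact h.m12
  m13 := by rw [M.symmetric]; exact h.m24
  m14 := by rw [M.symmetric]; exact h.m14
  m24 := by rw [M.symmetric]; exact h.m13
  all i := by rcases h.all i with h | h | h | h <;> simp [h]

theorem n12 : i1 ≠ i2 := by
  rintro rfl
  have := h.m12
  rw [M.diagonal] at this; omega

theorem n13 : i1 ≠ i3 := by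
  rintro rfl
  have := h.m13
  rw [M.diagonal] at this; omega

theorem n14 : i1 ≠ i4 := by
  rintro rfl
  have := h.m14
  rw [M.diagonal] at this; omega

theorem c13 (cs : CoxeterSystem M W) : cs.simple i1 * cs.simple i3 = cs.simple i3 * cs.simple i1 := comm_of_two cs h.m13

end F4Dia

section Sys

variable (S : Sys Δ G p) [F : OppRes.Cox cs] [hp : Fact p.Prime]

include S

theorem f4set [Finite I] [Finite W] (hth : Δ.Thick) {a b : G} (hab : Good p a b) (hD : Dis Δ a b ⊆ {1})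
    {i1 i2 i3 i4 : I} (h : F4Dia M i1 i2 i3 i4) (h2 : Mv Δ i2 a) (h3 : Mv Δ i3 b) (n3 : ¬ Mv Δ i3 a)
    (n4 : ¬ Mv Δ i4 a) : F4Set Δ i1 i2 i3 i4 {x | a • x = x} where
  m12 := h.m12
  m23 := h.m23
  m34 := h.m34
  m13 := h.m13
  m14 := h.m14
  m24 := h.m24
  thick := hth
  cl3 x hx := fun y hy => fix_of_not_mv n3 hx hy
  cl4 x hx := fun y hy => fix_of_not_mv n4 hx hy
  uni i x y hx hy hyx hne := fun z hz => uni_left S hth hab hD i x y hx hy hyx hne z hz
  opp J x y hx hy hxy := fun z hz => fix_opp S hth (uni_left S hth hab hD) hx hy hxy z hz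
  conv x y z hl he hx hz := fix_conv S hx hz he (by rw [← he, hl])
  c1 x hx := by
    have hm : orderOf (cs.simple i2 * cs.simple i1) = 3 := by rw [ordM cs, M.symmetric, h.m12]
    exact a2_axis S (uni_left S hth hab hD) (stF_left S hth hab hD) hm hx
  c2 x hx := by
    have hm : orderOf (cs.simple i1 * cs.simple i2) = 3 := by rw [ordM cs, h.m12]
    exact a2_axis S (uni_left S hth hab hD) (stF_left S hth hab hD) hm hx
  b1 x hx := b1_ex S hth hab hD h2 h3 (by rw [ordM cs, M.symmetric, h.m23]) hx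
  b1' x x' hx' hne h1 h1' :=
    b1_two S hth (uni_left S hth hab hD) n3 (by rw [ordM cs, M.symmetric, h.m23]) hx' hne h1 h1'
  g3 x y hx hy hxy := by
    have h12 : orderOf (cs.simple i1 * cs.simple i2) = 3 := by rw [ordM cs, h.m12]
    have h23 : orderOf (cs.simple i2 * cs.simple i3) = 4 := by rw [ordM cs, h.m23]
    obtain ⟨hw, hl⟩ := w123 (cs := cs) h12 h23 (h.c13 cs) h.n13
    obtain ⟨x0, hx0⟩ := Δ.exists_δ x (wJ cs {i2, i3})⁻¹
    have hx0R : x0 ∈ Δ.Res {i2, i3} x := by rw [mem_Res, hx0]; exact inv_mem (F.wJ_mem _)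
    have hx0x : Δ.δ x0 x = wJ cs {i2, i3} := by rw [Δ.symm, hx0, inv_inv]
    have h5 := len5 (cs := cs) h12 h23 (h.c13 cs) h.n13
    have h4 : ℓ (wJ cs {i2, i3}) = 4 := len_wJ_pair h23 (by decide)
    have hx0y : Δ.δ x0 y = wJ cs {i1, i2, i3} := by
      rw [hw]
      exact Δ.δ_mul_of hx0x hxy (by rw [hl, h4, h5])
    have hx0F : a • x0 = x0 := hx hx0R
    intro z hz
    refine fix_opp S hth (uni_left S hth hab hD) hx0F hy hx0y z ?_
    refine Δ.mem_Res_trans (Δ.mem_Res_symm ?_) hz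
    exact Δ.Res_mono (fun k hk => Or.inr hk) x hx0R

end Sys

end Cfsg.Agent.H148.Cls
end

private theorem dce_2dde429268dc : _root_.True := by
  try have : _root_.True := by simp only [_root_.Cfsg.Agent.H148.Cls.TT.eq_1]
  exact _root_.True.intro
end

-- part: H772/Cls/StarC_mg
section
prune_inst 0x20003404500002000018001262001e42c6000190006b0000f1a00b420f8e7d6080412f21fcb00d0000f202c44030004811100410420000000a000000013d06a98002000211000004060009800002000000000000000000000000000000041000200400000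
set_option linter.all false
open scoped Cfsg.Agent.FastGrp

-- part: H772/Cls/Plane
section
/-!
# S2451, helper772: two theorems on finite projective planes

* `exists_absolute` : a correlation of a finite projective plane whose order is divisible by `p` has an absolute point;
* `plane_false` : two nontrivial collineations `α`, `β` for which `x, α x, α² x` are collinear for each `x` (and dually),
  such that all products `α⁻¹ β ^ h` behave like `p`-elements, do not exist.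
-/

set_option autoImplicit false

namespace Cfsg.Agent.H772.Cls

/-! ### Correlations -/

open Classical in
/-- a correlation has an absolute point -/
theorem exists_absolute {P L : Type*} [Fintype P] (inc : P → L → Prop) {p : ℕ} [Fact p.Prime] [Nonempty P]
    (hmeet : ∀ l m, ((Finset.univ.filter (fun y => inc y l ∧ inc y m)).card : ZMod p) = 1) (ρ : P → L) (ρ' : L → P)
    (hρ' : Function.Surjective ρ') (hinc : ∀ x l, inc x l ↔ inc (ρ' l) (ρ x)) : ∃ x, inc x (ρ x) := by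
  by_contra hcon
  push Not at hcon
  let J : Matrix P P (ZMod p) := fun _ _ => 1
  let X : Matrix P P (ZMod p) := fun x y => if inc y (ρ x) then 1 else 0
  have hXX : X * X = J := by
    ext x z
    obtain ⟨l, rfl⟩ := hρ' z
    rw [Matrix.mul_apply]
    show ∑ y, (if inc y (ρ x) then (1 : ZMod p) else 0) * (if inc (ρ' l) (ρ y) then 1 else 0) = 1
    refine Eq.trans ?_ (hmeet (ρ x) l)
    rw [Finset.natCast_card_filter]
    refine Finset.sum_congr rfl fun y _ => ?_
    rw [← hinc]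
    by_cases h1 : inc y (ρ x) <;> by_cases h2 : inc y l <;> simp [h1, h2]
  have hXJ : X * J = J := by
    ext x z
    rw [Matrix.mul_apply]
    show ∑ y, (if inc y (ρ x) then (1 : ZMod p) else 0) * 1 = 1
    refine Eq.trans ?_ (hmeet (ρ x) (ρ x))
    rw [Finset.natCast_card_filter]
    refine Finset.sum_congr rfl fun y _ => ?_
    by_cases h1 : inc y (ρ x) <;> simp [h1]
  have hJX : J * X = J := by
    rw [← hXX, mul_assoc, hXX, hXJ]
  have hJJ : J * J = J := by
    nth_rw 1 [← hXX]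
    rw [mul_assoc, hXJ, hXJ]
  have hnil : IsNilpotent (X - J) := by
    refine ⟨2, ?_⟩
    rw [pow_two, sub_mul, mul_sub, mul_sub, hXX, hXJ, hJX, hJJ]
    abel
  have htr := (Matrix.isNilpotent_trace_of_isNilpotent hnil).eq_zero
  rw [Matrix.trace_sub] at htr
  have h1 : X.trace = 0 := by
    rw [Matrix.trace]
    refine Finset.sum_eq_zero fun x _ => ?_
    exact if_neg (hcon x)
  have h2 : J.trace = 1 := by
    obtain ⟨x0⟩ := ‹Nonempty P›
    have h3 := congrFun (congrFun hJJ x0) x0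
    rw [Matrix.mul_apply] at h3
    have h4 : J.trace = ∑ j : P, J x0 j * J j x0 := by
      rw [Matrix.trace]
      refine Finset.sum_congr rfl fun x _ => ?_
      show (1 : ZMod p) = 1 * 1
      rw [one_mul]
    rw [h4, h3]
  rw [h1, h2] at htr
  simp at htr

/-! ### Collineations -/

section

variable {P L : Type*}

/-- the axioms of a projective plane which are used -/
structure Pl (inc : P → L → Prop) : Prop where
  join : ∀ p q, ∃ l, inc p l ∧ inc q l
  meet : ∀ l m, ∃ p, inc p l ∧ inc p m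
  uniq : ∀ {p q l m}, inc p l → inc q l → inc p m → inc q m → p = q ∨ l = m
  third : ∀ l p q, ∃ r, inc r l ∧ r ≠ p ∧ r ≠ q
  off : ∀ l, ∃ p, ¬ inc p l

/-- a collineation -/
structure Col (inc : P → L → Prop) where
  pt : P → P
  ln : L → L
  map : ∀ {p l}, inc p l → inc (pt p) (ln l)
  inj : Function.Injective pt
  /-- `x`, `α x`, `α² x` are on a line -/
  F1 : ∀ {p l}, pt p ≠ p → inc p l → inc (pt p) l → ln l = l
  F2 : ∀ {p l}, ln l ≠ l → inc p l → inc p (ln l) → pt p = p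

/-- two collineations such that `α⁻¹ γ` is like a `p`-element -/
structure Ag {inc : P → L → Prop} (α γ : Col inc) : Prop where
  Z1 : ∀ l, α.ln l = γ.ln l → ∃ p, inc p l ∧ α.pt p = γ.pt p
  Z2 : ∀ l, α.ln l = γ.ln l → ∀ {p q}, inc p l → inc q l → p ≠ q → α.pt p = γ.pt p → α.pt q = γ.pt q →
    ∀ r, inc r l → α.pt r = γ.pt r

variable {inc : P → L → Prop} (hP : Pl inc)

theorem Col.pt_of_lines (α : Col inc) {p : P} {l m : L} (hlm : l ≠ m) (hl : inc p l) (hm : inc p m) (h1 : α.ln l = l)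
    (h2 : α.ln m = m) (hP : Pl inc) : α.pt p = p := by
  have h3 := α.map hl
  have h4 := α.map hm
  rw [h1] at h3
  rw [h2] at h4
  rcases hP.uniq h3 hl h4 hm with h | h
  · exact h
  · exact absurd h hlm

theorem Col.ln_of_pts (α : Col inc) {p q : P} {l : L} (hpq : p ≠ q) (hp : inc p l) (hq : inc q l) (h1 : α.pt p = p)
    (h2 : α.pt q = q) (hP : Pl inc) : α.ln l = l := by
  have h3 := α.map hp
  have h4 := α.map hq
  rw [h1] at h3
  rw [h2] at h4
  rcases hP.uniq h3 h4 hp hq with h | h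
  · exact absurd h hpq
  · exact h

theorem ag_ln {α γ : Col inc} {p q : P} {l : L} (hpq : p ≠ q) (hp : inc p l) (hq : inc q l) (h1 : α.pt p = γ.pt p)
    (h2 : α.pt q = γ.pt q) (hP : Pl inc) : α.ln l = γ.ln l := by
  have h3 := γ.map hp
  have h4 := γ.map hq
  rw [← h1] at h3
  rw [← h2] at h4
  rcases hP.uniq (α.map hp) (α.map hq) h3 h4 with h | h
  · exact absurd (α.inj h) hpq
  · exact h

include hP

/-- **A common fixed point.** -/
theorem common {α γ : Col inc} (hag : Ag α γ) {Q : P} {m : L} (hQ : ¬ inc Q m) (hαQ : α.pt Q = Q) (hγQ : γ.pt Q = Q)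
    (hαm : α.ln m = m) (hγm : γ.ln m = m) : ∃ o, inc o m ∧ α.pt o = o ∧ γ.pt o = o := by
  obtain ⟨f, hf, hff⟩ := hag.Z1 m (by rw [hαm, hγm])
  by_cases hfα : α.pt f = f
  · exact ⟨f, hf, hfα, by rw [← hff, hfα]⟩
  have hfQ : f ≠ Q := by
    rintro rfl
    exact hQ hf
  obtain ⟨n, hfn, hQn⟩ := hP.join f Q
  have hnm : n ≠ m := by
    rintro rfl
    exact hQ hQn
  have hn : α.ln n = γ.ln n := ag_ln hfQ hfn hQn hff (by rw [hαQ, hγQ]) hP
  obtain ⟨y, hy, hyQ, hyf⟩ := hP.third n Q f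
  have hyy : α.pt y = γ.pt y := hag.Z2 n hn hfn hQn hfQ hff (by rw [hαQ, hγQ]) y hy
  have hyα : α.pt y ≠ y := by
    intro h
    exact hfα (α.pt_of_lines hnm hfn hf (α.ln_of_pts hyQ hy hQn h hαQ hP) hαm hP)
  obtain ⟨k, hk, hk'⟩ := hP.join y (α.pt y)
  have h1 : α.ln k = k := α.F1 hyα hk hk'
  have h2 : γ.ln k = k := γ.F1 (by rw [← hyy]; exact hyα) hk (by rw [← hyy]; exact hk')
  have hkm : k ≠ m := by
    rintro rfl
    rcases hP.uniq hy hfn hk hf with h | h
    · exact hyf h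
    · exact hnm h
  obtain ⟨o, ho, ho'⟩ := hP.meet k m
  exact ⟨o, ho', α.pt_of_lines hkm ho ho' h1 hαm hP, γ.pt_of_lines hkm ho ho' h2 hγm hP⟩

/-- a moved point on a stable line gives a fixed antiflag -/
theorem exists_antiflag (α : Col inc) {m : L} (hm : α.ln m = m) {x : P} (hx : inc x m) (hxα : α.pt x ≠ x) :
    ∃ Q, ¬ inc Q m ∧ α.pt Q = Q := by
  obtain ⟨y, hy⟩ := hP.off m
  obtain ⟨l, hxl, hyl⟩ := hP.join x y
  have hlm : l ≠ m := by
    rintro rfl
    exact hy hyl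
  have hl : α.ln l ≠ l := fun h => hxα (α.pt_of_lines hlm hxl hx h hm hP)
  obtain ⟨Q, hQ, hQ'⟩ := hP.meet l (α.ln l)
  have hQf : α.pt Q = Q := α.F2 hl hQ hQ'
  refine ⟨Q, fun h => ?_, hQf⟩
  rcases hP.uniq hxl hQ hx h with h1 | h1
  · rw [h1] at hxα
    exact hxα hQf
  · exact hlm h1

/-- agreement on a line and at a point off the line gives agreement everywhere -/
theorem agree_all {α γ : Col inc} (hag : Ag α γ) {Q : P} {m : L} (hQ : ¬ inc Q m) (hQQ : α.pt Q = γ.pt Q)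
    (hm : ∀ r, inc r m → α.pt r = γ.pt r) (x : P) : α.pt x = γ.pt x := by
  by_cases hx : x = Q
  · rw [hx, hQQ]
  obtain ⟨n, hxn, hQn⟩ := hP.join x Q
  obtain ⟨y, hyn, hym⟩ := hP.meet n m
  have hyQ : y ≠ Q := by
    rintro rfl
    exact hQ hym
  exact hag.Z2 n (ag_ln hyQ hyn hQn (hm y hym) hQQ hP) hyn hQn hyQ (hm y hym) hQQ x hxn

end

/-! ### The group -/

section

variable {P L : Type*} {inc : P → L → Prop} {H : Type*} [Group H] [MulAction H P] [MulAction H L]

/-- the conjugate of a collineation -/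
def Col.conj (hinc : ∀ (h : H) {p l}, inc p l → inc (h • p) (h • l)) (h : H) (α : Col inc) : Col inc where
  pt p := h • α.pt (h⁻¹ • p)
  ln l := h • α.ln (h⁻¹ • l)
  map {p l} hpl := hinc h (α.map (hinc h⁻¹ hpl))
  inj x y hxy := by
    have h1 := α.inj (smul_left_cancel h hxy)
    exact smul_left_cancel h⁻¹ h1
  F1 {p l} hne h1 h2 := by
    have h3 : α.pt (h⁻¹ • p) ≠ h⁻¹ • p := fun h4 => hne (by rw [h4, smul_inv_smul])
    have h4 := hinc h⁻¹ h2
    rw [inv_smul_smul] at h4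
    rw [α.F1 h3 (hinc h⁻¹ h1) h4, smul_inv_smul]
  F2 {p l} hne h1 h2 := by
    have h3 : α.ln (h⁻¹ • l) ≠ h⁻¹ • l := fun h4 => hne (by rw [h4, smul_inv_smul])
    have h4 := hinc h⁻¹ h2
    rw [inv_smul_smul] at h4
    rw [α.F2 h3 (hinc h⁻¹ h1) h4, smul_inv_smul]

/-- **The contradiction.** -/
theorem plane_false [Finite P] (hP : Pl inc) (hinc : ∀ (h : H) {p l}, inc p l → inc (h • p) (h • l))
    (htr : ∀ {Q : P} {m : L} {x y : P} {Q' : P} {m' : L} {x' y' : P}, ¬ inc Q m → inc x m → inc y m → x ≠ y →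
      ¬ inc Q' m' → inc x' m' → inc y' m' → x' ≠ y' → ∃ h : H, h • Q = Q' ∧ h • m = m' ∧ h • x = x' ∧ h • y = y')
    (α β : Col inc) (hag : ∀ h : H, Ag α (β.conj hinc h)) {p k : ℕ} (hp : p.Prime)
    (hcard : ∀ l, Nat.card {x : P // inc x l} = p ^ k + 1) (hα : ∃ m x, α.ln m = m ∧ inc x m ∧ α.pt x ≠ x)
    (hβ : ∃ m x, β.ln m = m ∧ inc x m ∧ β.pt x ≠ x) : False := by
  classical
  obtain ⟨m, x, hm, hx, hxα⟩ := hα
  obtain ⟨Q, hQ, hQα⟩ := exists_antiflag hP α hm hx hxα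
  obtain ⟨m', x', hm', hx', hxβ⟩ := hβ
  obtain ⟨Q', hQ', hQβ⟩ := exists_antiflag hP β hm' hx' hxβ
  have hαx : inc (α.pt x) m := by
    have := α.map hx
    rwa [hm] at this
  have hβx : inc (β.pt x') m' := by
    have := β.map hx'
    rwa [hm'] at this
  -- first position
  obtain ⟨h, hh1, hh2, hh3, hh4⟩ := htr hQ' hx' hβx (Ne.symm hxβ) hQ hx hαx (Ne.symm hxα)
  have e1 : h⁻¹ • Q = Q' := by rw [inv_smul_eq_iff, hh1]
  have e2 : h⁻¹ • m = m' := by rw [inv_smul_eq_iff, hh2]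
  have e3 : h⁻¹ • x = x' := by rw [inv_smul_eq_iff, hh3]
  set γ := β.conj hinc h with hγ
  have hγQ : γ.pt Q = Q := by
    show h • β.pt (h⁻¹ • Q) = Q
    rw [e1, hQβ, hh1]
  have hγm : γ.ln m = m := by
    show h • β.ln (h⁻¹ • m) = m
    rw [e2, hm', hh2]
  have hγx : γ.pt x = α.pt x := by
    show h • β.pt (h⁻¹ • x) = α.pt x
    rw [e3, hh4]
  obtain ⟨o, ho, hoα, hoγ⟩ := common hP (hag h) hQ hQα hγQ hm hγm
  have hox : o ≠ x := by
    rintro rfl
    exact hxα hoα
  have hall : ∀ y, α.pt y = γ.pt y := by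
    refine agree_all hP (hag h) hQ (by rw [hQα, hγQ]) ?_
    exact (hag h).Z2 m (by rw [hm, hγm]) ho hx hox (by rw [hoα, hoγ]) hγx.symm
  -- the conjugates
  have hconj : ∀ (g : H) (y : P), (β.conj hinc (g * h)).pt y = g • α.pt (g⁻¹ • y) := by
    intro g y
    show (g * h) • β.pt ((g * h)⁻¹ • y) = _
    rw [hall (g⁻¹ • y)]
    show _ = g • h • β.pt (h⁻¹ • g⁻¹ • y)
    rw [mul_inv_rev, mul_smul, mul_smul]
  have hconjm : ∀ g : H, g • m = m → (β.conj hinc (g * h)).ln m = m := by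
    intro g hg
    show (g * h) • β.ln ((g * h)⁻¹ • m) = m
    have h1 : g⁻¹ • m = m := by rw [inv_smul_eq_iff, hg]
    rw [mul_inv_rev, mul_smul, mul_smul, h1]
    show g • γ.ln m = m
    rw [hγm, hg]
  -- blocks
  let B : H → P → Prop := fun g y => inc y m ∧ α.pt (g⁻¹ • y) = g⁻¹ • y
  have hB1 : ∀ g : H, g • Q = Q → g • m = m → ∃ y, B 1 y ∧ B g y := by
    intro g hg1 hg2
    have h1 : g⁻¹ • Q = Q := by rw [inv_smul_eq_iff, hg1]
    obtain ⟨y, hy, hy1, hy2⟩ := common hP (hag (g * h)) hQ hQα (by rw [hconj, h1, hQα, hg1]) hm (hconjm g hg2)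
    rw [hconj] at hy2
    exact ⟨y, ⟨hy, by rw [inv_one, one_smul, hy1]⟩, hy, by rw [eq_inv_smul_iff, hy2]⟩
  have hB2 : ∀ g : H, g • Q = Q → g • m = m → ∀ y z, y ≠ z → B 1 y → B g y → B 1 z → B g z → ∀ t, B 1 t ↔ B g t := by
    rintro g hg1 hg2 y z hyz ⟨hy, hy1⟩ ⟨-, hy2⟩ ⟨hz, hz1⟩ ⟨-, hz2⟩ t
    rw [inv_one, one_smul] at hy1 hz1
    have h3 : ∀ w, inc w m → α.pt w = (β.conj hinc (g * h)).pt w :=
      (hag (g * h)).Z2 m (by rw [hm, hconjm g hg2]) hy hz hyz (by rw [hconj, hy2, smul_inv_smul, hy1])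
        (by rw [hconj, hz2, smul_inv_smul, hz1])
    constructor
    · rintro ⟨ht, ht1⟩
      rw [inv_one, one_smul] at ht1
      have h4 := h3 t ht
      rw [hconj, ht1] at h4
      exact ⟨ht, by rw [eq_inv_smul_iff, ← h4]⟩
    · rintro ⟨ht, ht1⟩
      have h4 := h3 t ht
      rw [hconj, ht1, smul_inv_smul] at h4
      exact ⟨ht, by rw [inv_one, one_smul, h4]⟩
  have hBg : ∀ g k : H, g • m = m → ∀ y, B k y ↔ B (g * k) (g • y) := by
    intro g k hg y
    have h1 : g⁻¹ • m = m := by rw [inv_smul_eq_iff, hg]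
    show (inc y m ∧ α.pt (k⁻¹ • y) = k⁻¹ • y) ↔ (inc (g • y) m ∧ α.pt ((g * k)⁻¹ • g • y) = (g * k)⁻¹ • g • y)
    have e : (g * k)⁻¹ • g • y = k⁻¹ • y := by rw [mul_inv_rev, mul_smul, inv_smul_smul]
    rw [e]
    refine and_congr_left fun _ => ⟨fun h2 => ?_, fun h2 => ?_⟩
    · have := hinc g h2
      rwa [hg] at this
    · have := hinc g⁻¹ h2
      rwa [h1, inv_smul_smul] at this
  -- two blocks which share two points
  have hB3 : ∀ g k : H, g • Q = Q → g • m = m → k • Q = Q → k • m = m → ∀ y z, y ≠ z → B g y → B k y → B g z →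
      B k z → ∀ t, B g t ↔ B k t := by
    intro g k hg1 hg2 hk1 hk2 y z hyz h1 h2 h3 h4 t
    have hg1' : g⁻¹ • Q = Q := by rw [inv_smul_eq_iff, hg1]
    have hg2' : g⁻¹ • m = m := by rw [inv_smul_eq_iff, hg2]
    rw [hBg g⁻¹ g hg2', hBg g⁻¹ k hg2', inv_mul_cancel] at *
    exact hB2 (g⁻¹ * k) (by rw [mul_smul, hk1, hg1']) (by rw [mul_smul, hk2, hg2']) (g⁻¹ • y) (g⁻¹ • z)
      (fun h => hyz (smul_left_cancel _ h)) h1 h2 h3 h4 _
  have hB4 : ∀ g k : H, g • Q = Q → g • m = m → k • Q = Q → k • m = m → ∃ y, B g y ∧ B k y := by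
    intro g k hg1 hg2 hk1 hk2
    have hg1' : g⁻¹ • Q = Q := by rw [inv_smul_eq_iff, hg1]
    have hg2' : g⁻¹ • m = m := by rw [inv_smul_eq_iff, hg2]
    obtain ⟨y, hy1, hy2⟩ := hB1 (g⁻¹ * k) (by rw [mul_smul, hk1, hg1']) (by rw [mul_smul, hk2, hg2'])
    rw [hBg g _ hg2] at hy1 hy2
    rw [mul_one] at hy1
    rw [mul_inv_cancel_left] at hy2
    exact ⟨_, hy1, hy2⟩
  -- the block of `1`
  have hxB : ¬ B 1 x := by
    rintro ⟨-, h1⟩
    rw [inv_one, one_smul] at h1
    exact hxα h1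
  have hoB : B 1 o := ⟨ho, by rw [inv_one, one_smul, hoα]⟩
  -- a second point
  obtain ⟨o', ho'B, hoo'⟩ : ∃ o', B 1 o' ∧ o ≠ o' := by
    by_contra hcon
    push Not at hcon
    obtain ⟨g, hg1, hg2, hg3, -⟩ := htr hQ ho hx hox hQ hx ho hox.symm
    obtain ⟨y, hy1, hy2⟩ := hB1 g hg1 hg2
    have h1 := hcon y hy1
    have hg2' : g⁻¹ • m = m := by rw [inv_smul_eq_iff, hg2]
    rw [hBg g⁻¹ g hg2', inv_mul_cancel] at hy2
    have h2 := hcon _ hy2
    rw [h1, eq_inv_smul_iff, ← h1, hg3] at h2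
    exact hox h2.symm
  have ho'm := ho'B.1
  -- blocks through two points
  have hB5 : ∀ y z, inc y m → inc z m → y ≠ z → ∃ g : H, g • Q = Q ∧ g • m = m ∧ B g y ∧ B g z := by
    intro y z hy hz hyz
    obtain ⟨g, hg1, hg2, hg3, hg4⟩ := htr hQ ho ho'm hoo' hQ hy hz hyz
    refine ⟨g, hg1, hg2, ?_, ?_⟩
    · have := (hBg g 1 hg2 o).1 hoB
      rwa [mul_one, hg3] at this
    · have := (hBg g 1 hg2 o').1 ho'B
      rwa [mul_one, hg4] at this
  -- counting
  have hfinP := Fintype.ofFinite P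
  let s : H → Finset P := fun g => Finset.univ.filter (fun y => B g y)
  have hs : ∀ g y, y ∈ s g ↔ B g y := fun g y => by simp [s]
  have hscard : ∀ g : H, g • m = m → (s g).card = (s 1).card := by
    intro g hg
    have hg' : g⁻¹ • m = m := by rw [inv_smul_eq_iff, hg]
    refine Finset.card_bij' (fun y _ => g⁻¹ • y) (fun y _ => g • y) ?_ ?_ ?_ ?_
    · intro y hy
      rw [hs] at hy ⊢
      rw [hBg g⁻¹ g hg', inv_mul_cancel] at hy
      exact hy
    · intro y hy
      rw [hs] at hy ⊢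
      rw [hBg g 1 hg, mul_one] at hy
      exact hy
    · intro y _
      exact smul_inv_smul _ _
    · intro y _
      exact inv_smul_smul _ _
  -- the blocks through `x` and the points of the first block
  have hchoice : ∀ y, B 1 y → ∃ g : H, g • Q = Q ∧ g • m = m ∧ B g x ∧ B g y := by
    intro y hy
    exact hB5 x y hx hy.1 (by rintro rfl; exact hxB hy)
  choose! g hg1 hg2 hgx hgy using hchoice
  have hcount : ((Finset.univ.filter (fun y => inc y m)).erase x).card = (s 1).card * ((s 1).card - 1) := by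
    have h1 : (Finset.univ.filter (fun y => inc y m)).erase x = (s 1).biUnion (fun y => (s (g y)).erase x) := by
      ext z
      simp only [Finset.mem_erase, Finset.mem_filter, Finset.mem_univ, true_and, Finset.mem_biUnion, hs]
      constructor
      · rintro ⟨hzx, hz⟩
        obtain ⟨k, hk1, hk2, hkx, hkz⟩ := hB5 x z hx hz (Ne.symm hzx)
        obtain ⟨y, hy1, hy2⟩ := hB1 k hk1 hk2
        refine ⟨y, hy1, hzx, ?_⟩
        have hyx : x ≠ y := by
          rintro rfl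
          exact hxB hy1
        exact (hB3 k (g y) hk1 hk2 (hg1 y hy1) (hg2 y hy1) x y hyx hkx (hgx y hy1) hy2 (hgy y hy1) z).1 hkz
      · rintro ⟨y, hy, hzx, hz⟩
        exact ⟨hzx, hz.1⟩
    rw [h1, Finset.card_biUnion]
    · rw [Finset.sum_congr rfl (g := fun _ => (s 1).card - 1), Finset.sum_const, smul_eq_mul]
      intro y hy
      rw [hs] at hy
      rw [Finset.card_erase_of_mem ((hs _ _).2 (hgx y hy)), hscard _ (hg2 y hy)]
    · intro y hy y' hy' hne
      rw [Finset.mem_coe, hs] at hy hy'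
      rw [Function.onFun, Finset.disjoint_left]
      intro z hz hz'
      rw [Finset.mem_erase, hs] at hz hz'
      have h2 := hB3 (g y) (g y') (hg1 y hy) (hg2 y hy) (hg1 y' hy') (hg2 y' hy') x z (Ne.symm hz.1) (hgx y hy)
        (hgx y' hy') hz.2 hz'.2
      have h3 : B (g y) y' := (h2 y').2 (hgy y' hy')
      have hone : (1 : H) • Q = Q := one_smul _ _
      have hone' : (1 : H) • m = m := one_smul _ _
      exact hxB ((hB3 (g y) 1 (hg1 y hy) (hg2 y hy) hone hone' y y' hne (hgy y hy) hy h3 hy' x).1 (hgx y hy))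
  -- the arithmetic
  have hq : (Finset.univ.filter (fun y => inc y m)).card = p ^ k + 1 := by
    rw [← hcard m, Nat.card_eq_fintype_card, Fintype.card_subtype]
  have hxmem : x ∈ Finset.univ.filter (fun y => inc y m) := by simp [hx]
  rw [Finset.card_erase_of_mem hxmem, hq, Nat.add_sub_cancel] at hcount
  have h2le : 2 ≤ (s 1).card := by
    have h1 : ({o, o'} : Finset P) ⊆ s 1 := by
      intro y hy
      rw [Finset.mem_insert, Finset.mem_singleton] at hy
      rw [hs]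
      rcases hy with rfl | rfl
      · exact hoB
      · exact ho'B
    have h2 := Finset.card_le_card h1
    rwa [Finset.card_pair hoo'] at h2
  obtain ⟨f, hf⟩ : ∃ f, f = (s 1).card := ⟨_, rfl⟩
  rw [← hf] at hcount h2le
  have hd1 : f ∣ p ^ k := ⟨_, hcount⟩
  have hd2 : f - 1 ∣ p ^ k := ⟨f, by rw [hcount, mul_comm]⟩
  obtain ⟨i, -, hi⟩ := (Nat.dvd_prime_pow hp).1 hd1
  obtain ⟨j, -, hj⟩ := (Nat.dvd_prime_pow hp).1 hd2
  have hf2 : f = 2 := by
    rcases Nat.eq_zero_or_pos j with rfl | hj0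
    · rw [pow_zero] at hj
      omega
    · exfalso
      have h1 : p ∣ f - 1 := by rw [hj]; exact dvd_pow_self p (by omega)
      have hi0 : i ≠ 0 := by
        rintro rfl
        rw [pow_zero] at hi
        omega
      have h2 : p ∣ f := by rw [hi]; exact dvd_pow_self p hi0
      have h3 := (Nat.dvd_sub h2 h1)
      have h4 : f - (f - 1) = 1 := by omega
      rw [h4] at h3
      exact hp.one_lt.ne' (Nat.dvd_one.1 h3)
  -- `M` has three points
  have hss : s 1 = (Finset.univ.filter (fun y => inc y m)).erase x := by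
    apply Finset.eq_of_subset_of_card_le
    · intro y hy
      rw [hs] at hy
      rw [Finset.mem_erase, Finset.mem_filter]
      exact ⟨by rintro rfl; exact hxB hy, Finset.mem_univ _, hy.1⟩
    · rw [Finset.card_erase_of_mem hxmem, hq, Nat.add_sub_cancel, hcount, ← hf, hf2]
  have h1 : α.pt x ∈ s 1 := by
    rw [hss, Finset.mem_erase, Finset.mem_filter]
    exact ⟨hxα, Finset.mem_univ _, hαx⟩
  rw [hs] at h1
  obtain ⟨-, h1⟩ := h1
  rw [inv_one, one_smul] at h1
  exact hxα (α.inj h1)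

end

end Cfsg.Agent.H772.Cls
end

-- part: H772/Cls/Res2
section
/-!
# S2451, helper772: the projective plane of a residue of type `{i, j}`, `m(i, j) = 3`

The points are the `j`-panels, the lines are the `i`-panels of the residue.
-/

set_option autoImplicit false
set_option linter.unusedSectionVars false

open scoped Pointwise

namespace Cfsg.Agent.H772.Cls

open Cfsg.Agent.Tits.Core Cfsg.Agent.Tits.Core.Bldg Cfsg.Agent.Tits.Exchange Cfsg.Agent.Tits Cfsg.Agent.FixBN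
open Cfsg.Agent.H197.Cls

variable {I : Type*} {M : CoxeterMatrix I} {W : Type*} [Group W] {cs : CoxeterSystem M W} {C : Type*}

local prefix:100 "ℓ" => cs.length

variable {Δ : Bldg cs C}

/-! ### Words -/

theorem ne_ij_ji [F : OppRes.Cox cs] {i j : I} (hM : M i j = 3) :
    cs.simple i * cs.simple j ≠ cs.simple j * cs.simple i := by
  obtain ⟨l2, l3, hb, hij⟩ := len_jij (cs := cs) hM
  intro h
  rw [mul_assoc, h, ← mul_assoc, cs.simple_mul_simple_self, one_mul] at l3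
  rw [cs.length_simple] at l3
  omega

theorem len_ij [F : OppRes.Cox cs] {i j : I} (hM : M i j = 3) : ℓ (cs.simple i * cs.simple j) = 2 := by
  rw [M.symmetric] at hM
  exact (len_jij (cs := cs) hM).1

/-- a pair of `i`, `j` panels meets in at most one chamber -/
theorem eq_of_Pan_Pan [F : OppRes.Cox cs] {i j : I} (hij : i ≠ j) {x y : C} (h1 : y ∈ Δ.Pan i x) (h2 : y ∈ Δ.Pan j x) :
    y = x := by
  rcases h1 with h1 | h1
  · exact h1
  · rcases h2 with h2 | h2
    · exact h2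
    · rw [h1] at h2
      exact absurd (F.inj h2) hij

section

variable {G : Type*} [Group G] [MulAction G C] {p : ℕ} (S : Sys Δ G p)

include S

/-- two chambers of the residue are joined by a gallery of type `j i j` (with repetitions) -/
theorem exists_gal [F : OppRes.Cox cs] {i j : I} (hM : M i j = 3) {c x y : C} (hx : x ∈ Δ.Res {i, j} c)
    (hy : y ∈ Δ.Res {i, j} c) : ∃ x' ∈ Δ.Pan j x, ∃ y' ∈ Δ.Pan j y, y' ∈ Δ.Pan i x' := by
  have hM' : M j i = 3 := by rw [M.symmetric]; exact hM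
  obtain ⟨x', hx'⟩ := Δ.exists_isProj {j} x y
  have hx'P : x' ∈ Δ.Pan j x := by rw [Pan_eq_Res]; exact hx'.mem
  have h1 := (isMinR_iff cs).1 hx'.isMinR j rfl
  have h2 : ℓ (Δ.δ x' y) < ℓ (cs.simple j * Δ.δ x' y) := by
    rw [← cs.length_inv, ← cs.length_inv (Δ.δ y x' * _), mul_inv_rev, cs.inv_simple, ← Δ.symm y x'] at h1
    exact h1
  have h3 : Δ.δ x' y ∈ WJ cs {j, i} := by
    rw [Set.pair_comm]
    refine Δ.δ_mem_of_mem_Res (Δ.mem_Res_trans hx ?_) hy
    exact Δ.Pan_subset_Res (by simp) x hx'P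
  refine ⟨x', hx'P, ?_⟩
  rcases cases_m3 S hM' h3 h2 with h4 | h4 | h4
  · exact ⟨y, Δ.self_mem_Pan j y, by rw [Δ.eq_of_δ_eq_one h4]; exact Δ.self_mem_Pan i _⟩
  · exact ⟨y, Δ.self_mem_Pan j y, Δ.mem_Pan_of_δ h4⟩
  · obtain ⟨y', h5, h6⟩ := Δ.exists_between h4 (by rw [len_ij hM, cs.length_simple, cs.length_simple])
    exact ⟨y', Δ.mem_Pan_symm (Δ.mem_Pan_of_δ h6), Δ.mem_Pan_of_δ h5⟩

end

/-! ### Points and lines -/

/-- the points: the `j`-panels -/
def Pt (Δ : Bldg cs C) (i j : I) (c : C) : Type _ := {s : Set C // ∃ x ∈ Δ.Res {i, j} c, s = Δ.Pan j x}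

/-- the lines: the `i`-panels -/
def Ln (Δ : Bldg cs C) (i j : I) (c : C) : Type _ := {s : Set C // ∃ x ∈ Δ.Res {i, j} c, s = Δ.Pan i x}

/-- incidence -/
def Inc (Δ : Bldg cs C) (i j : I) (c : C) (p : Pt Δ i j c) (l : Ln Δ i j c) : Prop := ∃ x, x ∈ p.1 ∧ x ∈ l.1

instance [Finite C] {i j : I} {c : C} : Finite (Pt Δ i j c) := Subtype.finite

/-- the point of a chamber -/
def mkPt {i j : I} {c x : C} (hx : x ∈ Δ.Res {i, j} c) : Pt Δ i j c := ⟨Δ.Pan j x, x, hx, rfl⟩

/-- the line of a chamber -/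
def mkLn {i j : I} {c x : C} (hx : x ∈ Δ.Res {i, j} c) : Ln Δ i j c := ⟨Δ.Pan i x, x, hx, rfl⟩

theorem Pt.eq {i j : I} {c x : C} (p : Pt Δ i j c) (hx : x ∈ p.1) : p.1 = Δ.Pan j x := by
  obtain ⟨s, y, hy, rfl⟩ := p
  exact (Δ.Pan_eq_of_mem hx).symm

theorem Ln.eq {i j : I} {c x : C} (l : Ln Δ i j c) (hx : x ∈ l.1) : l.1 = Δ.Pan i x := by
  obtain ⟨s, y, hy, rfl⟩ := l
  exact (Δ.Pan_eq_of_mem hx).symm

theorem Pt.mem_Res {i j : I} {c x : C} (p : Pt Δ i j c) (hx : x ∈ p.1) : x ∈ Δ.Res {i, j} c := by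
  obtain ⟨s, y, hy, rfl⟩ := p
  exact Δ.mem_Res_trans hy (Δ.Pan_subset_Res (by simp) y hx)

theorem Ln.mem_Res {i j : I} {c x : C} (l : Ln Δ i j c) (hx : x ∈ l.1) : x ∈ Δ.Res {i, j} c := by
  obtain ⟨s, y, hy, rfl⟩ := l
  exact Δ.mem_Res_trans hy (Δ.Pan_subset_Res (by simp) y hx)

theorem Pt.ext' {i j : I} {c x : C} {p q : Pt Δ i j c} (hp : x ∈ p.1) (hq : x ∈ q.1) : p = q :=
  Subtype.ext (by rw [p.eq hp, q.eq hq])

theorem Ln.ext' {i j : I} {c x : C} {p q : Ln Δ i j c} (hp : x ∈ p.1) (hq : x ∈ q.1) : p = q :=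
  Subtype.ext (by rw [p.eq hp, q.eq hq])

theorem Pt.exists_mem {i j : I} {c : C} (p : Pt Δ i j c) : ∃ x, x ∈ p.1 := by
  obtain ⟨s, y, hy, rfl⟩ := p
  exact ⟨y, Δ.self_mem_Pan j y⟩

theorem Ln.exists_mem {i j : I} {c : C} (p : Ln Δ i j c) : ∃ x, x ∈ p.1 := by
  obtain ⟨s, y, hy, rfl⟩ := p
  exact ⟨y, Δ.self_mem_Pan i y⟩

section

variable {G : Type*} [Group G] [MulAction G C] {p : ℕ} (S : Sys Δ G p)

include S

theorem isPl [F : OppRes.Cox cs] (hth : Δ.Thick) {i j : I} (hM : M i j = 3) (c : C) : Pl (Inc Δ i j c) := by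
  have hM' : M j i = 3 := by rw [M.symmetric]; exact hM
  have hij : i ≠ j := (len_jij (cs := cs) hM).2.2.2
  refine ⟨?_, ?_, ?_, ?_, ?_⟩
  · intro p q
    obtain ⟨x, hx⟩ := p.exists_mem
    obtain ⟨y, hy⟩ := q.exists_mem
    obtain ⟨x', hx', y', hy', h⟩ := exists_gal S hM (p.mem_Res hx) (q.mem_Res hy)
    have h1 : x' ∈ p.1 := by rw [p.eq hx]; exact hx'
    have h2 : y' ∈ q.1 := by rw [q.eq hy]; exact hy'
    exact ⟨mkLn (p.mem_Res h1), ⟨x', h1, Δ.self_mem_Pan i x'⟩, ⟨y', h2, h⟩⟩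
  · intro p q
    obtain ⟨x, hx⟩ := p.exists_mem
    obtain ⟨y, hy⟩ := q.exists_mem
    obtain ⟨x', hx', y', hy', h⟩ := exists_gal (i := j) (j := i) (c := c) S hM'
      (by rw [Set.pair_comm]; exact p.mem_Res hx) (by rw [Set.pair_comm]; exact q.mem_Res hy)
    have h1 : x' ∈ p.1 := by rw [p.eq hx]; exact hx'
    have h2 : y' ∈ q.1 := by rw [q.eq hy]; exact hy'
    exact ⟨mkPt (p.mem_Res h1), ⟨x', Δ.self_mem_Pan j x', h1⟩, ⟨y', h, h2⟩⟩
  · rintro p q l m ⟨x, hxp, hxl⟩ ⟨y, hyq, hyl⟩ ⟨z, hzp, hzm⟩ ⟨t, htq, htm⟩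
    by_contra hcon
    push Not at hcon
    obtain ⟨h1, h2⟩ := hcon
    have hxy : x ≠ y := by
      rintro rfl
      exact h1 (Pt.ext' hxp hyq)
    have hxz : x ≠ z := by
      rintro rfl
      exact h2 (Ln.ext' hxl hzm)
    have hzt : z ≠ t := by
      rintro rfl
      exact h1 (Pt.ext' hzp htq)
    have hyt : y ≠ t := by
      rintro rfl
      exact h2 (Ln.ext' hyl htm)
    have e1 : Δ.δ x y = cs.simple i := Δ.δ_eq_of_mem_Pan (x := x) (Δ.self_mem_Pan i x) (by rw [← l.eq hxl]; exact hyl) hxy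
    have e2 : Δ.δ x z = cs.simple j := Δ.δ_eq_of_mem_Pan (x := x) (Δ.self_mem_Pan j x) (by rw [← p.eq hxp]; exact hzp) hxz
    have e3 : Δ.δ z t = cs.simple i := Δ.δ_eq_of_mem_Pan (x := z) (Δ.self_mem_Pan i z) (by rw [← m.eq hzm]; exact htm) hzt
    have e4 : Δ.δ y t = cs.simple j := Δ.δ_eq_of_mem_Pan (x := y) (Δ.self_mem_Pan j y) (by rw [← q.eq hyq]; exact htq) hyt
    have e5 := Δ.δ_mul_of e1 e4 (by rw [len_ij hM, cs.length_simple, cs.length_simple])
    have e6 := Δ.δ_mul_of e2 e3 (by rw [len_ij hM', cs.length_simple, cs.length_simple])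
    exact ne_ij_ji hM (by rw [← e5, ← e6])
  · intro l p q
    obtain ⟨x, hx⟩ := l.exists_mem
    classical
    let f : Pt Δ i j c → C := fun p => if h : ∃ y, y ∈ p.1 ∧ y ∈ l.1 then h.choose else x
    have hf : ∀ p : Pt Δ i j c, ∀ y, y ∈ p.1 → y ∈ l.1 → y = f p := by
      intro p y hyp hyl
      have hex : ∃ y, y ∈ p.1 ∧ y ∈ l.1 := ⟨y, hyp, hyl⟩
      have h1 : f p = hex.choose := dif_pos hex
      obtain ⟨h2, h3⟩ := hex.choose_spec
      rw [h1]
      exact eq_of_Pan_Pan hij (by rw [← l.eq h3]; exact hyl) (by rw [← p.eq h2]; exact hyp)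
    obtain ⟨t, ht, ht1, ht2⟩ := hth.exists_third (i := i) (x := x) (f p) (f q)
    have htl : t ∈ l.1 := by rw [l.eq hx]; exact ht
    refine ⟨mkPt (l.mem_Res htl), ⟨t, Δ.self_mem_Pan j t, htl⟩, ?_, ?_⟩
    · rintro rfl
      exact ht1 (hf _ t (Δ.self_mem_Pan j t) htl)
    · rintro rfl
      exact ht2 (hf _ t (Δ.self_mem_Pan j t) htl)
  · intro l
    obtain ⟨x, hx⟩ := l.exists_mem
    obtain ⟨y, hy⟩ := Δ.exists_δ x (cs.simple j * cs.simple i)
    have hyR : y ∈ Δ.Res {i, j} c := by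
      refine Δ.mem_Res_trans (l.mem_Res hx) ?_
      rw [Bldg.mem_Res, hy]
      exact mul_mem (simple_mem_WJ cs (by simp)) (simple_mem_WJ cs (by simp))
    refine ⟨mkPt hyR, ?_⟩
    rintro ⟨z, hz, hzl⟩
    have h1 : z ∈ Δ.Pan i x := by rw [← l.eq hx]; exact hzl
    have h2 : z ∈ Δ.Pan j y := hz
    have l2 := len_ij (cs := cs) hM'
    by_cases hzy : z = y
    · rw [hzy] at h1
      rcases h1 with h1 | h1
      · rw [h1, Δ.δ_self] at hy
        rw [← hy, cs.length_one] at l2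
        omega
      · rw [h1] at hy
        rw [← hy, cs.length_simple] at l2
        omega
    · have h3 : Δ.δ z y = cs.simple j := Δ.δ_eq_of_mem_Pan h2 (Δ.self_mem_Pan j y) hzy
      rcases h1 with h1 | h1
      · rw [← h1, h3] at hy
        rw [← hy, cs.length_simple] at l2
        omega
      · have h4 := Δ.δ_mul_of h1 h3 (by rw [len_ij hM, cs.length_simple, cs.length_simple])
        rw [hy] at h4
        exact ne_ij_ji hM h4.symm

/-- the number of chambers of a panel -/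
theorem exists_card_Pan [hp : Fact p.Prime] [F : OppRes.Cox cs] [Finite C] (hth : Δ.Thick) (i : I) :
    ∃ k, 0 < k ∧ ∀ x, Nat.card (Δ.Pan i x) = p ^ k + 1 := by
  classical
  rcases isEmpty_or_nonempty C with hC | ⟨⟨x0⟩⟩
  · exact ⟨1, one_pos, fun x => (hC.false x).elim⟩
  have key : ∃ k, Nat.card (Δ.Pan i x0) = p ^ k + 1 := by
    obtain ⟨y, -, -, hy, -⟩ := hth x0 i
    have hyP : y ∈ Δ.Pan i x0 := Δ.mem_Pan_of_δ hy
    have horb : Δ.Pan i x0 = insert x0 (MulAction.orbit (S.U x0) y) := by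
      ext z
      constructor
      · rintro (rfl | hz)
        · exact Set.mem_insert _ _
        · obtain ⟨u, hu, huz⟩ := S.exists_move (x := x0) (z := y) (z' := z) (by rw [hy, hz])
          exact Set.mem_insert_of_mem _ ⟨⟨u, hu⟩, huz⟩
      · rintro (rfl | ⟨⟨u, hu⟩, rfl⟩)
        · exact Δ.self_mem_Pan i _
        · have h1 := smul_mem_Pan S (g := u) hyP
          rw [S.fix x0 u hu] at h1
          exact h1
    have hnot : x0 ∉ MulAction.orbit (S.U x0) y := by
      rintro ⟨⟨u, hu⟩, h⟩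
      have h1 : u • y = x0 := h
      have h2 : y = x0 := smul_left_cancel u (by rw [h1, S.fix x0 u hu])
      exact Δ.ne_of_δ_simple hy h2.symm
    obtain ⟨k, hk⟩ := (S.isP x0).card_orbit y
    refine ⟨k, ?_⟩
    rw [Nat.card_coe_set_eq, horb, Set.ncard_insert_of_notMem hnot, ← Nat.card_coe_set_eq, hk]
  obtain ⟨k, hk⟩ := key
  have hall : ∀ x, Nat.card (Δ.Pan i x) = p ^ k + 1 := by
    intro x
    obtain ⟨g, rfl⟩ := exists_smul S hth x0 x
    rw [← hk, ← smul_Pan S, Nat.card_coe_set_eq, Nat.card_coe_set_eq, Set.ncard_smul_set]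
  refine ⟨k, ?_, hall⟩
  rcases Nat.eq_zero_or_pos k with rfl | h
  · exfalso
    obtain ⟨y, z, hyz, hy, hz⟩ := hth x0 i
    have h1 : ({x0, y, z} : Set C) ⊆ Δ.Pan i x0 := by
      rintro t (rfl | rfl | rfl)
      · exact Δ.self_mem_Pan i _
      · exact Δ.mem_Pan_of_δ hy
      · exact Δ.mem_Pan_of_δ hz
    have h2 := Set.ncard_le_ncard h1 (Set.toFinite _)
    have h3 : ({x0, y, z} : Set C).ncard = 3 := Set.ncard_eq_three.2
      ⟨x0, y, z, Δ.ne_of_δ_simple hy, Δ.ne_of_δ_simple hz, hyz, rfl⟩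
    rw [h3, ← Nat.card_coe_set_eq, hk, pow_zero] at h2
    omega
  · exact h

end

/-- the points of a line -/
theorem card_line [F : OppRes.Cox cs] {i j : I} (hij : i ≠ j) {c : C} (l : Ln Δ i j c) :
    Nat.card {x : Pt Δ i j c // Inc Δ i j c x l} = Nat.card l.1 := by
  symm
  refine Nat.card_eq_of_bijective (fun x => ⟨mkPt (l.mem_Res x.2), x.1, Δ.self_mem_Pan j _, x.2⟩) ⟨?_, ?_⟩
  · rintro ⟨x, hx⟩ ⟨y, hy⟩ h
    have h1 : Δ.Pan j x = Δ.Pan j y := congrArg (fun z => z.1.1) h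
    apply Subtype.ext
    refine eq_of_Pan_Pan hij (by rw [← l.eq hy]; exact hx) ?_
    rw [← h1]
    exact Δ.self_mem_Pan j x
  · rintro ⟨q, x, hx, hxl⟩
    exact ⟨⟨x, hxl⟩, Subtype.ext (Pt.ext' (x := x) (Δ.self_mem_Pan j x) hx)⟩

end Cfsg.Agent.H772.Cls
end

-- part: H772/Cls/Psi
section
/-!
# S2451, helper772: the action on a residue through the projection on a parallel residue
-/

set_option autoImplicit false
set_option linter.unusedSectionVars false

open scoped Pointwise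

namespace Cfsg.Agent.H772.Cls

open Cfsg.Agent.Tits.Core Cfsg.Agent.Tits.Core.Bldg Cfsg.Agent.Tits.Exchange Cfsg.Agent.Tits Cfsg.Agent.FixBN
open Cfsg.Agent.FixBN.Cox
open Cfsg.Agent.H197.Cls

variable {I : Type*} {M : CoxeterMatrix I} {W : Type*} [Group W] {cs : CoxeterSystem M W} {C : Type*}

local prefix:100 "ℓ" => cs.length

variable {Δ : Bldg cs C}

/-! ### Parallel residues -/

section

variable {K : Set I} {u : W} (h : Par cs K K u)

include h

theorem proj_of_δ {c D D' : C} (hD : D ∈ Δ.Res K c) (e : Δ.δ D D' = u) : Δ.proj K c D' = D := by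
  apply Δ.proj_eq_of_isProj
  refine Δ.isProj_of_isMinR hD ?_
  rw [Δ.symm D D', e]
  exact (isMinR_inv_iff cs).2 h.minL

theorem exists_par {c c' D : C} (hcc : Δ.δ c c' = u) (hD : D ∈ Δ.Res K c) : ∃ D' ∈ Δ.Res K c', Δ.δ D D' = u :=
  par_transfer h hcc hD

theorem δ_proj_par {c c' D' : C} (hcc : Δ.δ c c' = u) (hD : D' ∈ Δ.Res K c') : Δ.δ (Δ.proj K c D') D' = u := by
  obtain ⟨D, hD1, hD2⟩ := par_transfer h.symm (x := c') (y := c) (by rw [Δ.symm c c', hcc]) hD
  have e : Δ.δ D D' = u := by rw [Δ.symm D' D, hD2, inv_inv]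
  rw [proj_of_δ h hD1 e, e]

theorem δ_proj_proj {c c' D' E' : C} (hcc : Δ.δ c c' = u) (hD : D' ∈ Δ.Res K c') (hE : E' ∈ Δ.Res K c') :
    Δ.δ (Δ.proj K c D') (Δ.proj K c E') * u = u * Δ.δ D' E' := by
  refine par_δ h (δ_proj_par h hcc hD) (δ_proj_par h hcc hE) ?_ ?_
  · exact Δ.δ_mem_of_mem_Res (Δ.proj_mem K c D') (Δ.proj_mem K c E')
  · exact Δ.δ_mem_of_mem_Res hD hE

theorem proj_inj {c c' D' E' : C} (hcc : Δ.δ c c' = u) (hD : D' ∈ Δ.Res K c') (hE : E' ∈ Δ.Res K c')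
    (he : Δ.proj K c D' = Δ.proj K c E') : D' = E' := by
  have h1 := δ_proj_proj h hcc hD hE
  rw [he, Δ.δ_self, one_mul] at h1
  exact Δ.eq_of_δ_eq_one (mul_left_cancel (h1.symm.trans (mul_one u).symm))

end

/-- the map of the residue -/
noncomputable def psi {G : Type*} [SMul G C] (Δ : Bldg cs C) (K : Set I) (c : C) (x : G) (D : C) : C :=
  Δ.proj K c (x • D)

section

variable {G : Type*} [Group G] [MulAction G C] {p : ℕ} (S : Sys Δ G p)

include S

variable {K : Set I} {u : W} (h : Par cs K K u) {c c' : C} (hcc : Δ.δ c c' = u) {x : G} (hx : x • c ∈ Δ.Res K c')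

include hx

theorem smul_mem' {D : C} (hD : D ∈ Δ.Res K c) : x • D ∈ Δ.Res K c' :=
  Δ.mem_Res_trans hx (S.smul_mem_Res hD)

omit S hx in
theorem psi_mem (D : C) : psi Δ K c x D ∈ Δ.Res K c := Δ.proj_mem K c _

include h hcc

theorem δ_psi {D : C} (hD : D ∈ Δ.Res K c) : Δ.δ (psi Δ K c x D) (x • D) = u :=
  δ_proj_par h hcc (smul_mem' S hx hD)

theorem disp_eq {D : C} (hD : D ∈ Δ.Res K c) : Δ.δ D (x • D) = Δ.δ D (psi Δ K c x D) * u :=
  Δ.δ_mul_of rfl (δ_psi S h hcc hx hD) (h.minL _ (Δ.δ_mem_of_mem_Res hD (psi_mem D)))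

theorem psi_iso {D E : C} (hD : D ∈ Δ.Res K c) (hE : E ∈ Δ.Res K c) :
    Δ.δ (psi Δ K c x D) (psi Δ K c x E) * u = u * Δ.δ D E := by
  have h1 := δ_proj_proj h hcc (smul_mem' S hx hD) (smul_mem' S hx hE)
  rw [S.iso] at h1
  exact h1

theorem psi_eq_iff {y : G} (hy : y • c ∈ Δ.Res K c') {D E : C} (hD : D ∈ Δ.Res K c) (hE : E ∈ Δ.Res K c) :
    psi Δ K c x D = psi Δ K c y E ↔ x • D = y • E := by
  constructor
  · intro he
    exact proj_inj h hcc (smul_mem' S hx hD) (smul_mem' S hy hE) he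
  · intro he
    rw [psi, psi, he]

omit hx in
/-- conjugation -/
theorem psi_conj {y g : G} (hy : y • c ∈ Δ.Res K c') (hg : g • Δ.Res K c = Δ.Res K c)
    {D : C} (hD : D ∈ Δ.Res K c) :
    psi Δ K c (g * y * g⁻¹) D = g • psi Δ K c y (g⁻¹ • D) := by
  have h1 : g⁻¹ • D ∈ Δ.Res K c := by
    rw [← hg] at hD
    obtain ⟨E, hE, rfl⟩ := hD
    show g⁻¹ • g • E ∈ _
    rwa [inv_smul_smul]
  have h2 := δ_psi S h hcc hy h1
  have h3 : Δ.δ (g • psi Δ K c y (g⁻¹ • D)) ((g * y * g⁻¹) • D) = u := by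
    rw [mul_smul, mul_smul, S.iso, h2]
  refine proj_of_δ h ?_ h3
  rw [← hg]
  exact Set.smul_mem_smul_set (psi_mem _)

end

/-! ### Collineations -/

theorem image_surj [Finite C] {K : Set I} {c : C} {ψ : C → C} (hR : ∀ D ∈ Δ.Res K c, ψ D ∈ Δ.Res K c)
    (hinj : ∀ D ∈ Δ.Res K c, ∀ E ∈ Δ.Res K c, ψ D = ψ E → D = E) {E : C} (hE : E ∈ Δ.Res K c) :
    ∃ D ∈ Δ.Res K c, ψ D = E := by
  let f : Δ.Res K c → Δ.Res K c := fun D => ⟨ψ D.1, hR D.1 D.2⟩
  have hf : Function.Injective f := fun D E h => Subtype.ext (hinj _ D.2 _ E.2 (congrArg Subtype.val h))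
  obtain ⟨D, hD⟩ := Finite.surjective_of_injective hf ⟨E, hE⟩
  exact ⟨D.1, D.2, congrArg Subtype.val hD⟩

/-- a map of the residue respecting `δ` up to a permutation `τ` of the types maps `k`-panels to `τ k`-panels -/
theorem image_Pan [Finite C] {K : Set I} {c : C} {ψ : C → C}
    (hR : ∀ D ∈ Δ.Res K c, ψ D ∈ Δ.Res K c) {k k' : I} (hk : k ∈ K) (hk' : k' ∈ K)
    (hinj : ∀ D ∈ Δ.Res K c, ∀ E ∈ Δ.Res K c, ψ D = ψ E → D = E)
    (hiso : ∀ D ∈ Δ.Res K c, ∀ E ∈ Δ.Res K c, Δ.δ D E = cs.simple k ↔ Δ.δ (ψ D) (ψ E) = cs.simple k') {D : C}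
    (hD : D ∈ Δ.Res K c) : ψ '' Δ.Pan k D = Δ.Pan k' (ψ D) := by
  have hsub : ∀ E ∈ Δ.Pan k D, E ∈ Δ.Res K c := fun E hE => Δ.mem_Res_trans hD (Δ.Pan_subset_Res hk D hE)
  ext E
  constructor
  · rintro ⟨E, hE, rfl⟩
    rcases hE with rfl | hE
    · exact Δ.self_mem_Pan _ _
    · exact Δ.mem_Pan_of_δ ((hiso D hD E (hsub E (Δ.mem_Pan_of_δ hE))).1 hE)
  · intro hE
    rcases hE with rfl | hE
    · exact ⟨D, Δ.self_mem_Pan _ _, rfl⟩
    · have hER : E ∈ Δ.Res K c := Δ.mem_Res_trans (hR D hD) (Δ.Pan_subset_Res hk' _ (Δ.mem_Pan_of_δ hE))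
      obtain ⟨D1, hD1, rfl⟩ := image_surj hR hinj hER
      exact ⟨D1, Δ.mem_Pan_of_δ ((hiso D hD D1 hD1).2 hE), rfl⟩

/-- the collineation given by a map of the residue -/
def colOf [Finite C] [F : OppRes.Cox cs] {i j : I} (hij : i ≠ j) {c : C} (ψ : C → C)
    (hR : ∀ D ∈ Δ.Res {i, j} c, ψ D ∈ Δ.Res {i, j} c)
    (hiso : ∀ D ∈ Δ.Res {i, j} c, ∀ E ∈ Δ.Res {i, j} c, Δ.δ (ψ D) (ψ E) = Δ.δ D E) (hM : M i j = 3)
    (h1 : ∀ D ∈ Δ.Res {i, j} c, Δ.δ D (ψ D) ≠ cs.simple i * cs.simple j)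
    (h2 : ∀ D ∈ Δ.Res {i, j} c, Δ.δ D (ψ D) ≠ cs.simple j * cs.simple i) : Col (Inc Δ i j c) :=
  have hinj : ∀ D ∈ Δ.Res {i, j} c, ∀ E ∈ Δ.Res {i, j} c, ψ D = ψ E → D = E := by
    intro D hD E hE he
    have h3 := hiso D hD E hE
    rw [he, Δ.δ_self] at h3
    exact Δ.eq_of_δ_eq_one h3.symm
  have hP : ∀ k ∈ ({i, j} : Set I), ∀ D ∈ Δ.Res {i, j} c, ψ '' Δ.Pan k D = Δ.Pan k (ψ D) := fun k hk D hD =>
    image_Pan hR hk hk hinj (fun D hD E hE => by rw [hiso D hD E hE]) hD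
  have hM' : M j i = 3 := by rw [M.symmetric]; exact hM
  { pt := fun s => ⟨ψ '' s.1, by
      obtain ⟨s, D, hD, rfl⟩ := s
      exact ⟨ψ D, hR D hD, hP j (by simp) D hD⟩⟩
    ln := fun s => ⟨ψ '' s.1, by
      obtain ⟨s, D, hD, rfl⟩ := s
      exact ⟨ψ D, hR D hD, hP i (by simp) D hD⟩⟩
    map := by
      rintro s l ⟨D, hD, hDl⟩
      exact ⟨ψ D, ⟨D, hD, rfl⟩, ⟨D, hDl, rfl⟩⟩
    inj := by
      intro s t hst
      have h3 : ψ '' s.1 = ψ '' t.1 := congrArg Subtype.val hst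
      obtain ⟨D, hD⟩ := s.exists_mem
      have h4 : ψ D ∈ ψ '' t.1 := by rw [← h3]; exact ⟨D, hD, rfl⟩
      obtain ⟨E, hE, he⟩ := h4
      have h5 := hinj E (t.mem_Res hE) D (s.mem_Res hD) he
      rw [h5] at hE
      exact Pt.ext' hD hE
    F1 := by
      rintro s l hne ⟨D, hD, hDl⟩ ⟨E, hE, hEl⟩
      have hDR := s.mem_Res hD
      have hψ : ψ D ∈ (ψ '' s.1) := ⟨D, hD, rfl⟩
      by_contra hcon
      apply h1 D hDR
      have hDE : D ≠ E := by
        rintro rfl
        exact hne (Pt.ext' hE hD)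
      have hEψ : E ≠ ψ D := by
        intro he
        apply hcon
        refine Ln.ext' (x := ψ D) ⟨D, hDl, rfl⟩ ?_
        rw [← he]
        exact hEl
      have e1 : Δ.δ D E = cs.simple i :=
        Δ.δ_eq_of_mem_Pan (x := D) (Δ.self_mem_Pan i D) (by rw [← l.eq hDl]; exact hEl) hDE
      have e2 : Δ.δ E (ψ D) = cs.simple j := by
        refine Δ.δ_eq_of_mem_Pan (x := E) (Δ.self_mem_Pan j E) ?_ hEψ
        have h3 : E ∈ ψ '' s.1 := hE
        rw [s.eq hD, hP j (by simp) D hDR] at h3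
        exact Δ.mem_Pan_symm h3
      exact Δ.δ_mul_of e1 e2 (by rw [len_ij hM, cs.length_simple, cs.length_simple])
    F2 := by
      rintro s l hne ⟨D, hD, hDl⟩ ⟨E, hE, hEl⟩
      have hDR := s.mem_Res hD
      by_contra hcon
      apply h2 D hDR
      have hDE : D ≠ E := by
        rintro rfl
        exact hne (Ln.ext' hEl hDl)
      have hEψ : E ≠ ψ D := by
        intro he
        apply hcon
        refine Pt.ext' (x := ψ D) ⟨D, hD, rfl⟩ ?_
        rw [← he]
        exact hE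
      have e1 : Δ.δ D E = cs.simple j :=
        Δ.δ_eq_of_mem_Pan (x := D) (Δ.self_mem_Pan j D) (by rw [← s.eq hD]; exact hE) hDE
      have e2 : Δ.δ E (ψ D) = cs.simple i := by
        refine Δ.δ_eq_of_mem_Pan (x := E) (Δ.self_mem_Pan i E) ?_ hEψ
        have h3 : E ∈ ψ '' l.1 := hEl
        rw [l.eq hDl, hP i (by simp) D hDR] at h3
        exact Δ.mem_Pan_symm h3
      exact Δ.δ_mul_of e1 e2 (by rw [len_ij hM', cs.length_simple, cs.length_simple]) }

end Cfsg.Agent.H772.Cls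
end

-- part: H772/Cls/StrongY
section
/-!
# S2451, helper772: the strong form of Lemma Y

* `strongY` : `v ∈ Dis Δ a b`, `s_i v ≠ v s_i`: neither `s_i v` nor `v s_i` is a displacement of `a⁻¹` or of `b`;
* `step_up`, `step_down`, `step_comm` : the displacements on a panel.
-/

set_option autoImplicit false
set_option linter.unusedSectionVars false

open scoped Pointwise

namespace Cfsg.Agent.H772.Cls

open Cfsg.Agent.Tits.Core Cfsg.Agent.Tits.Core.Bldg Cfsg.Agent.Tits.Exchange Cfsg.Agent.Tits Cfsg.Agent.FixBN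
open Cfsg.Agent.H197.Cls

variable {I : Type*} {M : CoxeterMatrix I} {W : Type*} [Group W] {cs : CoxeterSystem M W} {C : Type*}

local prefix:100 "ℓ" => cs.length

variable {Δ : Bldg cs C} {G : Type*} [Group G] [MulAction G C] {p : ℕ} (S : Sys Δ G p)

theorem dis_inv {a b : G} : Dis Δ b⁻¹ a⁻¹ = Dis Δ a b := by
  ext w
  constructor
  · rintro ⟨h1, h2⟩
    rw [inv_inv] at h1
    exact ⟨h2, h1⟩
  · rintro ⟨h1, h2⟩
    refine ⟨?_, h1⟩
    rw [inv_inv]
    exact h2

include S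

variable [hp : Fact p.Prime] [F : OppRes.Cox cs] [Finite C]

theorem strongY_aux (hth : Δ.Thick) {a b : G} (hab : Good p a b) {v : W} (hv : v ∈ Dis Δ a b) {i : I}
    (hne : cs.simple i * v ≠ v * cs.simple i) (hL : ℓ v < ℓ (cs.simple i * v)) (hR : ℓ v < ℓ (v * cs.simple i)) (c : C) :
    Δ.δ c (b • c) ≠ cs.simple i * v ∧ Δ.δ c (b • c) ≠ v * cs.simple i := by
  obtain ⟨⟨c0, hc0⟩, -⟩ := hv
  have hnp : NP Δ i c0 (a⁻¹ • c0) := ⟨by rw [hc0]; exact hL, by rw [hc0]; exact hR, by rw [hc0]; exact hne⟩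
  have l1 := cs.length_simple_mul v i
  have l2 := cs.length_mul_simple v i
  have ha : a • a⁻¹ • c0 ∈ Δ.Pan i c0 := by rw [smul_inv_smul]; exact Δ.self_mem_Pan i _
  constructor
  · intro h
    obtain ⟨x1, hx1, hx1'⟩ := Δ.exists_between h (by rw [cs.length_simple]; omega)
    obtain ⟨g, hg1, hg2⟩ := exists_smul_pair S hth (x := x1) (y := b • c) (x' := c0) (y' := a⁻¹ • c0)
      (by rw [hx1', hc0])
    have hb : (g * b * g⁻¹) • c0 ∈ Δ.Pan i (a⁻¹ • c0) := by
      rw [mul_smul, mul_smul, ← hg1, inv_smul_smul, hg1, ← hg2]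
      exact smul_mem_Pan S (smul_mem_Pan S (Δ.mem_Pan_of_δ hx1))
    have h1 := (lemY S hth (hab.conjR g) hnp hb ha).2
    rw [mul_smul, mul_smul, ← hg1, inv_smul_smul, hg1, ← hg2] at h1
    have h2 : x1 = c := smul_left_cancel b (smul_left_cancel g h1)
    rw [h2, Δ.δ_self] at hx1
    have := congrArg cs.length hx1
    rw [cs.length_one, cs.length_simple] at this
    omega
  · intro h
    obtain ⟨y1, hy1, hy1'⟩ := Δ.exists_between h (by rw [cs.length_simple]; omega)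
    obtain ⟨g, hg1, hg2⟩ := exists_smul_pair S hth (x := c) (y := y1) (x' := c0) (y' := a⁻¹ • c0)
      (by rw [hy1, hc0])
    have hb : (g * b * g⁻¹) • c0 ∈ Δ.Pan i (a⁻¹ • c0) := by
      rw [mul_smul, mul_smul, ← hg1, inv_smul_smul, hg1, ← hg2]
      exact smul_mem_Pan S (Δ.mem_Pan_of_δ hy1')
    have h1 := (lemY S hth (hab.conjR g) hnp hb ha).2
    rw [mul_smul, mul_smul, ← hg1, inv_smul_smul, hg1, ← hg2] at h1
    have h2 : b • c = y1 := smul_left_cancel g h1
    rw [h2, Δ.δ_self] at hy1'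
    have := congrArg cs.length hy1'
    rw [cs.length_one, cs.length_simple] at this
    omega

/-- **Lemma Y, strong form.** -/
theorem strongY (hth : Δ.Thick) {a b : G} (hab : Good p a b) {v : W} (hv : v ∈ Dis Δ a b) {i : I}
    (hne : cs.simple i * v ≠ v * cs.simple i) (c : C) :
    Δ.δ c (b • c) ≠ cs.simple i * v ∧ Δ.δ c (b • c) ≠ v * cs.simple i := by
  have hss : cs.simple i * cs.simple i = 1 := cs.simple_mul_simple_self i
  obtain ⟨hmem, ⟨-, h2, h3⟩ | ⟨h1, h2, h3⟩⟩ := dis_simple S hth hab hv hne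
  · exact strongY_aux S hth hab hv hne h2 h3 c
  · have e1 : cs.simple i * (cs.simple i * v * cs.simple i) = v * cs.simple i := by
      rw [← mul_assoc, ← mul_assoc, hss, one_mul]
    have e2 : cs.simple i * v * cs.simple i * cs.simple i = cs.simple i * v := by
      rw [mul_assoc, hss, mul_one]
    have h4 := strongY_aux S hth hab hmem (i := i) (by rw [e1, e2]; exact hne.symm)
      (by rw [e1]; have := cs.length_mul_simple v i; omega) (by rw [e2]; have := cs.length_simple_mul v i; omega) c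
    rw [e1, e2] at h4
    exact h4.symm

/-- **Lemma Y, strong form**, for `a⁻¹`. -/
theorem strongY' (hth : Δ.Thick) {a b : G} (hab : Good p a b) {v : W} (hv : v ∈ Dis Δ a b) {i : I}
    (hne : cs.simple i * v ≠ v * cs.simple i) (c : C) :
    Δ.δ c (a⁻¹ • c) ≠ cs.simple i * v ∧ Δ.δ c (a⁻¹ • c) ≠ v * cs.simple i :=
  strongY S hth hab.inv (by rw [dis_inv]; exact hv) hne c

omit hp F in
/-- the other chambers of a panel, position `v < s_i v s_i` -/
theorem step_up {x : G} {v : W} {i : I} (hne : cs.simple i * v ≠ v * cs.simple i) (hL : ℓ v < ℓ (cs.simple i * v))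
    (hR : ℓ v < ℓ (v * cs.simple i)) {c c' : C} (hc : Δ.δ c (x • c) = v) (hc' : Δ.δ c c' = cs.simple i) :
    Δ.δ c' (x • c') = cs.simple i * v * cs.simple i := by
  have hnp : NP Δ i c (x • c) := ⟨by rw [hc]; exact hL, by rw [hc]; exact hR, by rw [hc]; exact hne⟩
  have hn : c' ≠ c := (Δ.ne_of_δ_simple hc').symm
  rw [hnp.dLR (Δ.mem_Pan_of_δ hc') hn (smul_mem_Pan S (Δ.mem_Pan_of_δ hc')) (fun h => hn (smul_left_cancel x h)), hc]

omit hp F in
/-- the gate chamber of a panel, position `s_i v s_i > v` -/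
theorem step_down {x : G} {v : W} {i : I} (hne : cs.simple i * v ≠ v * cs.simple i) (hL : ℓ v < ℓ (cs.simple i * v))
    (hR : ℓ v < ℓ (v * cs.simple i)) (hY : ∀ c, Δ.δ c (x • c) ≠ v * cs.simple i) {c : C}
    (hc : Δ.δ c (x • c) = cs.simple i * v * cs.simple i) : ∃ c', Δ.δ c c' = cs.simple i ∧ Δ.δ c' (x • c') = v := by
  have l1 := cs.length_simple_mul v i
  have l2 := cs.length_mul_simple v i
  have l3 : ℓ (cs.simple i * v * cs.simple i) = ℓ v + 2 := by
    rcases fold cs (w := v) (i := i) (j := i) (by omega) (by omega) with h | h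
    · exact h
    · exact absurd h hne
  obtain ⟨x0, hx0, hx0'⟩ := Δ.exists_between (v := cs.simple i) (w := v * cs.simple i)
    (by rw [hc, mul_assoc]) (by rw [← mul_assoc, l3, cs.length_simple]; omega)
  obtain ⟨y0, hy0, hy0'⟩ := Δ.exists_between hx0' (by rw [cs.length_simple]; omega)
  have hnp : NP Δ i x0 y0 := ⟨by rw [hy0]; exact hL, by rw [hy0]; exact hR, by rw [hy0]; exact hne⟩
  refine ⟨x0, hx0, ?_⟩
  have h1 : x • x0 ∈ Δ.Pan i y0 := Δ.mem_Pan_trans (Δ.mem_Pan_of_δ hy0') (smul_mem_Pan S (Δ.mem_Pan_of_δ hx0))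
  by_cases h2 : x • x0 = y0
  · rw [h2, hy0]
  · exfalso
    apply hY x0
    rw [hnp.dR h1 h2, hy0]

omit hp F in
/-- the displacements on a panel at a commuting position -/
theorem step_comm {x : G} {v : W} {i : I} (hcm : cs.simple i * v = v * cs.simple i) {c c' : C}
    (hc : Δ.δ c (x • c) = v) (hc' : c' ∈ Δ.Pan i c) : Δ.δ c' (x • c') = v ∨ Δ.δ c' (x • c') = v * cs.simple i := by
  rcases hc' with rfl | hc'
  · left; exact hc
  have hss : cs.simple i * cs.simple i = 1 := cs.simple_mul_simple_self i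
  have h1 : Δ.δ c' (x • c) = v ∨ Δ.δ c' (x • c) = v * cs.simple i := by
    rcases Δ.step_left (z := x • c) (Δ.δ_symm_simple hc') with h | h
    · right; rw [h, hc, hcm]
    · left; rw [h, hc]
  have h2 : Δ.δ (x • c) (x • c') = cs.simple i := by rw [S.iso, hc']
  rcases Δ.step c' (x • c) (x • c') i h2 with h | h
  · rcases h1 with h3 | h3
    · right; rw [h, h3]
    · left; rw [h, h3, mul_assoc, hss, mul_one]
  · rcases h1 with h3 | h3
    · left; rw [h, h3]
    · right; rw [h, h3]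

end Cfsg.Agent.H772.Cls
end

-- part: H772/Cls/StarC
section
/-!
# S2451, helper772: two nodes with `m(i, j) = 3` commuting with an element of `Dis`

`star_c` : `v ∈ Dis Δ a b`, `m(i, j) = 3`, `s_i` and `s_j` commute with `v` and are descents: then `v s_i ∈ Dis Δ a b`.
(A correlation of a finite projective plane has an absolute flag.)
-/

set_option autoImplicit false
set_option linter.unusedSectionVars false

open scoped Pointwise

namespace Cfsg.Agent.H772.Cls

open Cfsg.Agent.Tits.Core Cfsg.Agent.Tits.Core.Bldg Cfsg.Agent.Tits.Exchange Cfsg.Agent.Tits Cfsg.Agent.FixBN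
open Cfsg.Agent.FixBN.Cox
open Cfsg.Agent.H197.Cls

variable {I : Type*} {M : CoxeterMatrix I} {W : Type*} [Group W] {cs : CoxeterSystem M W} {C : Type*}

local prefix:100 "ℓ" => cs.length

theorem wJ_m3 [F : OppRes.Cox cs] {i j : I} (hM : M i j = 3) :
    wJ cs {i, j} = cs.simple i * cs.simple j * cs.simple i := by
  have hM' : M j i = 3 := by rw [M.symmetric]; exact hM
  obtain ⟨l2, l3, hb, hij⟩ := len_jij (cs := cs) hM
  obtain ⟨l2', l3', hb', -⟩ := len_jij (cs := cs) hM'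
  symm
  refine F.eq_wJ_of_descents ?_ ?_
  · exact mul_mem (mul_mem (simple_mem_WJ cs (by simp)) (simple_mem_WJ cs (by simp))) (simple_mem_WJ cs (by simp))
  · rintro k (rfl | rfl)
    · rw [mul_assoc, cs.simple_mul_simple_self, mul_one, l2', l3']
      omega
    · rw [hb', mul_assoc, cs.simple_mul_simple_self, mul_one, l2, l3]
      omega

variable {Δ : Bldg cs C} {G : Type*} [Group G] [MulAction G C] {p : ℕ} (S : Sys Δ G p)

include S

/-- a correlation -/
theorem corr [hp : Fact p.Prime] [F : OppRes.Cox cs] [Finite C] (hth : Δ.Thick) {i j : I} (hM : M i j = 3) {m : W}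
    (h : Par cs {i, j} {i, j} m) (hmi : m * cs.simple i = cs.simple j * m) (hmj : m * cs.simple j = cs.simple i * m)
    {c c' : C} (hcc : Δ.δ c c' = m) {x : G} (hx : x • c ∈ Δ.Res {i, j} c') :
    ∃ D ∈ Δ.Res {i, j} c, Δ.δ D (x • D) = cs.simple j * cs.simple i * m := by
  classical
  have hM' : M j i = 3 := by rw [M.symmetric]; exact hM
  have hij : i ≠ j := (len_jij (cs := cs) hM).2.2.2
  have hP := isPl (Δ := Δ) S hth hM c
  obtain ⟨k, hk0, hk⟩ := exists_card_Pan S hth i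
  set ψ : C → C := psi Δ {i, j} c x with hψ
  have hR : ∀ D ∈ Δ.Res {i, j} c, ψ D ∈ Δ.Res {i, j} c := fun D _ => psi_mem D
  have hiso : ∀ D ∈ Δ.Res {i, j} c, ∀ E ∈ Δ.Res {i, j} c, Δ.δ (ψ D) (ψ E) * m = m * Δ.δ D E :=
    fun D hD E hE => psi_iso S h hcc hx hD hE
  have hinj : ∀ D ∈ Δ.Res {i, j} c, ∀ E ∈ Δ.Res {i, j} c, ψ D = ψ E → D = E := by
    intro D hD E hE he
    have h3 := hiso D hD E hE
    rw [he, Δ.δ_self, one_mul] at h3
    exact Δ.eq_of_δ_eq_one (mul_left_cancel (h3.symm.trans (mul_one m).symm))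
  have hPj : ∀ D ∈ Δ.Res {i, j} c, ψ '' Δ.Pan j D = Δ.Pan i (ψ D) := fun D hD =>
    image_Pan hR (by simp) (by simp) hinj (fun D hD E hE => by
      have h3 := hiso D hD E hE
      constructor
      · intro h4
        rw [h4, hmj] at h3
        exact mul_right_cancel h3
      · intro h4
        rw [h4, ← hmj] at h3
        exact (mul_left_cancel h3).symm) hD
  have hPi : ∀ D ∈ Δ.Res {i, j} c, ψ '' Δ.Pan i D = Δ.Pan j (ψ D) := fun D hD =>
    image_Pan hR (by simp) (by simp) hinj (fun D hD E hE => by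
      have h3 := hiso D hD E hE
      constructor
      · intro h4
        rw [h4, hmi] at h3
        exact mul_right_cancel h3
      · intro h4
        rw [h4, ← hmi] at h3
        exact (mul_left_cancel h3).symm) hD
  let ρ : Pt Δ i j c → Ln Δ i j c := fun s => ⟨ψ '' s.1, by
    obtain ⟨s, D, hD, rfl⟩ := s
    exact ⟨ψ D, hR D hD, hPj D hD⟩⟩
  let ρ' : Ln Δ i j c → Pt Δ i j c := fun s => ⟨ψ '' s.1, by
    obtain ⟨s, D, hD, rfl⟩ := s
    exact ⟨ψ D, hR D hD, hPi D hD⟩⟩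
  have hc0 : c ∈ Δ.Res {i, j} c := Δ.self_mem_Res _ _
  have hfin := Fintype.ofFinite (Pt Δ i j c)
  have hne : Nonempty (Pt Δ i j c) := ⟨mkPt hc0⟩
  obtain ⟨s, A, hAs, hAρ⟩ := exists_absolute (p := p) (Inc Δ i j c) (fun l l' => by
    by_cases hll : l = l'
    · subst hll
      have h1 : (Finset.univ.filter (fun y => Inc Δ i j c y l ∧ Inc Δ i j c y l)).card = p ^ k + 1 := by
        obtain ⟨D, hD⟩ := l.exists_mem
        have h2 := card_line hij l
        rw [l.eq hD, hk D, Nat.card_eq_fintype_card, Fintype.card_subtype] at h2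
        rw [← h2]
        congr 1
        ext y
        simp
      rw [h1]
      push_cast
      rw [ZMod.natCast_self, zero_pow hk0.ne', zero_add]
    · have h1 : (Finset.univ.filter (fun y => Inc Δ i j c y l ∧ Inc Δ i j c y l')).card = 1 := by
        obtain ⟨y, hy, hy'⟩ := hP.meet l l'
        rw [Finset.card_eq_one]
        refine ⟨y, ?_⟩
        ext z
        rw [Finset.mem_filter, Finset.mem_singleton]
        constructor
        · rintro ⟨-, hz, hz'⟩
          rcases hP.uniq hz hy hz' hy' with h3 | h3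
          · exact h3
          · exact absurd h3 hll
        · rintro rfl
          exact ⟨Finset.mem_univ _, hy, hy'⟩
      rw [h1, Nat.cast_one]) ρ ρ' (by
    intro s
    obtain ⟨E, hE⟩ := s.exists_mem
    obtain ⟨D, hD, rfl⟩ := image_surj hR hinj (s.mem_Res hE)
    exact ⟨mkLn hD, Pt.ext' (x := ψ D) ⟨D, Δ.self_mem_Pan i D, rfl⟩ hE⟩) (by
    intro s l
    constructor
    · rintro ⟨D, hD, hDl⟩
      exact ⟨ψ D, ⟨D, hDl, rfl⟩, ⟨D, hD, rfl⟩⟩
    · rintro ⟨_, ⟨D, hDl, rfl⟩, ⟨D', hD', he⟩⟩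
      have h3 := hinj D' (s.mem_Res hD') D (l.mem_Res hDl) he
      rw [h3] at hD'
      exact ⟨D, hD', hDl⟩)
  have hAR := s.mem_Res hAs
  have hA' : ψ A ∈ Δ.Pan i A := by
    have h1 : A ∈ ψ '' s.1 := hAρ
    rw [s.eq hAs, hPj A hAR] at h1
    exact Δ.mem_Pan_symm h1
  obtain ⟨A0, hA0, hA0'⟩ := image_surj hR hinj hAR
  obtain ⟨D, hD, hDA, hDA0⟩ := hth.exists_third (i := j) (x := A) A A0
  have hDR : D ∈ Δ.Res {i, j} c := Δ.mem_Res_trans hAR (Δ.Pan_subset_Res (by simp) A hD)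
  refine ⟨D, hDR, ?_⟩
  rw [disp_eq S h hcc hx hDR]
  congr 1
  have e1 : Δ.δ D A = cs.simple j := Δ.δ_eq_of_mem_Pan hD (Δ.self_mem_Pan j A) hDA
  have e2 : Δ.δ A (ψ D) = cs.simple i := by
    have h1 : ψ D ∈ Δ.Pan i (ψ A) := by
      rw [← hPj A hAR]
      exact ⟨D, hD, rfl⟩
    rw [Δ.Pan_eq_of_mem hA'] at h1
    refine Δ.δ_eq_of_mem_Pan (Δ.self_mem_Pan i A) h1 ?_
    intro h2
    rw [← hA0'] at h2
    exact hDA0 (hinj _ hA0 _ hDR h2).symm
  exact Δ.δ_mul_of e1 e2 (by rw [len_ij hM', cs.length_simple, cs.length_simple])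

/-- the displacement `v s_i`, in the residue of a chamber with displacement `v` -/
theorem corr_loc [hp : Fact p.Prime] [F : OppRes.Cox cs] [Finite C] (hth : Δ.Thick) {i j : I} (hM : M i j = 3) {v : W}
    (hi : cs.simple i * v = v * cs.simple i) (hj : cs.simple j * v = v * cs.simple j)
    (hil : ℓ (v * cs.simple i) < ℓ v) (hjl : ℓ (v * cs.simple j) < ℓ v) {x : G} {c : C}
    (hc : Δ.δ c (x • c) = v) : ∃ D ∈ Δ.Res {i, j} c, Δ.δ D (x • D) = v * cs.simple i := by
  have hM' : M j i = 3 := by rw [M.symmetric]; exact hM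
  obtain ⟨l2, l3, hb, hij⟩ := len_jij (cs := cs) hM
  obtain ⟨l2', l3', hb', -⟩ := len_jij (cs := cs) hM'
  have hw := wJ_m3 (cs := cs) hM
  have hss : ∀ k, cs.simple k * cs.simple k = 1 := cs.simple_mul_simple_self
  obtain ⟨u, hu, m, hv, hm⟩ := exists_isMinL cs {i, j} v
  have hu' : u = wJ cs {i, j} := by
    have h1 : u⁻¹ = wJ cs {i, j} := by
      refine F.eq_wJ_of_descents (inv_mem hu) fun k hk => ?_
      have h2 : ℓ (cs.simple k * v) < ℓ v := by
        rcases hk with rfl | rfl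
        · rw [hi]; exact hil
        · rw [hj]; exact hjl
      rw [hv, ← mul_assoc, hm _ (mul_mem (simple_mem_WJ cs hk) hu), hm _ hu] at h2
      have h3 := cs.length_inv (cs.simple k * u)
      rw [mul_inv_rev, cs.inv_simple] at h3
      rw [h3, cs.length_inv]
      omega
    rw [← F.wJ_inv, ← h1, inv_inv]
  have hwm : cs.simple i * cs.simple j * cs.simple i * m = v := by rw [hv, hu', hw]
  have hmv : m = cs.simple i * cs.simple j * cs.simple i * v := by
    have h1 : (cs.simple i * cs.simple j * cs.simple i) * (cs.simple i * cs.simple j * cs.simple i) = 1 := by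
      rw [← hw]; exact F.wJ_mul_self _
    rw [← hwm, ← mul_assoc, h1, one_mul]
  have hmi : m * cs.simple i = cs.simple j * m := by
    rw [hmv]
    calc cs.simple i * cs.simple j * cs.simple i * v * cs.simple i
        = cs.simple i * cs.simple j * cs.simple i * (v * cs.simple i) := by group
      _ = cs.simple i * cs.simple j * cs.simple i * (cs.simple i * v) := by rw [hi]
      _ = cs.simple i * cs.simple j * (cs.simple i * cs.simple i) * v := by group
      _ = (cs.simple j * cs.simple j) * cs.simple i * cs.simple j * v := by rw [hss, hss]; group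
      _ = cs.simple j * (cs.simple j * cs.simple i * cs.simple j) * v := by group
      _ = cs.simple j * (cs.simple i * cs.simple j * cs.simple i * v) := by rw [hb]; group
  have hmj : m * cs.simple j = cs.simple i * m := by
    rw [hmv]
    calc cs.simple i * cs.simple j * cs.simple i * v * cs.simple j
        = cs.simple i * cs.simple j * cs.simple i * (v * cs.simple j) := by group
      _ = (cs.simple i * cs.simple j * cs.simple i) * cs.simple j * v := by rw [← hj]; group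
      _ = (cs.simple j * cs.simple i * cs.simple j) * cs.simple j * v := by rw [← hb]
      _ = cs.simple j * cs.simple i * (cs.simple j * cs.simple j) * v := by group
      _ = (cs.simple i * cs.simple i) * cs.simple j * cs.simple i * v := by rw [hss, hss]; group
      _ = cs.simple i * (cs.simple i * cs.simple j * cs.simple i * v) := by group
  have hlm : ∀ k ∈ ({i, j} : Set I), ℓ m < ℓ (cs.simple k * m) := (isMinL_iff cs).1 hm
  have h : Par cs {i, j} {i, j} m := by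
    refine ⟨?_, ?_, hm, (isMinR_iff cs).2 ?_⟩
    · rintro k (rfl | rfl)
      · exact ⟨j, by simp, hmi⟩
      · exact ⟨i, by simp, hmj⟩
    · rintro k (rfl | rfl)
      · exact ⟨j, by simp, hmj.symm⟩
      · exact ⟨i, by simp, hmi.symm⟩
    · rintro k (rfl | rfl)
      · rw [hmi]; exact hlm _ (by simp)
      · rw [hmj]; exact hlm _ (by simp)
  have h1 : Δ.δ c (x • c) = m * (cs.simple i * cs.simple j * cs.simple i) := by
    rw [hc, ← hwm, ← hw, h.longest]
  obtain ⟨c', hcc, hc'⟩ := Δ.exists_between h1 (h.minR _ (by rw [← hw]; exact F.wJ_mem _))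
  obtain ⟨D, hDR, hD⟩ := corr S hth hM h hmi hmj hcc (x := x) (by
    rw [Bldg.mem_Res, hc', ← hw]
    exact F.wJ_mem _)
  refine ⟨D, hDR, ?_⟩
  rw [hD, ← hi, hmv]
  calc cs.simple j * cs.simple i * (cs.simple i * cs.simple j * cs.simple i * v)
      = cs.simple j * (cs.simple i * cs.simple i) * cs.simple j * cs.simple i * v := by group
    _ = (cs.simple j * cs.simple j) * cs.simple i * v := by rw [hss]; group
    _ = cs.simple i * v := by rw [hss, one_mul]

/-- the displacement `v s_i` -/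
theorem corr' [hp : Fact p.Prime] [F : OppRes.Cox cs] [Finite C] (hth : Δ.Thick) {i j : I} (hM : M i j = 3) {v : W}
    (hi : cs.simple i * v = v * cs.simple i) (hj : cs.simple j * v = v * cs.simple j)
    (hil : ℓ (v * cs.simple i) < ℓ v) (hjl : ℓ (v * cs.simple j) < ℓ v) {x : G} (hx : ∃ c, Δ.δ c (x • c) = v) :
    ∃ D, Δ.δ D (x • D) = v * cs.simple i := by
  obtain ⟨c, hc⟩ := hx
  obtain ⟨D, -, hD⟩ := corr_loc S hth hM hi hj hil hjl hc
  exact ⟨D, hD⟩

/-- **Two nodes.** -/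
theorem star_c [hp : Fact p.Prime] [F : OppRes.Cox cs] [Finite C] (hth : Δ.Thick) {a b : G} {i j : I}
    (hM : M i j = 3) {v : W} (hv : v ∈ Dis Δ a b) (hi : cs.simple i * v = v * cs.simple i)
    (hj : cs.simple j * v = v * cs.simple j) (hil : ℓ (v * cs.simple i) < ℓ v) (hjl : ℓ (v * cs.simple j) < ℓ v) :
    v * cs.simple i ∈ Dis Δ a b :=
  ⟨corr' S hth hM hi hj hil hjl hv.1, corr' S hth hM hi hj hil hjl hv.2⟩

end Cfsg.Agent.H772.Cls
end

-- part: H772/Cls/StarD
section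
/-!
# S2451, helper772: the `A₂`-star

`star_d` : if `m(i, j) = 3`, `u` commutes with `s_i` and `s_j` and is minimal, then `u s_i` is not in `Dis Δ a b`.
In particular (`u = 1`) no simple reflection `s_i` is in `Dis Δ a b` if `m(i, j) = 3` for some `j`.
-/

set_option autoImplicit false
set_option linter.unusedSectionVars false

open scoped Pointwise

namespace Cfsg.Agent.H772.Cls

open Cfsg.Agent.Tits.Core Cfsg.Agent.Tits.Core.Bldg Cfsg.Agent.Tits.Exchange Cfsg.Agent.Tits Cfsg.Agent.FixBN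
open Cfsg.Agent.FixBN.Cox
open Cfsg.Agent.H197.Cls

variable {I : Type*} {M : CoxeterMatrix I} {W : Type*} [Group W] {cs : CoxeterSystem M W} {C : Type*}

local prefix:100 "ℓ" => cs.length

theorem par_of_comm {K : Set I} {u : W} (h : ∀ k ∈ K, cs.simple k * u = u * cs.simple k)
    (hl : ∀ k ∈ K, ℓ u < ℓ (u * cs.simple k)) : Par cs K K u :=
  ⟨fun k hk => ⟨k, hk, (h k hk).symm⟩, fun k hk => ⟨k, hk, h k hk⟩,
    (isMinL_iff cs).2 fun k hk => by rw [h k hk]; exact hl k hk, (isMinR_iff cs).2 hl⟩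

theorem comm_of_mem {K : Set I} {u : W} (h : ∀ k ∈ K, cs.simple k * u = u * cs.simple k) {w : W} (hw : w ∈ WJ cs K) :
    w * u = u * w := by
  rw [WJ] at hw
  induction hw using Subgroup.closure_induction with
  | mem x hx =>
    obtain ⟨k, hk, rfl⟩ := hx
    exact h k hk
  | one => rw [one_mul, mul_one]
  | mul x y _ _ hx hy => rw [mul_assoc, hy, ← mul_assoc, hx, mul_assoc]
  | inv x _ hx =>
    have h1 : Commute x u := hx
    exact h1.inv_left

variable {Δ : Bldg cs C} {G : Type*} [Group G] [MulAction G C] {p : ℕ} (S : Sys Δ G p)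

include S

/-- strong transitivity of the stabiliser of two parallel residues -/
theorem exists_smul_res [F : OppRes.Cox cs] (hth : Δ.Thick) {K : Set I} {u : W} (h : Par cs K K u) {c c' : C}
    (hcc : Δ.δ c c' = u) {D E D1 E1 : C} (hD : D ∈ Δ.Res K c) (hE : E ∈ Δ.Res K c) (hD1 : D1 ∈ Δ.Res K c)
    (hE1 : E1 ∈ Δ.Res K c) (he : Δ.δ D E = Δ.δ D1 E1) :
    ∃ g : G, g • Δ.Res K c = Δ.Res K c ∧ g • Δ.Res K c' = Δ.Res K c' ∧ g • D = D1 ∧ g • E = E1 := by
  obtain ⟨E', hE', hE2⟩ := exists_par h hcc hE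
  obtain ⟨E1', hE1', hE3⟩ := exists_par h hcc hE1
  have e1 : Δ.δ D E' = Δ.δ D E * u := Δ.δ_mul_of rfl hE2 (h.minL _ (Δ.δ_mem_of_mem_Res hD hE))
  have e2 : Δ.δ D1 E1' = Δ.δ D1 E1 * u := Δ.δ_mul_of rfl hE3 (h.minL _ (Δ.δ_mem_of_mem_Res hD1 hE1))
  obtain ⟨g, hg1, hg2⟩ := exists_smul_pair S hth (x := D) (y := E') (x' := D1) (y' := E1') (by rw [e1, e2, he])
  have r1 : g • Δ.Res K c = Δ.Res K c := by
    rw [← Δ.Res_eq_of_mem hD, S.smul_Res, hg1, Δ.Res_eq_of_mem hD1, Δ.Res_eq_of_mem hD]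
  have r2 : g • Δ.Res K c' = Δ.Res K c' := by
    rw [← Δ.Res_eq_of_mem hE', S.smul_Res, hg2, Δ.Res_eq_of_mem hE1', Δ.Res_eq_of_mem hE']
  refine ⟨g, r1, r2, hg1, ?_⟩
  have h3 : Δ.δ (g • E) E1' = u := by rw [← hg2, S.iso, hE2]
  have h4 : g • E ∈ Δ.Res K c := by
    rw [← r1]
    exact Set.smul_mem_smul_set hE
  have h5 := proj_of_δ h h4 h3
  have h6 := proj_of_δ h hE1 hE3
  rw [← h5, h6]

/-- **The `A₂`-star.** -/
theorem star_d [hp : Fact p.Prime] [F : OppRes.Cox cs] [Finite C] (hth : Δ.Thick) {a b : G} (hab : Good p a b)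
    {i j : I} (hM : M i j = 3) {u : W} (hi : cs.simple i * u = u * cs.simple i)
    (hj : cs.simple j * u = u * cs.simple j) (hil : ℓ u < ℓ (u * cs.simple i)) (hjl : ℓ u < ℓ (u * cs.simple j)) :
    u * cs.simple i ∉ Dis Δ a b := by
  intro hv
  have hM' : M j i = 3 := by rw [M.symmetric]; exact hM
  have hij : i ≠ j := (len_jij (cs := cs) hM).2.2.2
  have hK : ∀ k ∈ ({i, j} : Set I), cs.simple k * u = u * cs.simple k := by
    rintro k (rfl | rfl)
    · exact hi
    · exact hj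
  have h : Par cs {i, j} {i, j} u := par_of_comm hK (by
    rintro k (rfl | rfl)
    · exact hil
    · exact hjl)
  have hcm : ∀ w ∈ WJ cs ({i, j} : Set I), w * u = u * w := fun w hw => comm_of_mem hK hw
  have hmi : cs.simple i ∈ WJ cs ({i, j} : Set I) := simple_mem_WJ cs (by simp)
  have hmj : cs.simple j ∈ WJ cs ({i, j} : Set I) := simple_mem_WJ cs (by simp)
  have hne : cs.simple j * (u * cs.simple i) ≠ u * cs.simple i * cs.simple j := by
    rw [← mul_assoc, hj, mul_assoc, mul_assoc]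
    intro h1
    exact ne_ij_ji hM (mul_left_cancel h1).symm
  -- the position
  obtain ⟨g, c, hc, hbc⟩ := exists_pair S hth hv
  have hab' := hab.conjR g
  have hv' : u * cs.simple i ∈ Dis Δ a (g * b * g⁻¹) := by rw [dis_conj S]; exact hv
  set b' := g * b * g⁻¹ with hb'
  obtain ⟨c', hcc, hc'⟩ := Δ.exists_between hc (by
    have := cs.length_mul_simple u i
    rw [cs.length_simple]
    omega)
  have hax : a⁻¹ • c ∈ Δ.Res {i, j} c' := by
    rw [Bldg.mem_Res, hc']
    exact hmi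
  have hbx : b' • c ∈ Δ.Res {i, j} c' := by rw [hbc]; exact hax
  -- the two maps
  have hiso : ∀ x : G, x • c ∈ Δ.Res {i, j} c' → ∀ D ∈ Δ.Res {i, j} c, ∀ E ∈ Δ.Res {i, j} c,
      Δ.δ (psi Δ {i, j} c x D) (psi Δ {i, j} c x E) = Δ.δ D E := by
    intro x hx D hD E hE
    have h1 := psi_iso S h hcc hx hD hE
    rw [← hcm _ (Δ.δ_mem_of_mem_Res hD hE)] at h1
    exact mul_right_cancel h1
  have hno : ∀ x : G, x • c ∈ Δ.Res {i, j} c' → (∀ D, Δ.δ D (x • D) ≠ cs.simple j * (u * cs.simple i) ∧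
      Δ.δ D (x • D) ≠ u * cs.simple i * cs.simple j) → ∀ D ∈ Δ.Res {i, j} c,
      Δ.δ D (psi Δ {i, j} c x D) ≠ cs.simple i * cs.simple j ∧
      Δ.δ D (psi Δ {i, j} c x D) ≠ cs.simple j * cs.simple i := by
    intro x hx hY D hD
    have h1 := disp_eq S h hcc hx hD
    constructor
    · intro h2
      apply (hY D).2
      rw [h1, h2, hcm _ (mul_mem hmi hmj), mul_assoc]
    · intro h2
      apply (hY D).1
      rw [h1, h2, hcm _ (mul_mem hmj hmi), ← mul_assoc, ← mul_assoc, hj]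
  have hYa := hno a⁻¹ hax fun D => strongY' S hth hab hv hne D
  have hYb := hno b' hbx fun D => strongY S hth hab' hv' hne D
  set α := colOf hij (psi Δ {i, j} c a⁻¹) (fun D _ => psi_mem D) (hiso _ hax) hM (fun D hD => (hYa D hD).1)
    (fun D hD => (hYa D hD).2) with hα
  set β := colOf hij (psi Δ {i, j} c b') (fun D _ => psi_mem D) (hiso _ hbx) hM (fun D hD => (hYb D hD).1)
    (fun D hD => (hYb D hD).2) with hβ
  -- the group
  let R := Δ.Res {i, j} c
  let R' := Δ.Res {i, j} c'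
  let H : Subgroup G := MulAction.stabilizer G R ⊓ MulAction.stabilizer G R'
  have hHR : ∀ (h : H) {D : C}, D ∈ R → (h : G) • D ∈ R := by
    intro h D hD
    have h1 : (h : G) • R = R := h.2.1
    rw [← h1]
    exact Set.smul_mem_smul_set hD
  let actP : MulAction H (Pt Δ i j c) :=
    { smul := fun h s => ⟨(h : G) • s.1, by
        obtain ⟨s, D, hD, rfl⟩ := s
        exact ⟨(h : G) • D, hHR h hD, smul_Pan S _ _ _⟩⟩
      one_smul := fun s => Subtype.ext (one_smul G s.1)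
      mul_smul := fun h k s => Subtype.ext (mul_smul (h : G) (k : G) s.1) }
  let actL : MulAction H (Ln Δ i j c) :=
    { smul := fun h s => ⟨(h : G) • s.1, by
        obtain ⟨s, D, hD, rfl⟩ := s
        exact ⟨(h : G) • D, hHR h hD, smul_Pan S _ _ _⟩⟩
      one_smul := fun s => Subtype.ext (one_smul G s.1)
      mul_smul := fun h k s => Subtype.ext (mul_smul (h : G) (k : G) s.1) }
  have hsP : ∀ (h : H) (s : Pt Δ i j c), (h • s).1 = (h : G) • s.1 := fun _ _ => rfl
  have hsL : ∀ (h : H) (s : Ln Δ i j c), (h • s).1 = (h : G) • s.1 := fun _ _ => rfl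
  have hinc : ∀ (h : H) {s : Pt Δ i j c} {l : Ln Δ i j c}, Inc Δ i j c s l → Inc Δ i j c (h • s) (h • l) := by
    rintro h s l ⟨D, hD, hDl⟩
    exact ⟨(h : G) • D, Set.smul_mem_smul_set hD, Set.smul_mem_smul_set hDl⟩
  have hP := isPl (Δ := Δ) S hth hM c
  obtain ⟨k, -, hk⟩ := exists_card_Pan S hth i
  refine plane_false (H := H) hP hinc ?_ α β ?_ hp.out (k := k) ?_ ?_ ?_
  · -- transitivity
    have key : ∀ {Q : Pt Δ i j c} {m : Ln Δ i j c} {x y : Pt Δ i j c}, ¬ Inc Δ i j c Q m → Inc Δ i j c x m →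
        Inc Δ i j c y m → x ≠ y → ∃ A E, A ∈ x.1 ∧ A ∈ m.1 ∧ E ∈ Q.1 ∧
        Δ.δ A E = cs.simple i * cs.simple j * cs.simple i ∧ ∃ n : Ln Δ i j c, n ≠ m ∧ E ∈ n.1 ∧ Inc Δ i j c y n := by
      rintro Q m x y hQ ⟨A, hAx, hAm⟩ ⟨B', hB'y, hB'm⟩ hxy
      obtain ⟨n, ⟨B, hBy, hBn⟩, ⟨E, hEQ, hEn⟩⟩ := hP.join y Q
      have hnm : n ≠ m := by
        rintro rfl
        exact hQ ⟨E, hEQ, hEn⟩
      have h1 : Δ.δ A B' = cs.simple i := by
        refine Δ.δ_eq_of_mem_Pan (x := A) (Δ.self_mem_Pan i A) (by rw [← m.eq hAm]; exact hB'm) ?_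
        rintro rfl
        exact hxy (Pt.ext' hAx hB'y)
      have h2 : Δ.δ B' B = cs.simple j := by
        refine Δ.δ_eq_of_mem_Pan (x := B) (by rw [← y.eq hBy]; exact hB'y) (Δ.self_mem_Pan j B) ?_
        rintro rfl
        exact hnm (Ln.ext' hBn hB'm)
      have h3 : Δ.δ B E = cs.simple i := by
        refine Δ.δ_eq_of_mem_Pan (x := B) (Δ.self_mem_Pan i B) (by rw [← n.eq hBn]; exact hEn) ?_
        rintro rfl
        have : y = Q := Pt.ext' hBy hEQ
        exact hQ ⟨B', by rw [← this]; exact hB'y, hB'm⟩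
      obtain ⟨l2, l3, -, -⟩ := len_jij (cs := cs) hM'
      have h4 := Δ.δ_mul_of h1 h2 (by rw [l2, cs.length_simple, cs.length_simple])
      have h5 := Δ.δ_mul_of h4 h3 (by rw [l3, l2, cs.length_simple])
      exact ⟨A, E, hAx, hAm, hEQ, h5, n, hnm, hEn, ⟨B, hBy, hBn⟩⟩
    intro Q m x y Q' m' x' y' hQ hx hy hxy hQ' hx' hy' hxy'
    obtain ⟨A, E, hAx, hAm, hEQ, hAE, n, hnm, hEn, hyn⟩ := key hQ hx hy hxy
    obtain ⟨A', E', hAx', hAm', hEQ', hAE', n', hnm', hEn', hyn'⟩ := key hQ' hx' hy' hxy'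
    obtain ⟨g, hg1, hg2, hg3, hg4⟩ := exists_smul_res S hth h hcc (x.mem_Res hAx) (Q.mem_Res hEQ) (x'.mem_Res hAx')
      (Q'.mem_Res hEQ') (by rw [hAE, hAE'])
    let gH : H := ⟨g, hg1, hg2⟩
    have hm : gH • m = m' := by
      refine Ln.ext' (x := A') ?_ hAm'
      rw [hsL, ← hg3]
      exact Set.smul_mem_smul_set hAm
    have hn : gH • n = n' := by
      refine Ln.ext' (x := E') ?_ hEn'
      rw [hsL, ← hg4]
      exact Set.smul_mem_smul_set hEn
    refine ⟨gH, ?_, hm, ?_, ?_⟩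
    · refine Pt.ext' (x := E') ?_ hEQ'
      rw [hsP, ← hg4]
      exact Set.smul_mem_smul_set hEQ
    · refine Pt.ext' (x := A') ?_ hAx'
      rw [hsP, ← hg3]
      exact Set.smul_mem_smul_set hAx
    · have h1 := hinc gH hy
      have h2 := hinc gH hyn
      rw [hm] at h1
      rw [hn] at h2
      rcases hP.uniq h1 hy' h2 hyn' with h3 | h3
      · exact h3
      · exact absurd h3.symm hnm'
  · -- agreement
    intro hh
    set g' : G := (hh : G) with hg'
    have hg1 : g' • R = R := hh.2.1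
    have hg2 : g' • R' = R' := hh.2.2
    set y := g' * b' * g'⁻¹ with hy
    have hyx : y • c ∈ Δ.Res {i, j} c' := by
      have h1 : g'⁻¹ • c ∈ R := by
        have h2 : c ∈ g' • R := by rw [hg1]; exact Δ.self_mem_Res _ _
        obtain ⟨D, hD, hDc⟩ := h2
        rw [← hDc]
        show g'⁻¹ • g' • D ∈ R
        rwa [inv_smul_smul]
      have h3 : b' • g'⁻¹ • c ∈ R' := smul_mem' S hbx h1
      rw [hy, mul_smul, mul_smul]
      show g' • b' • g'⁻¹ • c ∈ R'
      rw [← hg2]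
      exact Set.smul_mem_smul_set h3
    have hPt : ∀ s : Pt Δ i j c, ((β.conj hinc hh).pt s).1 = psi Δ {i, j} c y '' s.1 := by
      intro s
      ext E
      constructor
      · rintro ⟨_, ⟨_, ⟨D, hD, rfl⟩, rfl⟩, rfl⟩
        refine ⟨D, hD, ?_⟩
        exact psi_conj S h hcc hbx hg1 (s.mem_Res hD)
      · rintro ⟨D, hD, rfl⟩
        rw [psi_conj S h hcc hbx hg1 (s.mem_Res hD)]
        exact ⟨_, ⟨_, ⟨D, hD, rfl⟩, rfl⟩, rfl⟩
    have hLn : ∀ s : Ln Δ i j c, ((β.conj hinc hh).ln s).1 = psi Δ {i, j} c y '' s.1 := by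
      intro s
      ext E
      constructor
      · rintro ⟨_, ⟨_, ⟨D, hD, rfl⟩, rfl⟩, rfl⟩
        refine ⟨D, hD, ?_⟩
        exact psi_conj S h hcc hbx hg1 (s.mem_Res hD)
      · rintro ⟨D, hD, rfl⟩
        rw [psi_conj S h hcc hbx hg1 (s.mem_Res hD)]
        exact ⟨_, ⟨_, ⟨D, hD, rfl⟩, rfl⟩, rfl⟩
    have hz : PE p (a * y) := hab' g'
    have hzR : ∀ D ∈ R, ∀ E ∈ R, psi Δ {i, j} c a⁻¹ D = psi Δ {i, j} c y E → (a * y) • E = D := by
      intro D hD E hE he
      have h1 := (psi_eq_iff S h hcc hax hyx hD hE).1 he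
      rw [mul_smul, ← h1, smul_inv_smul]
    have hzR' : ∀ D, (a * y) • D = D → psi Δ {i, j} c a⁻¹ D = psi Δ {i, j} c y D := by
      intro D hD
      have h1 : y • D = a⁻¹ • D := by rw [eq_inv_smul_iff, ← mul_smul, hD]
      rw [psi, psi, h1]
    have hag : ∀ (s : Pt Δ i j c) (D : C), D ∈ s.1 → (a * y) • D = D → α.pt s = (β.conj hinc hh).pt s := by
      intro s D hD hzD
      refine Pt.ext' (x := psi Δ {i, j} c a⁻¹ D) ⟨D, hD, rfl⟩ ?_
      rw [hPt, hzR' D hzD]
      exact ⟨D, hD, rfl⟩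
    constructor
    · intro l hl
      obtain ⟨D, hD⟩ := l.exists_mem
      have h1 : psi Δ {i, j} c a⁻¹ D ∈ ((β.conj hinc hh).ln l).1 := by
        rw [← hl]
        exact ⟨D, hD, rfl⟩
      rw [hLn] at h1
      obtain ⟨E, hE, he⟩ := h1
      have h2 := hzR D (l.mem_Res hD) E (l.mem_Res hE) he.symm
      have h3 : (a * y) • E ∈ Δ.Pan i E := by
        rw [h2, ← l.eq hE]
        exact hD
      obtain ⟨E', hE', hzE⟩ := exists_fixed_pan S hz h3
      have hEl : E' ∈ l.1 := by rw [l.eq hE]; exact hE'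
      exact ⟨mkPt (l.mem_Res hEl), ⟨E', Δ.self_mem_Pan j E', hEl⟩, hag _ E' (Δ.self_mem_Pan j E') hzE⟩
    · intro l hl
      have hfix : ∀ s : Pt Δ i j c, Inc Δ i j c s l → α.pt s = (β.conj hinc hh).pt s → ∃ A, A ∈ s.1 ∧ A ∈ l.1 ∧
          (a * y) • A = A := by
        rintro s ⟨A, hAs, hAl⟩ hs
        refine ⟨A, hAs, hAl, ?_⟩
        have h1 : psi Δ {i, j} c a⁻¹ A ∈ ((β.conj hinc hh).ln l).1 := by
          rw [← hl]
          exact ⟨A, hAl, rfl⟩
        rw [hLn] at h1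
        have h2 : psi Δ {i, j} c a⁻¹ A ∈ ((β.conj hinc hh).pt s).1 := by
          rw [← hs]
          exact ⟨A, hAs, rfl⟩
        rw [hPt] at h2
        obtain ⟨A1, hA1, he1⟩ := h1
        obtain ⟨A2, hA2, he2⟩ := h2
        have h3 := hzR A (l.mem_Res hAl) A1 (l.mem_Res hA1) he1.symm
        have h4 := hzR A (l.mem_Res hAl) A2 (s.mem_Res hA2) he2.symm
        have h5 : A1 = A2 := smul_left_cancel (a * y) (by rw [h3, h4])
        rw [← h5] at hA2
        have h6 : A1 = A := eq_of_Pan_Pan hij (by rw [← l.eq hAl]; exact hA1) (by rw [← s.eq hAs]; exact hA2)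
        rw [h6] at h3
        exact h3
      intro s t hs ht hst hs1 ht1 r hr
      obtain ⟨A, hAs, hAl, hzA⟩ := hfix s hs hs1
      obtain ⟨B, hBt, hBl, hzB⟩ := hfix t ht ht1
      obtain ⟨E, hEr, hEl⟩ := hr
      have hBA : B ≠ A := by
        rintro rfl
        exact hst (Pt.ext' hAs hBt)
      refine hag r E hEr ?_
      exact fix_pan S (mem_U S hz hzA) (by rw [← l.eq hAl]; exact hBl) hBA hzB (by rw [← l.eq hAl]; exact hEl)
  · intro l
    rw [card_line hij l]
    obtain ⟨D, hD⟩ := l.exists_mem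
    rw [l.eq hD]
    exact hk D
  · have hc0 : c ∈ Δ.Res {i, j} c := Δ.self_mem_Res _ _
    have h1 := disp_eq S h hcc hax hc0
    rw [hc, ← hi] at h1
    have h2 : Δ.δ c (psi Δ {i, j} c a⁻¹ c) = cs.simple i := (mul_right_cancel h1).symm
    refine ⟨mkLn hc0, mkPt hc0, ?_, ⟨c, Δ.self_mem_Pan j c, Δ.self_mem_Pan i c⟩, ?_⟩
    · exact Ln.ext' (x := psi Δ {i, j} c a⁻¹ c) ⟨c, Δ.self_mem_Pan i c, rfl⟩ (Δ.mem_Pan_of_δ h2)
    · intro h3
      have h4 : psi Δ {i, j} c a⁻¹ c ∈ (α.pt (mkPt hc0)).1 := ⟨c, Δ.self_mem_Pan j c, rfl⟩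
      rw [h3] at h4
      exact Δ.ne_of_δ_simple h2 (eq_of_Pan_Pan hij (Δ.mem_Pan_of_δ h2) h4).symm
  · have hc0 : c ∈ Δ.Res {i, j} c := Δ.self_mem_Res _ _
    have h1 := disp_eq S h hcc hbx hc0
    rw [hbc, hc, ← hi] at h1
    have h2 : Δ.δ c (psi Δ {i, j} c b' c) = cs.simple i := (mul_right_cancel h1).symm
    refine ⟨mkLn hc0, mkPt hc0, ?_, ⟨c, Δ.self_mem_Pan j c, Δ.self_mem_Pan i c⟩, ?_⟩
    · exact Ln.ext' (x := psi Δ {i, j} c b' c) ⟨c, Δ.self_mem_Pan i c, rfl⟩ (Δ.mem_Pan_of_δ h2)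
    · intro h3
      have h4 : psi Δ {i, j} c b' c ∈ (β.pt (mkPt hc0)).1 := ⟨c, Δ.self_mem_Pan j c, rfl⟩
      rw [h3] at h4
      exact Δ.ne_of_δ_simple h2 (eq_of_Pan_Pan hij (Δ.mem_Pan_of_δ h2) h4).symm

end Cfsg.Agent.H772.Cls
end

private theorem dce_fe1e937c2b64 : _root_.True := by
  try have : _root_.True := by simp only [_root_.Cfsg.Agent.H772.Cls.psi.eq_1]
  exact _root_.True.intro
end

-- part: H82/AH/Rig
section
set_option linter.all false
open scoped Cfsg.Agent.FastGrp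

/-!
# S2451 (helper82): elements acting as `p`-elements on the panels of a fixed chamber

* `pe_of_triv` : an element fixing a chamber `c` and acting as a `p`-element on each panel of `c` is a `p`-element;
* `pe_of_mul` : the same for a factor of a `p`-element, the other factor being trivial on the panels moved by it;
* `pe_of_one_mem` : if `1 ∈ Dis` and no simple reflection is in `Dis`, then `a` and `b` are `p`-elements.
-/

set_option autoImplicit false
set_option linter.unusedSectionVars false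

open scoped Pointwise

namespace Cfsg.Agent.H82.AH

open Cfsg.Agent.Tits.Core Cfsg.Agent.Tits.Core.Bldg Cfsg.Agent.Tits.Exchange Cfsg.Agent.Tits Cfsg.Agent.FixBN
open Cfsg.Agent.H197.Cls

variable {I : Type*} {M : CoxeterMatrix I} {W : Type*} [Group W] {cs : CoxeterSystem M W} {C : Type*}
  {Δ : Bldg cs C} {G : Type*} [Group G] [MulAction G C] {p : ℕ} (S : Sys Δ G p)

variable [F : OppRes.Cox cs] [Finite W] [Finite I] [Finite G] [hp : Fact p.Prime] (hth : Δ.Thick)
  (hfaith : ∀ g : G, (∀ x : C, g • x = x) → g = 1)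

include S hth hfaith in
theorem pe_of_triv {x : G} {c : C} (hc : x • c = c) (h : ∀ i, ∃ k : ℕ, ∀ y ∈ Δ.Pan i c, (x ^ p ^ k) • y = y) :
    PE p x := by
  have hpos : 0 < orderOf x := orderOf_pos x
  by_cases hall : ∀ {d : ℕ}, d.Prime → d ∣ orderOf x → d = p
  · have h1 := Nat.eq_prime_pow_of_unique_prime_dvd hpos.ne' hall
    exact ⟨_, by rw [← h1]; exact pow_orderOf_eq_one x⟩
  · push Not at hall
    obtain ⟨l, hl, hlx, hlp⟩ := hall
    have : Fact l.Prime := ⟨hl⟩
    exfalso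
    obtain ⟨m, hm⟩ := hlx
    have hm0 : m ≠ 0 := by
      rintro rfl
      rw [mul_zero] at hm
      omega
    have hord : orderOf (x ^ m) = l := by
      rw [orderOf_pow_of_dvd hm0 (by rw [hm]; exact Dvd.intro_left _ rfl), hm]
      exact Nat.mul_div_cancel _ (Nat.pos_of_ne_zero hm0)
    have hP : IsPGroup l (Subgroup.zpowers (x ^ m)) := by
      refine IsPGroup.of_card (n := 1) ?_
      rw [Nat.card_zpowers, hord, pow_one]
    have hPc : ∀ g ∈ Subgroup.zpowers (x ^ m), g • c = c := by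
      have h1 : Subgroup.zpowers (x ^ m) ≤ MulAction.stabilizer G c := by
        rw [Subgroup.zpowers_le]
        exact pow_mem (show x ∈ MulAction.stabilizer G c from hc) m
      exact fun g hg => h1 hg
    obtain ⟨d, hcd, hPd⟩ := H716.RegUni.exists_opp_fixed S hlp (Subgroup.zpowers (x ^ m)) hP hPc
    have hy1 : x ^ m = 1 := by
      apply hfaith
      intro z
      refine Rigid.rigid (Δ := Δ) (Δ' := Δ) hth (J := Set.univ) (c := c) (d := d) (φ := fun y => (x ^ m) • y)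
        (ψ := fun y => y) (fun a _ b _ => S.iso (x ^ m) a b) (fun a _ b _ => rfl) ?_ hcd
        (hPd _ (Subgroup.mem_zpowers _)) z
        (by change Δ.δ c z ∈ WJ cs Set.univ; rw [OppRes.WJ_univ]; trivial)
      intro j _ y hy
      obtain ⟨k, hk⟩ := h j
      -- `x ^ m` is a power of `(x ^ m) ^ p ^ k`
      have hcop : (orderOf (x ^ m)).Coprime (p ^ k) := by
        rw [hord]
        exact Nat.Coprime.pow_right k ((Nat.coprime_primes hl hp.out).2 hlp)
      obtain ⟨s, hs⟩ := exists_pow_eq_self_of_coprime hcop.symm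
      have h2 : (x ^ p ^ k) ∈ MulAction.stabilizer G y := hk y hy
      have h3 : x ^ m ∈ MulAction.stabilizer G y := by
        have e : (x ^ m) ^ p ^ k = (x ^ p ^ k) ^ m := by rw [← pow_mul, mul_comm m, pow_mul]
        rw [← hs, e]
        exact pow_mem (pow_mem h2 m) s
      exact h3
    rw [hy1, orderOf_one] at hord
    exact hl.one_lt.ne hord

include S hth hfaith in
/-- if `z = a * b` is a `p`-element, `a` fixes `c` and one of `a`, `b` is trivial on each panel of `c`, then `a` is a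
`p`-element -/
theorem pe_of_mul {a b : G} {c : C} (ha : a • c = c) (hz : PE p (a * b))
    (h : ∀ i, (∀ y ∈ Δ.Pan i c, a • y = y) ∨ ∀ y ∈ Δ.Pan i c, b • y = y) : PE p a := by
  obtain ⟨n, hn⟩ := hz
  refine pe_of_triv S hth hfaith ha fun i => ?_
  rcases h i with h1 | h1
  · exact ⟨0, fun y hy => by rw [pow_zero, pow_one]; exact h1 y hy⟩
  · refine ⟨n, fun y hy => ?_⟩
    have hmem : ∀ k : ℕ, (a ^ k) • y ∈ Δ.Pan i c := by
      intro k
      induction k with
      | zero => rw [pow_zero, one_smul]; exact hy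
      | succ k ih =>
        rw [pow_succ', mul_smul]
        have := smul_mem_Pan S (g := a) ih
        rwa [ha] at this
    have key : ∀ k : ℕ, ((a * b) ^ k) • y = (a ^ k) • y := by
      intro k
      induction k with
      | zero => rw [pow_zero, pow_zero]
      | succ k ih => rw [pow_succ', mul_smul, ih, mul_smul, h1 _ (hmem k), pow_succ' a, mul_smul]
    rw [← key, hn, one_smul]

end Cfsg.Agent.H82.AH
end

-- part: H82/AH/D4Two
section
prune_inst 0x20003404300002000000001262003e62c6000190002b0000d1e00f420f877d2200402f20feb00d0200e2a2844838004000100470400000000a000000013d06a9802042009318ad04360009808002000000000000000000000000000000041000200400000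
set_option linter.all false
open scoped Cfsg.Agent.FastGrp

-- part: H82/AH/Three
section
/-!
# S2451 (helper82): panels with three chambers (`p = 2`)

`Good 2 a b`, `i` a type with panels of three chambers.
* `cyc_cyc`, `tr_tr` : `a⁻¹` and `b` are not both cycles and not both transpositions on a common panel;
* `no_fix` : if `s_i ∈ Dis` and `1 ∉ Dis`, `a * b` does not fix all chambers of a panel stable under `a⁻¹` and `b`;
* `false_of_one` : `s_i, 1 ∈ Dis` but `s_j ∉ Dis` for `j ≠ i` is impossible.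
-/

set_option autoImplicit false
set_option linter.unusedSectionVars false

open scoped Pointwise

namespace Cfsg.Agent.H82.AH

open Cfsg.Agent.Tits.Core Cfsg.Agent.Tits.Core.Bldg Cfsg.Agent.Tits.Exchange Cfsg.Agent.Tits Cfsg.Agent.FixBN
open Cfsg.Agent.H197.Cls

variable {I : Type*} {M : CoxeterMatrix I} {W : Type*} [Group W] {cs : CoxeterSystem M W} {C : Type*}
  {Δ : Bldg cs C} {G : Type*} [Group G] [MulAction G C] (S : Sys Δ G 2)

/-- the third chamber -/
theorem exists_third {i : I} (hq : Δ.Param i 2) {c d : C} (hd : d ∈ Δ.Pan i c) (hne : d ≠ c) :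
    ∃ e ∈ Δ.Pan i c, e ≠ c ∧ e ≠ d ∧ ∀ y ∈ Δ.Pan i c, y = c ∨ y = d ∨ y = e := by
  have h3 : (Δ.Pan i c).ncard = 3 := by
    have := hq c
    rwa [Nat.card_coe_set_eq] at this
  have hfin : (Δ.Pan i c).Finite := Set.finite_of_ncard_ne_zero (by rw [h3]; norm_num)
  have h1 : (Δ.Pan i c \ {c, d}).ncard = 1 := by
    rw [Set.ncard_sdiff ?_ (Set.toFinite _), h3, Set.ncard_pair hne.symm]
    rintro y (rfl | hy)
    · exact Δ.self_mem_Pan i y
    · rw [Set.mem_singleton_iff] at hy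
      rw [hy]; exact hd
  obtain ⟨e, he⟩ := Set.ncard_eq_one.1 h1
  have he' : e ∈ Δ.Pan i c \ {c, d} := by rw [he]; rfl
  refine ⟨e, he'.1, fun h => he'.2 (Or.inl h), fun h => he'.2 (Or.inr h), fun y hy => ?_⟩
  by_cases h2 : y = c
  · exact Or.inl h2
  by_cases h3 : y = d
  · exact Or.inr (Or.inl h3)
  right; right
  have h4 : y ∈ Δ.Pan i c \ {c, d} := ⟨hy, by
    rintro (h5 | h5)
    · exact h2 h5
    · exact h3 h5⟩
  rw [he] at h4
  exact h4

/-- an element of the stabiliser of a panel with three chambers -/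
theorem third_smul {i : I} {c d e : C} {x : G} (hall : ∀ y ∈ Δ.Pan i c, y = c ∨ y = d ∨ y = e)
    (hx : ∀ y ∈ Δ.Pan i c, x • y ∈ Δ.Pan i c) {y u v : C} (hy : y ∈ Δ.Pan i c) {u' v' : C}
    (hu : x • u = u') (hv : x • v = v') (hyu : y ≠ u) (hyv : y ≠ v) {w : C}
    (hw : ∀ t, (t = c ∨ t = d ∨ t = e) → t ≠ u' → t ≠ v' → t = w) : x • y = w := by
  refine hw _ (hall _ (hx y hy)) ?_ ?_
  · rw [← hu]; exact fun h => hyu (smul_left_cancel x h)
  · rw [← hv]; exact fun h => hyv (smul_left_cancel x h)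

variable [F : OppRes.Cox cs]

include S

theorem stab_pan {i : I} {c : C} {x : G} (h : x • c ∈ Δ.Pan i c) : ∀ y ∈ Δ.Pan i c, x • y ∈ Δ.Pan i c := by
  intro y hy
  have h1 := smul_mem_Pan S (g := x) hy
  rwa [Δ.Pan_eq_of_mem h] at h1

/-- **not both cycles** -/
theorem cyc_cyc {a b : G} (hab : Good 2 a b) {i : I} {c d e : C} (hd : d ∈ Δ.Pan i c)
    (he : e ∈ Δ.Pan i c) (hdc : d ≠ c) (hec : e ≠ c) (hed : e ≠ d)
    (hall : ∀ y ∈ Δ.Pan i c, y = c ∨ y = d ∨ y = e) (ha1 : a⁻¹ • c = d) (ha2 : a⁻¹ • d = e)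
    (hb1 : b • c = d) (hb2 : b • d = e) : False := by
  have hw : ∀ t, (t = c ∨ t = d ∨ t = e) → t ≠ d → t ≠ e → t = c := by
    rintro t (h | h | h) h1 h2
    · exact h
    · exact absurd h h1
    · exact absurd h h2
  have ha3 : a⁻¹ • e = c :=
    third_smul hall (stab_pan S (by rw [ha1]; exact hd)) he ha1 ha2 hec hed hw
  have hb3 : b • e = c :=
    third_smul hall (stab_pan S (by rw [hb1]; exact hd)) he hb1 hb2 hec hed hw
  obtain ⟨u, hu, hud⟩ := S.exists_move (x := c) (z := d) (z' := e) (by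
    rw [Δ.δ_symm_simple (Δ.δ_eq_of_mem_Pan hd (Δ.self_mem_Pan i c) hdc),
      Δ.δ_symm_simple (Δ.δ_eq_of_mem_Pan he (Δ.self_mem_Pan i c) hec)])
  have huc : u • c = c := S.fix c u hu
  have hue : u • e = d :=
    third_smul hall (stab_pan S (by rw [huc]; exact Δ.self_mem_Pan i c)) he huc hud hec hed (by
      rintro t (h | h | h) h1 h2
      · exact absurd h h1
      · exact h
      · exact absurd h h2)
  have e1 : (a * (u * b * u⁻¹)) • c = d := by
    have h1 : u⁻¹ • c = c := by rw [inv_smul_eq_iff, huc]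
    rw [mul_smul, mul_smul, mul_smul, h1, hb1, hud, ← ha2, smul_inv_smul]
  have e2 : (a * (u * b * u⁻¹)) • e = c := by
    have h1 : u⁻¹ • e = d := by rw [inv_smul_eq_iff, hud]
    rw [mul_smul, mul_smul, mul_smul, h1, hb2, hue, ← ha1, smul_inv_smul]
  have e3 : (a * (u * b * u⁻¹)) • d = e := by
    have h1 : u⁻¹ • d = e := by rw [inv_smul_eq_iff, hue]
    rw [mul_smul, mul_smul, mul_smul, h1, hb3, huc, ← ha3, smul_inv_smul]
  obtain ⟨y, hy, hyy⟩ := exists_fixed_pan S (hab u) (i := i) (x := c) (by rw [e1]; exact hd)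
  rcases hall y hy with rfl | rfl | rfl
  · exact hdc (e1.symm.trans hyy)
  · exact hed (e3.symm.trans hyy)
  · exact hec (e2.symm.trans hyy).symm

/-- **not both transpositions** -/
theorem tr_tr {a b : G} (hab : Good 2 a b) {i : I} {c d e : C} (hd : d ∈ Δ.Pan i c)
    (he : e ∈ Δ.Pan i c) (hdc : d ≠ c) (hec : e ≠ c) (hed : e ≠ d)
    (hall : ∀ y ∈ Δ.Pan i c, y = c ∨ y = d ∨ y = e) (ha1 : a⁻¹ • c = d) (ha2 : a⁻¹ • d = c)
    (hb1 : b • c = d) (hb2 : b • d = c) : False := by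
  have hw : ∀ t, (t = c ∨ t = d ∨ t = e) → t ≠ d → t ≠ c → t = e := by
    rintro t (h | h | h) h1 h2
    · exact absurd h h2
    · exact absurd h h1
    · exact h
  have ha3 : a⁻¹ • e = e :=
    third_smul hall (stab_pan S (by rw [ha1]; exact hd)) he ha1 ha2 hec hed hw
  have hb3 : b • e = e :=
    third_smul hall (stab_pan S (by rw [hb1]; exact hd)) he hb1 hb2 hec hed hw
  obtain ⟨u, hu, hud⟩ := S.exists_move (x := c) (z := d) (z' := e) (by
    rw [Δ.δ_symm_simple (Δ.δ_eq_of_mem_Pan hd (Δ.self_mem_Pan i c) hdc),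
      Δ.δ_symm_simple (Δ.δ_eq_of_mem_Pan he (Δ.self_mem_Pan i c) hec)])
  have huc : u • c = c := S.fix c u hu
  have hue : u • e = d :=
    third_smul hall (stab_pan S (by rw [huc]; exact Δ.self_mem_Pan i c)) he huc hud hec hed (by
      rintro t (h | h | h) h1 h2
      · exact absurd h h1
      · exact h
      · exact absurd h h2)
  -- `u b u⁻¹ = (c e)`, `a = (c d)`
  have e1 : (a * (u * b * u⁻¹)) • c = e := by
    have h1 : u⁻¹ • c = c := by rw [inv_smul_eq_iff, huc]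
    have h2 : a • e = e := by rw [← inv_smul_eq_iff.1 ha3]
    rw [mul_smul, mul_smul, mul_smul, h1, hb1, hud, h2]
  have e2 : (a * (u * b * u⁻¹)) • e = d := by
    have h1 : u⁻¹ • e = d := by rw [inv_smul_eq_iff, hud]
    rw [mul_smul, mul_smul, mul_smul, h1, hb2, huc, ← ha2, smul_inv_smul]
  have e3 : (a * (u * b * u⁻¹)) • d = c := by
    have h1 : u⁻¹ • d = e := by rw [inv_smul_eq_iff, hue]
    rw [mul_smul, mul_smul, mul_smul, h1, hb3, hue, ← ha1, smul_inv_smul]
  obtain ⟨y, hy, hyy⟩ := exists_fixed_pan S (hab u) (i := i) (x := c) (by rw [e1]; exact he)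
  rcases hall y hy with rfl | rfl | rfl
  · exact hec (e1.symm.trans hyy)
  · exact hdc (e3.symm.trans hyy).symm
  · exact hed (e2.symm.trans hyy).symm

/-- **no pointwise fixed panel** -/
theorem no_fix {a b : G} (hab : Good 2 a b) {i : I} (hq : Δ.Param i 2) (h1 : (1 : W) ∉ Dis Δ a b) {c : C}
    (hc : Δ.δ c (a⁻¹ • c) = cs.simple i) (hfix : ∀ y ∈ Δ.Pan i c, b • y = a⁻¹ • y) : False := by
  have hd : a⁻¹ • c ∈ Δ.Pan i c := Δ.mem_Pan_of_δ hc
  have hdc : a⁻¹ • c ≠ c := (Δ.ne_of_δ_simple hc).symm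
  obtain ⟨e, he, hec, hed, hall⟩ := exists_third hq hd hdc
  have hne : ∀ y ∈ Δ.Pan i c, a⁻¹ • y ≠ y := by
    intro y hy hyy
    apply h1
    have h2 := mem_dis (Δ := Δ) S (hfix y hy)
    rw [hfix y hy, hyy, Δ.δ_self] at h2
    exact h2
  have hstab := stab_pan S (x := a⁻¹) hd
  have ha2 : a⁻¹ • (a⁻¹ • c) = e := by
    rcases hall _ (hstab _ hd) with h | h | h
    · exfalso
      -- `e` is fixed
      refine hne e he (third_smul hall hstab he (x := a⁻¹) rfl h hec hed ?_)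
      rintro t (h2 | h2 | h2) h3 h4
      · exact absurd h2 h4
      · exact absurd h2 h3
      · exact h2
    · exact absurd h (hne _ hd)
    · exact h
  exact cyc_cyc S hab hd he hdc hec hed hall rfl ha2 (hfix c (Δ.self_mem_Pan i c)) (by rw [hfix _ hd, ha2])

variable [Finite W] [Finite I] [Finite G] (hth : Δ.Thick) (hfaith : ∀ g : G, (∀ x : C, g • x = x) → g = 1)

include hth hfaith in
/-- the asymmetric case: `a⁻¹` is a cycle, `b` a transposition of a common panel -/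
theorem false_of_cyc_tr {a b : G} (hab : Good 2 a b) {i : I} (hq : Δ.Param i 2) (h1 : (1 : W) ∈ Dis Δ a b)
    (hj : ∀ j, j ≠ i → cs.simple j ∉ Dis Δ a b) {c d e : C} (hd : d ∈ Δ.Pan i c)
    (he : e ∈ Δ.Pan i c) (hdc : d ≠ c) (hec : e ≠ c) (hed : e ≠ d)
    (hall : ∀ y ∈ Δ.Pan i c, y = c ∨ y = d ∨ y = e) (ha1 : a⁻¹ • c = d) (ha2 : a⁻¹ • d = e)
    (hb1 : b • c = d) (hb2 : b • d = c) : False := by
  have ha3 : a⁻¹ • e = c :=
    third_smul hall (stab_pan S (by rw [ha1]; exact hd)) he ha1 ha2 hec hed (by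
      rintro t (h | h | h) h1 h2
      · exact h
      · exact absurd h h1
      · exact absurd h h2)
  -- `a` is trivial on the `i`-panels of its fixed chambers
  have htriv : ∀ c1 : C, a • c1 = c1 → ∀ y ∈ Δ.Pan i c1, a • y = y := by
    intro c1 hc1 y hy
    by_contra hne
    have hyc : y ≠ c1 := by rintro rfl; exact hne hc1
    have hy' : a • y ∈ Δ.Pan i c1 := stab_pan S (by rw [hc1]; exact Δ.self_mem_Pan i c1) y hy
    have hyc' : a • y ≠ c1 := fun h => hyc (smul_left_cancel a (h.trans hc1.symm))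
    obtain ⟨t, ht, htc, hty, hall'⟩ := exists_third hq hy hyc
    have e1 : a • y = t := by
      rcases hall' _ hy' with h | h | h
      · exact absurd h hyc'
      · exact absurd h hne
      · exact h
    have e2 : a • t = y := by
      refine third_smul hall' (stab_pan S (by rw [hc1]; exact Δ.self_mem_Pan i c1)) ht hc1 e1 htc hty ?_
      rintro s (h | h | h) h2 h3
      · exact absurd h h2
      · exact h
      · exact absurd h h3
    -- move `y, t` to `c, d`
    have hyt : Δ.δ y t = Δ.δ c d := by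
      rw [Δ.δ_eq_of_mem_Pan hy ht hty.symm, Δ.δ_eq_of_mem_Pan (Δ.self_mem_Pan i c) hd hdc.symm]
    obtain ⟨g, hg1, hg2⟩ := exists_smul_pair S hth hyt
    have g1 : g⁻¹ • c = y := by rw [inv_smul_eq_iff, hg1]
    have g2 : g⁻¹ • d = t := by rw [inv_smul_eq_iff, hg2]
    refine tr_tr S (hab.conjL g) hd he hdc hec hed hall ?_ ?_ hb1 hb2
    · rw [inv_smul_eq_iff, mul_smul, mul_smul, g2, e2, hg1]
    · rw [inv_smul_eq_iff, mul_smul, mul_smul, g1, e1, hg2]
  -- a common fixed chamber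
  obtain ⟨g, c1, hc1, hbc⟩ := exists_pair S hth h1
  have hac : a⁻¹ • c1 = c1 := (Δ.eq_of_δ_eq_one hc1).symm
  have hac' : a • c1 = c1 := (inv_smul_eq_iff.1 hac).symm
  rw [hac] at hbc
  have hpe : PE 2 a := by
    refine pe_of_mul S hth hfaith hac' (hab g) fun j => ?_
    by_cases hji : j = i
    · subst hji
      exact Or.inl (htriv c1 hac')
    · by_contra hcon
      rw [not_or] at hcon
      obtain ⟨h2, h3⟩ := hcon
      push Not at h2 h3
      obtain ⟨y, hy, hy'⟩ := h2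
      obtain ⟨y2, hy2, hy2'⟩ := h3
      apply hj j hji
      rw [← dis_conj S g]
      have m1 : Mv Δ j a := by
        refine ⟨c1, y, hac', ?_, hy'⟩
        refine Δ.δ_eq_of_mem_Pan (Δ.self_mem_Pan j c1) hy ?_
        rintro rfl
        exact hy' hac'
      have m2 : Mv Δ j (g * b * g⁻¹) := by
        refine ⟨c1, y2, hbc, ?_, hy2'⟩
        refine Δ.δ_eq_of_mem_Pan (Δ.self_mem_Pan j c1) hy2 ?_
        rintro rfl
        exact hy2' hbc
      exact ⟨delta_of_mv S (Mv.inv S m1), delta_of_mv S m2⟩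
  have hpe' : PE 2 a⁻¹ := by
    obtain ⟨k, hk⟩ := hpe
    exact ⟨k, by rw [inv_pow, hk, inv_one]⟩
  obtain ⟨y, hy, hyy⟩ := exists_fixed_pan S hpe' (i := i) (x := c) (by rw [ha1]; exact hd)
  rcases hall y hy with rfl | rfl | rfl
  · exact hdc (ha1.symm.trans hyy)
  · exact hed (ha2.symm.trans hyy)
  · exact hec (ha3.symm.trans hyy).symm

include hth hfaith in
/-- **`1, s_i ∈ Dis`, `s_j ∉ Dis` for the other `j`** -/
theorem false_of_one {a b : G} (hab : Good 2 a b) {i : I} (hq : Δ.Param i 2) (h1 : (1 : W) ∈ Dis Δ a b)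
    (hi : cs.simple i ∈ Dis Δ a b) (hj : ∀ j, j ≠ i → cs.simple j ∉ Dis Δ a b) : False := by
  obtain ⟨g, c, hc, hbc⟩ := exists_pair S hth hi
  have hab' := hab.conjR g
  rw [← dis_conj S g] at h1 hi
  have hj' : ∀ j, j ≠ i → cs.simple j ∉ Dis Δ a (g * b * g⁻¹) := by
    intro j hji
    rw [dis_conj S g]
    exact hj j hji
  set b' := g * b * g⁻¹ with hb'
  have hd : a⁻¹ • c ∈ Δ.Pan i c := Δ.mem_Pan_of_δ hc
  have hdc : a⁻¹ • c ≠ c := (Δ.ne_of_δ_simple hc).symm
  obtain ⟨e, he, hec, hed, hall⟩ := exists_third hq hd hdc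
  have key : ∀ x : G, x • c = a⁻¹ • c → x • (a⁻¹ • c) = c ∨ x • (a⁻¹ • c) = e := by
    intro x hx
    rcases hall _ (stab_pan S (by rw [hx]; exact hd) _ hd) with h | h | h
    · exact Or.inl h
    · exact absurd (smul_left_cancel x (h.trans hx.symm)) hdc
    · exact Or.inr h
  rcases key a⁻¹ rfl with ha | ha <;> rcases key b' hbc with hb | hb
  · exact tr_tr S hab' hd he hdc hec hed hall rfl ha hbc hb
  · -- exchange the two
    refine false_of_cyc_tr S hth hfaith (a := b'⁻¹) (b := a⁻¹) hab'.inv hq ?_ ?_ hd he hdc hec hed hall ?_ ?_ rfl ha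
    · obtain ⟨h2, h3⟩ := h1
      exact ⟨by rwa [inv_inv], h2⟩
    · intro j hji hj2
      obtain ⟨h2, h3⟩ := hj2
      exact hj' j hji ⟨h3, by rwa [inv_inv] at h2⟩
    · rw [inv_inv, hbc]
    · rw [inv_inv, hb]
  · exact false_of_cyc_tr S hth hfaith hab' hq h1 hj' hd he hdc hec hed hall rfl ha hbc hb
  · exact cyc_cyc S hab' hd he hdc hec hed hall rfl ha hbc hb

end Cfsg.Agent.H82.AH
end

-- part: H82/AH/Hex
section
/-!
# S2451 (helper82): the Weyl group of type `G₂` as the dihedral group of order 12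

`exists_dih` : an isomorphism `e : W ≃* DihedralGroup 6` with `e s₀ = sr 0`, `e s₁ = sr 1`, and the length function is `len`.
-/

set_option autoImplicit false

namespace Cfsg.Agent.H82.AH.Hex

open DihedralGroup Cfsg.Agent.Tits.Core

/-- The length function. -/
def len : DihedralGroup 6 → ℕ
  | .r k => ![0, 2, 4, 6, 4, 2] k
  | .sr k => ![1, 1, 3, 5, 5, 3] k

/-- The generators. -/
def gen : Fin 2 → DihedralGroup 6 := ![sr 0, sr 1]

theorem len_gen_mul : ∀ (i : Fin 2) (d : DihedralGroup 6), len (gen i * d) ≤ len d + 1 := by decide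

theorem len_one : len 1 = 0 := by decide

/-- A reduced word. -/
def word : DihedralGroup 6 → List (Fin 2)
  | .r k => ![[], [0, 1], [0, 1, 0, 1], [0, 1, 0, 1, 0, 1], [1, 0, 1, 0], [1, 0]] k
  | .sr k => ![[0], [1], [1, 0, 1], [1, 0, 1, 0, 1], [0, 1, 0, 1, 0], [0, 1, 0]] k

theorem word_ok : ∀ d : DihedralGroup 6, (word d).length = len d ∧ ((word d).map gen).prod = d := by decide

theorem liftable : CoxeterMatrix.G₂.IsLiftable gen := by
  intro i j
  revert i j
  decide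

variable {W : Type*} [Group W] (cs : CoxeterSystem CoxeterMatrix.G₂ W)

/-- The homomorphism. -/
noncomputable def hom : W →* DihedralGroup 6 := cs.lift ⟨gen, liftable⟩

theorem hom_simple (i : Fin 2) : hom cs (cs.simple i) = gen i := cs.lift_apply_simple liftable i

theorem hom_wordProd (ω : List (Fin 2)) : hom cs (cs.wordProd ω) = (ω.map gen).prod := by
  induction ω with
  | nil => rw [cs.wordProd_nil, map_one]; rfl
  | cons i ω ih => rw [cs.wordProd_cons, map_mul, ih, hom_simple, List.map_cons, List.prod_cons]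

theorem len_le (w : W) : len (hom cs w) ≤ cs.length w := by
  obtain ⟨ω, hω, rfl⟩ := cs.exists_isReduced w
  rw [hω.eq]
  clear hω
  induction ω with
  | nil => rw [cs.wordProd_nil, map_one, len_one]; exact Nat.zero_le _
  | cons i ω ih =>
    rw [cs.wordProd_cons, map_mul, hom_simple, List.length_cons]
    exact (len_gen_mul i _).trans (Nat.succ_le_succ ih)

/-- the elements -/
theorem cases_w (w : W) : ∃ k : Fin 6, w = (cs.simple 0 * cs.simple 1) ^ (k : ℕ) ∨
    w = cs.simple 0 * (cs.simple 0 * cs.simple 1) ^ (k : ℕ) := by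
  have h6 : (cs.simple 0 * cs.simple 1) ^ 6 = 1 := cs.simple_mul_simple_pow 0 1
  have haa : cs.simple 0 * cs.simple 0 = 1 := cs.simple_mul_simple_self 0
  have hbb : cs.simple 1 * cs.simple 1 = 1 := cs.simple_mul_simple_self 1
  have hred : ∀ n : ℕ, ∃ k : Fin 6, (cs.simple 0 * cs.simple 1) ^ n = (cs.simple 0 * cs.simple 1) ^ (k : ℕ) := by
    intro n
    refine ⟨⟨n % 6, Nat.mod_lt _ (by norm_num)⟩, ?_⟩
    conv_lhs => rw [← Nat.div_add_mod n 6, pow_add, pow_mul, h6, one_pow, one_mul]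
  induction w using cs.simple_induction_left with
  | one => exact ⟨0, Or.inl (by simp)⟩
  | mul_simple_left w i ih =>
    obtain ⟨k, hk | hk⟩ := ih
    · fin_cases i
      · exact ⟨k, Or.inr (by rw [hk]; rfl)⟩
      · obtain ⟨k', hk'⟩ := hred (k + 1)
        refine ⟨k', Or.inr ?_⟩
        rw [← hk', hk, pow_succ', ← mul_assoc, ← mul_assoc, haa, one_mul]
        rfl
    · fin_cases i
      · refine ⟨k, Or.inl ?_⟩
        show cs.simple 0 * w = _
        rw [hk, ← mul_assoc, haa, one_mul]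
      · obtain ⟨k', hk'⟩ := hred (k + 5)
        refine ⟨k', Or.inl ?_⟩
        show cs.simple 1 * w = _
        rw [← hk', hk, ← mul_assoc]
        have h7 : cs.simple 1 * cs.simple 0 = (cs.simple 0 * cs.simple 1) ^ 5 := by
          have h8 : (cs.simple 0 * cs.simple 1) * (cs.simple 1 * cs.simple 0) = 1 := by
            rw [mul_assoc, ← mul_assoc (cs.simple 1), hbb, one_mul, haa]
          have h9 : (cs.simple 0 * cs.simple 1) * (cs.simple 0 * cs.simple 1) ^ 5 = 1 := by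
            rw [← pow_succ', h6]
          exact mul_left_cancel (h8.trans h9.symm)
        rw [h7, ← pow_add, add_comm]

include cs in
theorem card_le : Nat.card W ≤ 12 ∧ Finite W := by
  let f : Fin 6 ⊕ Fin 6 → W := Sum.elim (fun k => (cs.simple 0 * cs.simple 1) ^ (k : ℕ))
    (fun k => cs.simple 0 * (cs.simple 0 * cs.simple 1) ^ (k : ℕ))
  have hf : Function.Surjective f := by
    intro w
    obtain ⟨k, hk | hk⟩ := cases_w cs w
    · exact ⟨Sum.inl k, hk.symm⟩
    · exact ⟨Sum.inr k, hk.symm⟩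
  have hfin : Finite W := Finite.of_surjective f hf
  refine ⟨?_, hfin⟩
  have h1 := Nat.card_le_card_of_surjective f hf
  rw [Nat.card_sum, Nat.card_fin] at h1
  exact h1

/-- **The isomorphism.** -/
theorem exists_dih : ∃ e : W ≃* DihedralGroup 6, (∀ i, e (cs.simple i) = gen i) ∧ ∀ w, cs.length w = len (e w) := by
  obtain ⟨h1, h2⟩ := card_le cs
  have hs : Function.Surjective (hom cs) := fun d =>
    ⟨cs.wordProd (word d), by rw [hom_wordProd]; exact (word_ok d).2⟩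
  have hb : Function.Bijective (hom cs) := by
    rw [Nat.bijective_iff_surjective_and_card]
    refine ⟨hs, le_antisymm ?_ (Nat.card_le_card_of_surjective _ hs)⟩
    rw [DihedralGroup.nat_card]
    exact h1
  refine ⟨MulEquiv.ofBijective (hom cs) hb, fun i => hom_simple cs i, fun w => ?_⟩
  show cs.length w = len (hom cs w)
  refine le_antisymm ?_ (len_le cs w)
  have h3 : w = cs.wordProd (word (hom cs w)) := hb.1 (by rw [hom_wordProd]; exact (word_ok _).2.symm)
  conv_lhs => rw [h3]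
  exact (cs.length_wordProd_le _).trans (word_ok _).1.le

end Cfsg.Agent.H82.AH.Hex
end

-- part: H150/AH/WtFree
section
/-!
# S2451: a simple reflection which commutes with no common displacement (helper150)
-/

set_option autoImplicit false
set_option linter.unusedSectionVars false
set_option linter.unusedVariables false

open scoped Pointwise

namespace Cfsg.Agent.H150.AH

open Cfsg.Agent.Tits.Core Cfsg.Agent.Tits.Core.Bldg Cfsg.Agent.Tits.Exchange Cfsg.Agent.Tits Cfsg.Agent.FixBN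
open Cfsg.Agent.H197.Cls Cfsg.Agent.H330.ClassProd

theorem good_of_allConj {G : Type*} [Group G] {p : ℕ} {a b c : G} (hc : AllConj a b c) (hpe : PE p c) :
    Good p a b := by
  intro g
  have h2 := hc 1 g
  have e : 1 * a * 1⁻¹ * (g * b * g⁻¹) = a * (g * b * g⁻¹) := by group
  rw [e] at h2
  obtain ⟨h, hh⟩ := isConj_iff.1 h2
  rw [← hh]
  exact hpe.conj h

variable {I : Type*} {M : CoxeterMatrix I} {W : Type*} [Group W] {cs : CoxeterSystem M W} {C : Type*}

local prefix:100 "ℓ" => cs.length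

variable {Δ : Bldg cs C} {G : Type*} [Group G] [MulAction G C]

/-- double counting of adjacent pairs -/
theorem card_adj [Finite C] {i : I} {q : ℕ} (hq : Δ.Param i q) {α : Type*} [Finite α] (T : α × C → Prop) :
    Nat.card {x : (α × C) × C // T x.1 ∧ x.2 ∈ Δ.Pan i x.1.2} = Nat.card {x : α × C // T x} * (q + 1) := by
  classical
  have e : {x : (α × C) × C // T x.1 ∧ x.2 ∈ Δ.Pan i x.1.2} ≃ {z : {x : α × C // T x} × C // z.2 ∈ Δ.Pan i z.1.1.2} :=
    { toFun := fun x => ⟨(⟨x.1.1, x.2.1⟩, x.1.2), x.2.2⟩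
      invFun := fun z => ⟨(z.1.1.1, z.1.2), z.1.1.2, z.2⟩
      left_inv := fun x => rfl
      right_inv := fun x => rfl }
  rw [Nat.card_congr (e.trans (Equiv.subtypeProdEquivSigmaSubtype (fun (x : {x : α × C // T x}) (y : C) =>
    y ∈ Δ.Pan i x.1.2)))]
  have := Fintype.ofFinite {x : α × C // T x}
  rw [Nat.card_sigma, Finset.sum_congr rfl (fun x _ => hq x.1.2), Finset.sum_const, Finset.card_univ,
    smul_eq_mul, ← Nat.card_eq_fintype_card]

variable {p : ℕ} (S : Sys Δ G p)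

include S

variable [hp : Fact p.Prime] [F : OppRes.Cox cs] [Finite C]

end Cfsg.Agent.H150.AH
end

-- part: H82/AH/D4Two
section
/-!
# S2451 (helper82): `³D₄(2)`, the long reflection

`false_of_long` : type `G₂`, `p = 2`, the panels of type `0` have three chambers, `Dis ⊆ {1} ∪ s₀^W`, `s₀ ∈ Dis`, all the
products conjugate: contradiction.
-/

set_option autoImplicit false
set_option linter.unusedSectionVars false

open scoped Pointwise

namespace Cfsg.Agent.H82.AH

open Cfsg.Agent.Tits.Core Cfsg.Agent.Tits.Core.Bldg Cfsg.Agent.Tits.Exchange Cfsg.Agent.Tits Cfsg.Agent.FixBN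
open Cfsg.Agent.H197.Cls Cfsg.Agent.H150.AH Cfsg.Agent.H330.ClassProd

variable {W : Type*} [Group W] {cs : CoxeterSystem CoxeterMatrix.G₂ W} {C : Type*}

local prefix:100 "ℓ" => cs.length

/-- the class of the long reflection -/
theorem class_long {e : W ≃* DihedralGroup 6} (he : ∀ i, e (cs.simple i) = Hex.gen i) {u w : W}
    (h : u * w * u⁻¹ = cs.simple 0) : w = cs.simple 0 ∨ w = cs.simple 1 * cs.simple 0 * cs.simple 1 ∨
      w = cs.simple 0 * (cs.simple 1 * cs.simple 0 * cs.simple 1) * cs.simple 0 := by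
  have h1 := congrArg e h
  rw [map_mul, map_mul, map_inv, he] at h1
  have key : ∀ d f : DihedralGroup 6, f * d * f⁻¹ = Hex.gen 0 → d = Hex.gen 0 ∨
      d = Hex.gen 1 * Hex.gen 0 * Hex.gen 1 ∨ d = Hex.gen 0 * (Hex.gen 1 * Hex.gen 0 * Hex.gen 1) * Hex.gen 0 := by
    decide
  rcases key _ _ h1 with h2 | h2 | h2
  · left; apply e.injective; rw [h2, he]
  · right; left; apply e.injective; rw [h2]; simp only [map_mul, he]
  · right; right; apply e.injective; rw [h2]; simp only [map_mul, he]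

variable {Δ : Bldg cs C} {G : Type*} [Group G] [MulAction G C] (S : Sys Δ G 2) [F : OppRes.Cox cs] [Finite W]
  [Finite G] [Finite C] [Nonempty C] (hth : Δ.Thick)

include S hth in
theorem false_of_one_notMem {a b c : G} (hc : AllConj a b c) (hpe : PE 2 c) (hq : Δ.Param 0 2)
    (hD : ∀ w ∈ Dis Δ a b, w = 1 ∨ ∃ u, u * w * u⁻¹ = cs.simple 0) (h0 : cs.simple 0 ∈ Dis Δ a b)
    (h1 : (1 : W) ∉ Dis Δ a b) : False := by
  classical
  have := Fintype.ofFinite W
  obtain ⟨e, he, hl⟩ := Hex.exists_dih cs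
  have hab : Good 2 a b := good_of_allConj hc hpe
  set v1 := cs.simple 1 * cs.simple 0 * cs.simple 1 with hv1
  set v2 := cs.simple 0 * v1 * cs.simple 0 with hv2
  have hD' : ∀ w ∈ Dis Δ a b, w = cs.simple 0 ∨ w = v1 ∨ w = v2 := by
    intro w hw
    rcases hD w hw with rfl | ⟨u, hu⟩
    · exact absurd hw h1
    · exact class_long he hu
  -- facts on the Weyl group
  have e1 : e v1 = Hex.gen 1 * Hex.gen 0 * Hex.gen 1 := by rw [hv1]; simp only [map_mul, he]
  have e2 : e v2 = Hex.gen 0 * (Hex.gen 1 * Hex.gen 0 * Hex.gen 1) * Hex.gen 0 := by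
    rw [hv2, hv1]; simp only [map_mul, he]
  clear_value v2 v1
  have w1 : ℓ v1 < ℓ (cs.simple 0 * v1) := by
    rw [hl, hl, map_mul, he, e1]; decide
  have w2 : ℓ v1 < ℓ (v1 * cs.simple 0) := by
    rw [hl, hl, map_mul, he, e1]; decide
  have w3 : cs.simple 0 * v1 ≠ v1 * cs.simple 0 := by
    intro h
    have h2 := congrArg e h
    rw [map_mul, map_mul, he, e1] at h2
    revert h2; decide
  have w4 : ¬ ℓ v2 < ℓ (cs.simple 0 * v2) := by
    rw [hl, hl, map_mul, he, e2]; decide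
  have w5 : cs.simple 0 * v2 ≠ v2 * cs.simple 0 := by
    intro h
    have h2 := congrArg e h
    rw [map_mul, map_mul, he, e2] at h2
    revert h2; decide
  have w12 : v1 ≠ v2 := by
    intro h
    have h2 := congrArg e h
    rw [e1, e2] at h2
    revert h2; decide
  have w01 : cs.simple 0 ≠ v1 := by
    intro h
    have h2 := congrArg e h
    rw [he, e1] at h2
    revert h2; decide
  have w02 : cs.simple 0 ≠ v2 := by
    intro h
    have h2 := congrArg e h
    rw [he, e2] at h2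
    revert h2; decide
  let z : G → G := fun g => a * (g * b * g⁻¹)
  have hz : ∀ (g : G) (x : C), z g • x = x ↔ (g * b * g⁻¹) • x = a⁻¹ • x := by
    intro g x
    change (a * (g * b * g⁻¹)) • x = x ↔ _
    rw [mul_smul, eq_inv_smul_iff]
  have hmem : ∀ (g : G) (x : C), z g • x = x → Δ.δ x (a⁻¹ • x) ∈ Dis Δ a b := by
    intro g x hx
    rw [hz] at hx
    rw [← dis_conj S g, ← hx]
    exact mem_dis S hx
  -- the pointwise fixed panels
  let P : G × C → Prop := fun x => ∀ y ∈ Δ.Pan 0 x.2, z x.1 • y = y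
  let Nr : G × C → Prop := fun x => P x ∧ Δ.δ x.2 (a⁻¹ • x.2) = v1
  let Fr : G × C → Prop := fun x => Δ.δ x.2 (a⁻¹ • x.2) = v2 ∧ z x.1 • x.2 = x.2
  -- a chamber of a pointwise fixed panel
  have hP0 : ∀ x, P x → Δ.δ x.2 (a⁻¹ • x.2) = v1 ∨ Δ.δ x.2 (a⁻¹ • x.2) = v2 := by
    rintro ⟨g, x⟩ hx
    rcases hD' _ (hmem g x (hx x (Δ.self_mem_Pan 0 x))) with h | h
    · exfalso
      refine no_fix S (hab.conjR g) hq (by rw [dis_conj S g]; exact h1) h fun y hy => ?_
      exact (hz g y).1 (hx y hy)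
    · exact h
  -- the gate
  have hgate : ∀ (g : G) (x : C), z g • x = x → (Δ.δ x (a⁻¹ • x) = v1 ∨ Δ.δ x (a⁻¹ • x) = v2) →
      ∃ x0 ∈ Δ.Pan 0 x, z g • x0 = x0 ∧ Δ.δ x0 (a⁻¹ • x0) = v1 ∧ (Δ.δ x (a⁻¹ • x) = v2 → x ≠ x0) := by
    intro g x hx hd
    have hx' := (hz g x).1 hx
    have hne : cs.simple 0 * Δ.δ x ((g * b * g⁻¹) • x) ≠ Δ.δ x ((g * b * g⁻¹) • x) * cs.simple 0 := by
      rw [hx']
      rcases hd with h | h <;> rw [h]
      · exact w3
      · exact w5
    obtain ⟨x0, hx0, y0, hy0, h, ha, hb, -⟩ := lemY_pair S hth (hab.conjR g) hx' hne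
    have hz0 : z g • x0 = x0 := by
      rw [hz, hb, eq_inv_smul_iff, ha]
    have ha' : a⁻¹ • x0 = y0 := by rw [inv_smul_eq_iff, ha]
    have hx0v : Δ.δ x0 (a⁻¹ • x0) = v1 := by
      rcases hD' _ (hmem g x0 hz0) with h2 | h2 | h2
      · exfalso
        apply h.ne
        rw [← ha', h2]
      · exact h2
      · exfalso
        have h3 := h.left
        rw [← ha', h2] at h3
        exact w4 h3
    refine ⟨x0, hx0, hz0, hx0v, fun h2 h3 => ?_⟩
    rw [← h3, h2] at hx0v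
    exact w12 hx0v.symm
  -- far chambers lie in pointwise fixed panels
  have hFP : ∀ x, Fr x → P x := by
    rintro ⟨g, x⟩ ⟨h2, h3⟩ y hy
    obtain ⟨x0, hx0, h4, -, h5⟩ := hgate g x h3 (Or.inr h2)
    exact fix_pan S (mem_U S (hab g) h3) hx0 (h5 h2).symm h4 hy
  -- the neighbours of a near chamber
  have hnear : ∀ x : C, Δ.δ x (a⁻¹ • x) = v1 → ∀ y ∈ Δ.Pan 0 x, y ≠ x → Δ.δ y (a⁻¹ • y) = v2 := by
    intro x hx y hy hne
    have hNP : NP Δ 0 x (a⁻¹ • x) := ⟨by rw [hx]; exact w1, by rw [hx]; exact w2, by rw [hx]; exact w3⟩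
    rw [hNP.dLR hy hne (smul_mem_Pan S hy) (fun h => hne (smul_left_cancel _ h)), hx, ← hv2]
  -- `|P| = 3 |Nr|`
  have c1 : Nat.card {x // P x} = Nat.card {x // Nr x} * (2 + 1) := by
    rw [← card_adj hq Nr]
    symm
    refine Nat.card_eq_of_bijective (fun x : {x : (G × C) × C // Nr x.1 ∧ x.2 ∈ Δ.Pan 0 x.1.2} =>
      (⟨(x.1.1.1, x.1.2), ?_⟩ : {x // P x})) ⟨?_, ?_⟩
    · intro y hy
      refine x.2.1.1 y ?_
      rw [← Δ.Pan_eq_of_mem x.2.2]
      exact hy
    · rintro ⟨⟨⟨g, x⟩, y⟩, hx, hy⟩ ⟨⟨⟨g', x'⟩, y'⟩, hx', hy'⟩ h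
      have h2 := congrArg (fun t => t.1.1) h
      have h3 := congrArg (fun t => t.1.2) h
      simp only at h2 h3
      subst h2 h3
      have h4 : x' = x := by
        by_contra hne
        have h5 := hnear x hx.2 x' (Δ.mem_Pan_trans hy (Δ.mem_Pan_symm hy')) hne
        have h6 : Δ.δ x' (a⁻¹ • x') = v1 := hx'.2
        rw [h6] at h5
        exact w12 h5
      subst h4
      rfl
    · rintro ⟨⟨g, y⟩, hy⟩
      obtain ⟨x0, hx0, h4, h5, -⟩ := hgate g y (hy y (Δ.self_mem_Pan 0 y)) (hP0 _ hy)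
      refine ⟨⟨((g, x0), y), ⟨?_, h5⟩, Δ.mem_Pan_symm hx0⟩, rfl⟩
      intro t ht
      refine hy t ?_
      rw [← Δ.Pan_eq_of_mem hx0]
      exact ht
  -- `|P| = |Nr| + |Fr|`
  have c2 : Nat.card {x // P x} = Nat.card {x // Nr x} + Nat.card {x // Fr x} := by
    have h2 : Nat.card {x // P x} = Nat.card {x : {x // P x} // Δ.δ x.1.2 (a⁻¹ • x.1.2) = v1} +
        Nat.card {x : {x // P x} // ¬ Δ.δ x.1.2 (a⁻¹ • x.1.2) = v1} := by
      rw [← Nat.card_sum]
      exact Nat.card_congr (Equiv.sumCompl _).symm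
    rw [h2]
    congr 1
    · refine Nat.card_congr ⟨fun x => ⟨x.1.1, x.1.2, x.2⟩, fun x => ⟨⟨x.1, x.2.1⟩, x.2.2⟩, fun x => rfl, fun x => rfl⟩
    · refine Nat.card_congr ⟨fun x => ⟨x.1.1, (hP0 _ x.1.2).resolve_left x.2, x.1.2 _ (Δ.self_mem_Pan 0 _)⟩,
        fun x => ⟨⟨x.1, hFP _ x.2⟩, fun h => w12 (h.symm.trans x.2.1)⟩, fun x => rfl, fun x => rfl⟩
  -- class function
  have c3 : Nat.card {x // P x} = Nat.card G * Nat.card {x : C // ∀ y ∈ Δ.Pan 0 x, c • y = y} := by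
    refine card_pairs_const hc (fun z x => ∀ y ∈ Δ.Pan 0 x, z • y = y) ?_
    intro g z x h y hy
    have h2 : g⁻¹ • y ∈ Δ.Pan 0 x := by
      have := smul_mem_Pan S (g := g⁻¹) hy
      rwa [inv_smul_smul] at this
    rw [mul_smul, mul_smul, h _ h2, smul_inv_smul]
  -- the weights
  have c4 : ((Nat.card {x // Fr x} : ℕ) : ℚ) = Nat.card G * wt Δ a b v2 := by
    have h2 := card_fixed_on S hth a b (fun w => w = v2)
    rw [Finset.sum_filter, Finset.sum_ite_eq', if_pos (Finset.mem_univ _)] at h2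
    exact h2
  have s1 : wt Δ a b v1 = wt Δ a b (cs.simple 0) := by
    have h2 := wt_conj S hth hab h0 (cs.simple 1)
    rwa [cs.inv_simple, ← hv1] at h2
  have s2 : wt Δ a b v2 = wt Δ a b (cs.simple 0) := by
    have h2 := wt_conj S hth hab h0 (cs.simple 0 * cs.simple 1)
    have h3 : cs.simple 0 * cs.simple 1 * cs.simple 0 * (cs.simple 0 * cs.simple 1)⁻¹ = v2 := by
      rw [mul_inv_rev, cs.inv_simple, cs.inv_simple, hv2, hv1]
      group
    rwa [h3] at h2
  have s3 : ∑ w, wt Δ a b w = 3 * wt Δ a b v2 := by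
    have h2 : ∑ w, wt Δ a b w = ∑ w ∈ ({cs.simple 0, v1, v2} : Finset W), wt Δ a b w := by
      symm
      refine Finset.sum_subset (Finset.subset_univ _) fun w _ hw => ?_
      rw [wt_eq_zero_iff]
      intro h3
      apply hw
      rcases hD' w h3 with rfl | rfl | rfl <;> simp
    rw [h2, Finset.sum_insert (by simp [w01, w02]), Finset.sum_insert (by simp [w12]), Finset.sum_singleton, s1, ← s2]
    ring
  have s4 := sum_wt S hth hc
  rw [s3] at s4
  have hG : (0 : ℚ) < Nat.card G := by exact_mod_cast Nat.card_pos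
  have s5 : ((fx C c : ℕ) : ℚ) = 2 * (Nat.card {x : C // ∀ y ∈ Δ.Pan 0 x, c • y = y} : ℕ) := by
    have t1 : (3 : ℚ) * (Nat.card {x // Fr x} : ℕ) = 2 * (Nat.card {x // P x} : ℕ) := by
      have : 3 * Nat.card {x // Fr x} = 2 * Nat.card {x // P x} := by omega
      exact_mod_cast this
    rw [c4, c3] at t1
    rw [s4]
    have t2 : (Nat.card G : ℚ) * (3 * wt Δ a b v2) =
        Nat.card G * (2 * (Nat.card {x : C // ∀ y ∈ Δ.Pan 0 x, c • y = y} : ℕ)) := by
      push_cast at t1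
      linarith
    exact mul_left_cancel₀ hG.ne' t2
  have s6 : fx C c = 2 * Nat.card {x : C // ∀ y ∈ Δ.Pan 0 x, c • y = y} := by exact_mod_cast s5
  have s7 := fx_mod S hth hpe
  rw [s6] at s7
  push_cast at s7
  have s8 : (2 : ZMod 2) = 0 := rfl
  rw [s8, zero_mul] at s7
  exact absurd s7 (by decide)

include S hth in
/-- **the long reflection** -/
theorem false_of_long (hfaith : ∀ g : G, (∀ x : C, g • x = x) → g = 1) {a b c : G} (hc : AllConj a b c) (hpe : PE 2 c)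
    (hq : Δ.Param 0 2) (hD : ∀ w ∈ Dis Δ a b, w = 1 ∨ ∃ u, u * w * u⁻¹ = cs.simple 0)
    (h0 : cs.simple 0 ∈ Dis Δ a b) : False := by
  by_cases h1 : (1 : W) ∈ Dis Δ a b
  · obtain ⟨e, he, hl⟩ := Hex.exists_dih cs
    refine false_of_one S hth hfaith (good_of_allConj hc hpe) hq h1 h0 fun j hj hj2 => ?_
    have hj1 : j = 1 := by
      fin_cases j
      · exact absurd rfl hj
      · rfl
    subst hj1
    rcases hD _ hj2 with h2 | ⟨u, hu⟩
    · have h3 := congrArg e h2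
      rw [he, map_one] at h3
      revert h3; decide
    · rcases class_long he hu with h2 | h2 | h2
      · have h3 := congrArg e h2
        rw [he, he] at h3
        revert h3; decide
      · have h3 := congrArg e h2
        simp only [map_mul, he] at h3
        revert h3; decide
      · have h3 := congrArg e h2
        simp only [map_mul, he] at h3
        revert h3; decide
  · exact false_of_one_notMem S hth hc hpe hq hD h0 h1

end Cfsg.Agent.H82.AH
end
end

-- part: H150/AH/G2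
section
prune_inst 0x30005500340000000000001222003e62f4000192006b0000f0e00f420b477162004027014e800c0210e2aa800800000000100470400000000a000000002506090020020091180c00020001002000000000000000000000000000000000041000200400000
set_option linter.all false
open scoped Cfsg.Agent.FastGrp

/-!
# S2451: `G₂(3)` (helper150)

`g2_false` : type `G₂`, one parameter `q ≥ 3`, all the products conjugate, `Dis ⊆ {1, w₀}`, `w₀ ∈ Dis`: contradiction.
-/

set_option autoImplicit false
set_option linter.unusedSectionVars false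
set_option linter.unusedVariables false

open scoped Pointwise

namespace Cfsg.Agent.H150.AH

open Cfsg.Agent.Tits.Core Cfsg.Agent.Tits.Core.Bldg Cfsg.Agent.Tits.Exchange Cfsg.Agent.Tits Cfsg.Agent.FixBN
open Cfsg.Agent.H197.Cls Cfsg.Agent.H330.ClassProd Cfsg.Agent.H82.AH

section Arith

theorem arith1 {q N A B : ℕ} (hq : 2 ≤ q) (hN : N = (q + 1) ^ 2 * (q ^ 4 + q ^ 2 + 1))
    (hA : A * (q * q + q + 1) ≤ q * q * N) (hB : B * (q * q + q + 1) ≤ q * q * N) (h : N * q ^ 6 ≤ A * B) : False := by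
  have hN0 : 0 < N := by rw [hN]; positivity
  have h1 : (N * q ^ 4) * (q ^ 2 * (q * q + q + 1) ^ 2) ≤ (N * q ^ 4) * N := by
    calc (N * q ^ 4) * (q ^ 2 * (q * q + q + 1) ^ 2) = (N * q ^ 6) * (q * q + q + 1) ^ 2 := by ring
      _ ≤ (A * B) * (q * q + q + 1) ^ 2 := Nat.mul_le_mul_right _ h
      _ = (A * (q * q + q + 1)) * (B * (q * q + q + 1)) := by ring
      _ ≤ (q * q * N) * (q * q * N) := Nat.mul_le_mul hA hB
      _ = (N * q ^ 4) * N := by ring
  have h2 := Nat.le_of_mul_le_mul_left h1 (by positivity)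
  rw [hN] at h2
  obtain ⟨k, rfl⟩ := Nat.exists_eq_add_of_le hq
  revert h2
  apply not_le_of_gt
  ring_nf
  linarith only [Nat.zero_le (k ^ 3), Nat.zero_le (k ^ 4), _root_.sq_nonneg (↑k : ℤ), _root_.Nat.cast_nonneg (α := ℤ) (k)]

theorem arith2 {q N A B : ℕ} (hq : 3 ≤ q) (hN : N = (q + 1) ^ 2 * (q ^ 4 + q ^ 2 + 1))
    (hA : A * (q * q + q + 1) ≤ q * q * N) (hB : B * (q * q + q + 1) ≤ q * q * N)
    (h : N * q ^ 6 ≤ (q + 1) * (q + 1) * q ^ 6 + A * B) : False := by
  have hN0 : 0 < N := by rw [hN]; positivity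
  have h1 : q ^ 4 * (N * (q ^ 2 * (q * q + q + 1) ^ 2)) ≤
      q ^ 4 * ((q + 1) ^ 2 * q ^ 2 * (q * q + q + 1) ^ 2 + N * N) := by
    calc q ^ 4 * (N * (q ^ 2 * (q * q + q + 1) ^ 2)) = (N * q ^ 6) * (q * q + q + 1) ^ 2 := by ring
      _ ≤ ((q + 1) * (q + 1) * q ^ 6 + A * B) * (q * q + q + 1) ^ 2 := Nat.mul_le_mul_right _ h
      _ = (q + 1) * (q + 1) * q ^ 6 * (q * q + q + 1) ^ 2 + (A * (q * q + q + 1)) * (B * (q * q + q + 1)) := by ring
      _ ≤ (q + 1) * (q + 1) * q ^ 6 * (q * q + q + 1) ^ 2 + (q * q * N) * (q * q * N) :=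
          Nat.add_le_add_left (Nat.mul_le_mul hA hB) _
      _ = q ^ 4 * ((q + 1) ^ 2 * q ^ 2 * (q * q + q + 1) ^ 2 + N * N) := by ring
  have h2 := Nat.le_of_mul_le_mul_left h1 (by positivity)
  have h3 : (q + 1) ^ 2 * ((q ^ 4 + q ^ 2 + 1) * (q ^ 2 * (q * q + q + 1) ^ 2)) ≤
      (q + 1) ^ 2 * (q ^ 2 * (q * q + q + 1) ^ 2 + (q ^ 4 + q ^ 2 + 1) * N) := by
    calc (q + 1) ^ 2 * ((q ^ 4 + q ^ 2 + 1) * (q ^ 2 * (q * q + q + 1) ^ 2)) = N * (q ^ 2 * (q * q + q + 1) ^ 2) := by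
          rw [hN]; ring
      _ ≤ (q + 1) ^ 2 * q ^ 2 * (q * q + q + 1) ^ 2 + N * N := h2
      _ = (q + 1) ^ 2 * (q ^ 2 * (q * q + q + 1) ^ 2 + (q ^ 4 + q ^ 2 + 1) * N) := by
          nth_rewrite 1 [hN]; ring
  have h4 := Nat.le_of_mul_le_mul_left h3 (by positivity)
  rw [hN] at h4
  obtain ⟨k, rfl⟩ := Nat.exists_eq_add_of_le hq
  revert h4
  apply not_le_of_gt
  ring_nf
  linarith only [Nat.zero_le (k ^ 3), Nat.zero_le (k ^ 4), Nat.zero_le (k ^ 5), Nat.zero_le (k ^ 6), Nat.zero_le (k ^ 7), Nat.zero_le (k ^ 8), _root_.sq_nonneg (↑k : ℤ), _root_.Nat.cast_nonneg (α := ℤ) (k)]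

end Arith

section WF

variable {W : Type*} [Group W] {cs : CoxeterSystem CoxeterMatrix.G₂ W} [F : OppRes.Cox cs] [Finite W]
  {e : W ≃* DihedralGroup 6} (he : ∀ i, e (cs.simple i) = Hex.gen i) (hl : ∀ w, cs.length w = Hex.len (e w))

include hl in
theorem e_w0 : e (w0 cs) = DihedralGroup.r 3 := by
  have h1 := length_le_w0 cs (e.symm (DihedralGroup.r 3))
  rw [hl, hl, MulEquiv.apply_symm_apply] at h1
  have key : ∀ d : DihedralGroup 6, Hex.len (DihedralGroup.r 3) ≤ Hex.len d → d = DihedralGroup.r 3 := by decide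
  exact key _ h1

end WF

variable {W : Type*} [Group W] {cs : CoxeterSystem CoxeterMatrix.G₂ W} {C : Type*}

local prefix:100 "ℓ" => cs.length

variable {Δ : Bldg cs C} {G : Type*} [Group G] [MulAction G C] {p : ℕ} (S : Sys Δ G p) [F : OppRes.Cox cs] [Finite W]
  [Finite G] [Finite C] [Nonempty C] [hp : Fact p.Prime]

theorem pair_univ {i j : Fin 2} (hij : i ≠ j) : ({i, j} : Set (Fin 2)) = Set.univ := by
  apply Set.eq_univ_of_forall
  intro k
  have : k = i ∨ k = j := by revert hij; revert i j k; decide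
  simpa using this

theorem other (j : Fin 2) : ∃ i, i ≠ j := by revert j; decide

theorem dih_facts1 : ∀ i j : Fin 2, i ≠ j →
    Hex.len (Hex.gen i * (DihedralGroup.r 3 * Hex.gen j)) < Hex.len (DihedralGroup.r 3 * Hex.gen j) ∧
    Hex.len (DihedralGroup.r 3 * Hex.gen j * Hex.gen i) < Hex.len (DihedralGroup.r 3 * Hex.gen j) ∧
    Hex.gen i * (DihedralGroup.r 3 * Hex.gen j) ≠ DihedralGroup.r 3 * Hex.gen j * Hex.gen i := by decide

theorem dih_facts2 : ∀ i j : Fin 2, i ≠ j → Hex.gen j * DihedralGroup.r 3 = DihedralGroup.r 3 * Hex.gen j ∧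
    Hex.len (Hex.gen i * (DihedralGroup.r 3 * Hex.gen j) * Hex.gen i) < 5 ∧
    Hex.len (Hex.gen i * (DihedralGroup.r 3 * Hex.gen j)) < 5 := by decide

theorem dih_facts3 : ¬ Hex.len (DihedralGroup.r 3) < 5 := by decide

theorem dih_facts4 : ∀ j : Fin 2, ¬ Hex.len (DihedralGroup.r 3 * Hex.gen j) < 5 ∧ Hex.gen j ≠ 1 ∧
    Hex.gen j ≠ DihedralGroup.r 3 := by decide

theorem dih_facts5 : ∀ j : Fin 2,
    DihedralGroup.r 3 * Hex.gen j ≠ 1 ∧ DihedralGroup.r 3 * Hex.gen j ≠ DihedralGroup.r 3 := by decide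

theorem dih_facts6 : (DihedralGroup.r 3 : DihedralGroup 6) ≠ 1 := by decide

include S in
theorem g2_ineq {q : ℕ} (hq : ∀ i, Δ.Param i q) {i j : Fin 2} (hij : i ≠ j) {x : G}
    (hr : Role1 Δ x j (w0 cs)) : dn Δ x (w0 cs) * (q * q + q + 1) ≤ q * q * Nat.card C := by
  obtain ⟨e, he, hl⟩ := Hex.exists_dih cs
  have hw0 := e_w0 hl
  obtain ⟨x0⟩ := ‹Nonempty C›
  obtain ⟨d1, d2, d3⟩ := dih_facts1 i j hij
  obtain ⟨d4, d5, d6⟩ := dih_facts2 i j hij
  have d7 := dih_facts3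
  have d8 := (dih_facts4 j).1
  have e1 : ℓ (cs.simple i * (w0 cs * cs.simple j)) < ℓ (w0 cs * cs.simple j) := by
    rw [hl, hl]; simp only [map_mul, he, hw0]; exact d1
  have e2 : ℓ (w0 cs * cs.simple j * cs.simple i) < ℓ (w0 cs * cs.simple j) := by
    rw [hl, hl]; simp only [map_mul, he, hw0]; exact d2
  have e3 : cs.simple i * (w0 cs * cs.simple j) ≠ w0 cs * cs.simple j * cs.simple i := by
    intro h
    have h1 := congrArg e h
    simp only [map_mul, he, hw0] at h1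
    exact d3 h1
  have e4 : cs.simple j * w0 cs = w0 cs * cs.simple j := by
    apply e.injective
    simp only [map_mul, he, hw0]
    exact d4
  have e5 : ℓ (cs.simple i * (w0 cs * cs.simple j) * cs.simple i) < 5 := by
    rw [hl]; simp only [map_mul, he, hw0]; exact d5
  have e6 : ℓ (cs.simple i * (w0 cs * cs.simple j)) < 5 := by
    rw [hl]; simp only [map_mul, he, hw0]; exact d6
  have e7 : ¬ ℓ (w0 cs) < 5 := by
    rw [hl, hw0]; exact d7
  have e8 : ¬ ℓ (w0 cs * cs.simple j) < 5 := by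
    rw [hl]; simp only [map_mul, he, hw0]; exact d8
  have h1 := gen_ineq S (hq i) (hq j) e4 (fun u => ℓ u < 5) (x := x) (x0 := x0) (fun d hd => by
    obtain ⟨y, hy, h2⟩ := exists_gate_small S (i := i) hd e1 e2 e3
    refine ⟨y, hy, ?_⟩
    rcases h2 with h2 | h2
    · rw [h2]; exact e5
    · rw [h2]; exact e6) e7 e8 hr
  have h2 : Nat.card {d : C // d ∈ Δ.Res {i, j} x0 ∧ Δ.δ d (x • d) = w0 cs} = dn Δ x (w0 cs) := by
    unfold dn
    refine Nat.card_congr (Equiv.subtypeEquivRight fun d => ?_)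
    rw [pair_univ hij, Δ.Res_univ]
    simp
  have h3 : (Δ.Res {i, j} x0).ncard = Nat.card C := by
    rw [pair_univ hij, Δ.Res_univ, Set.ncard_univ]
  rw [h2, h3] at h1
  exact h1

omit hp [Finite G] in
theorem g2_card {q : ℕ} (hq : ∀ i, Δ.Param i q) : Nat.card C = (q + 1) ^ 2 * (q ^ 4 + q ^ 2 + 1) := by
  classical
  have := Fintype.ofFinite W
  obtain ⟨x0⟩ := ‹Nonempty C›
  obtain ⟨e, he, hl⟩ := Hex.exists_dih cs
  rw [card_pow x0 hq]
  have h1 : ∑ w : W, q ^ ℓ w = ∑ d : DihedralGroup 6, q ^ Hex.len d :=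
    Fintype.sum_equiv e.toEquiv _ _ fun w => by rw [hl]; rfl
  rw [h1, ← Finset.sum_fiberwise_of_maps_to (t := Finset.range 7) (g := Hex.len) (s := Finset.univ)
    (by decide) (fun d => q ^ Hex.len d)]
  have h2 : ∀ k ∈ Finset.range 7, ∑ d ∈ Finset.univ.filter (fun d : DihedralGroup 6 => Hex.len d = k), q ^ Hex.len d =
      (![1, 2, 2, 2, 2, 2, 1] : Fin 7 → ℕ) (Fin.ofNat 7 k) * q ^ k := by
    intro k hk
    have h3 : ∀ d ∈ Finset.univ.filter (fun d : DihedralGroup 6 => Hex.len d = k), q ^ Hex.len d = q ^ k := by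
      intro d hd
      rw [(Finset.mem_filter.1 hd).2]
    rw [Finset.sum_congr rfl h3, Finset.sum_const, smul_eq_mul]
    congr 1
    revert hk
    have h4 : ∀ k ∈ Finset.range 7, (Finset.univ.filter (fun d : DihedralGroup 6 => Hex.len d = k)).card =
      (![1, 2, 2, 2, 2, 2, 1] : Fin 7 → ℕ) (Fin.ofNat 7 k) := by decide
    exact h4 k
  rw [Finset.sum_congr rfl h2]
  simp only [Finset.sum_range_succ, Finset.sum_range_zero]
  have e0 : (![1, 2, 2, 2, 2, 2, 1] : Fin 7 → ℕ) (Fin.ofNat 7 0) = 1 := rfl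
  have e1 : (![1, 2, 2, 2, 2, 2, 1] : Fin 7 → ℕ) (Fin.ofNat 7 1) = 2 := rfl
  have e2 : (![1, 2, 2, 2, 2, 2, 1] : Fin 7 → ℕ) (Fin.ofNat 7 2) = 2 := rfl
  have e3 : (![1, 2, 2, 2, 2, 2, 1] : Fin 7 → ℕ) (Fin.ofNat 7 3) = 2 := rfl
  have e4 : (![1, 2, 2, 2, 2, 2, 1] : Fin 7 → ℕ) (Fin.ofNat 7 4) = 2 := rfl
  have e5 : (![1, 2, 2, 2, 2, 2, 1] : Fin 7 → ℕ) (Fin.ofNat 7 5) = 2 := rfl
  have e6 : (![1, 2, 2, 2, 2, 2, 1] : Fin 7 → ℕ) (Fin.ofNat 7 6) = 1 := rfl
  rw [e0, e1, e2, e3, e4, e5, e6]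
  ring

omit F [Finite W] [Finite G] [Finite C] [Nonempty C] hp in
theorem dn_one (x : G) : dn Δ x 1 = fx C x := by
  unfold dn fx
  refine Nat.card_congr (Equiv.subtypeEquivRight fun c => ?_)
  rw [Δ.eq_one]
  exact eq_comm

omit F [Finite W] [Finite G] [Finite C] [Nonempty C] hp in
theorem fx_inv (x : G) : fx C x⁻¹ = fx C x := by
  unfold fx
  refine Nat.card_congr (Equiv.subtypeEquivRight fun c => ?_)
  rw [inv_smul_eq_iff]
  exact eq_comm

include S in
/-- **`G₂(q)`, `q ≥ 3`, `w₀`.** -/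
theorem g2_false (hth : Δ.Thick) (hfaith : ∀ g : G, (∀ x : C, g • x = x) → g = 1) {a b c : G} (hc : AllConj a b c)
    (hpe : PE p c) (ha1 : a ≠ 1) (hb1 : b ≠ 1) {q : ℕ} (hq3 : 3 ≤ q) (hq : ∀ i, Δ.Param i q)
    (hD : ∀ w ∈ Dis Δ a b, w = 1 ∨ w = w0 cs) (h0 : w0 cs ∈ Dis Δ a b) : False := by
  classical
  have := Fintype.ofFinite W
  obtain ⟨e, he, hl⟩ := Hex.exists_dih cs
  have hw0 := e_w0 hl
  have hab : Good p a b := good_of_allConj hc hpe
  have h01 : w0 cs ≠ 1 := by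
    intro h
    have h1 := congrArg e h
    rw [hw0, map_one] at h1
    exact dih_facts6 h1
  -- facts on `W`
  have f1 : ∀ j, cs.simple j ∉ Dis Δ a b := by
    intro j hj
    obtain ⟨-, d9, d10⟩ := dih_facts4 j
    rcases hD _ hj with h | h
    · have h1 := congrArg e h
      rw [he, map_one] at h1
      exact d9 h1
    · have h1 := congrArg e h
      rw [he, hw0] at h1
      exact d10 h1
  have f2 : ∀ j, w0 cs * cs.simple j ∉ Dis Δ a b := by
    intro j hj
    obtain ⟨d9, d10⟩ := dih_facts5 j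
    rcases hD _ hj with h | h
    · have h1 := congrArg e h
      rw [map_mul, he, hw0, map_one] at h1
      exact d9 h1
    · have h1 := congrArg e h
      rw [map_mul, he, hw0] at h1
      exact d10 h1
  have f3 : ∀ j, cs.simple j * w0 cs = w0 cs * cs.simple j := by
    intro j
    obtain ⟨i, hij⟩ := other j
    apply e.injective
    simp only [map_mul, he, hw0]
    exact (dih_facts2 i j hij).1
  -- the roles
  obtain ⟨i, j, hij, r1, r2, r3, r4⟩ : ∃ i j : Fin 2, i ≠ j ∧ RoleE Δ a⁻¹ i (w0 cs) ∧ RoleO Δ b i (w0 cs) ∧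
      RoleO Δ a⁻¹ j (w0 cs) ∧ RoleE Δ b j (w0 cs) := by
    have hu : wJ cs ({0, 1} : Set (Fin 2)) = w0 cs := by
      rw [pair_univ (by decide)]
      rfl
    have h1 := roles_mixed S hth hab (i := 0) (j := 1) (by decide) (by decide) (by rw [hu]; exact f3 0)
      (by rw [hu]; exact f3 1) (by rw [hu]; exact h0) (by rw [hu]; exact f2 0) (by rw [hu]; exact f2 1)
    rw [hu] at h1
    rcases h1 with ⟨h2, h3, h4, h5⟩ | ⟨h2, h3, h4, h5⟩
    · exact ⟨0, 1, by decide, h2, h3, h4, h5⟩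
    · exact ⟨1, 0, by decide, h4, h5, h2, h3⟩
  have hA := g2_ineq S hq hij (fun E hE => r3 E (Or.inl hE) : Role1 Δ a⁻¹ j (w0 cs))
  have hB := g2_ineq S hq hij.symm (fun E hE => r2 E (Or.inl hE) : Role1 Δ b i (w0 cs))
  have hN := g2_card (cs := cs) (Δ := Δ) hq
  have hNpos : 0 < Nat.card C := Nat.card_pos
  -- the weights
  have hw : wt Δ a b (w0 cs) = (dn Δ a⁻¹ (w0 cs) * dn Δ b (w0 cs) : ℕ) / ((Nat.card C * q ^ 6 : ℕ) : ℚ) := by
    unfold wt
    rw [pn_pow hq, show ℓ (w0 cs) = 6 by rw [hl, hw0]; rfl]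
  have hsum : (fx C c : ℚ) = wt Δ a b 1 + wt Δ a b (w0 cs) := by
    rw [sum_wt S hth hc]
    symm
    rw [← Finset.sum_pair h01.symm]
    refine Finset.sum_subset (Finset.subset_univ _) fun w _ hw => ?_
    rw [wt_eq_zero_iff]
    intro h3
    apply hw
    rcases hD w h3 with rfl | rfl <;> simp
  have hP : (0 : ℚ) < ((Nat.card C * q ^ 6 : ℕ) : ℚ) := by
    have : 0 < Nat.card C * q ^ 6 := by (clear * - hq3 hNpos; positivity)
    exact_mod_cast this
  by_cases h1 : (1 : W) ∈ Dis Δ a b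
  · -- `z` fixes one chamber only
    obtain ⟨g, c0, hc0, hgc⟩ := exists_pair S hth h0
    have hz1 : fx C (a * (g * b * g⁻¹)) = 1 := by
      refine fx_eq_one S (c := c0) ?_ ?_
      · rw [mul_smul, hgc, smul_inv_smul]
      · intro m y hy hzy
        have hE : ∀ {k : Fin 2}, RoleE Δ b k (w0 cs) → RoleE Δ (g * b * g⁻¹) k (w0 cs) := by
          intro k h E hE'
          apply h (g⁻¹ • E)
          rw [← S.iso g (g⁻¹ • E), smul_inv_smul, ← mul_smul, ← mul_smul]
          exact hE'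
        have hO : ∀ {k : Fin 2}, RoleO Δ b k (w0 cs) → RoleO Δ (g * b * g⁻¹) k (w0 cs) := by
          intro k h E hE'
          have e1 : ∀ D : C, Δ.δ (g⁻¹ • D) (b • (g⁻¹ • D)) = Δ.δ D ((g * b * g⁻¹) • D) := by
            intro D
            rw [← S.iso g (g⁻¹ • D), smul_inv_smul, ← mul_smul, ← mul_smul]
          obtain ⟨D, ⟨hD1, hD2⟩, hD3⟩ := h (g⁻¹ • E) (by rw [e1]; exact hE')
          have hgD : g • D ∈ Δ.Pan k E := by
            have := smul_mem_Pan S (g := g) hD1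
            rwa [smul_inv_smul] at this
          refine ⟨g • D, ⟨hgD, ?_⟩, ?_⟩
          · rw [← e1, inv_smul_smul]; exact hD2
          · rintro D' ⟨h5, h6⟩
            have h7 := hD3 (g⁻¹ • D') ⟨smul_mem_Pan S h5, by rw [e1]; exact h6⟩
            rw [← h7, smul_inv_smul]
        have hm : m = i ∨ m = j := by revert hij; clear * -; revert i j m; decide
        rcases hm with rfl | rfl
        · exact unique_of_roles S (hab g) (Or.inl ⟨r1, hO r2⟩) hc0 hgc hy hzy
        · exact unique_of_roles S (hab g) (Or.inr ⟨r3, hE r4⟩) hc0 hgc hy hzy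
    have hzall : ∀ g : G, fx C (a * (g * b * g⁻¹)) = 1 := by
      have key : ∀ g : G, fx C (a * (g * b * g⁻¹)) = fx C c := by
        intro g
        have h2 := hc 1 g
        have e2 : 1 * a * 1⁻¹ * (g * b * g⁻¹) = a * (g * b * g⁻¹) := by group
        rw [e2] at h2
        obtain ⟨h, hh⟩ := isConj_iff.1 h2
        rw [← hh, fx_conj]
      intro g'
      rw [key, ← key g, hz1]
    -- the moved types
    obtain ⟨⟨ca, hca⟩, cb, hcb⟩ := h1
    have hca' : a • ca = ca := by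
      have := Δ.eq_of_δ_eq_one hca
      rw [eq_inv_smul_iff] at this
      exact this
    have hcb' : b • cb = cb := (Δ.eq_of_δ_eq_one hcb).symm
    have hmv : ∀ x : G, x ≠ 1 → ∀ c1 : C, x • c1 = c1 → ∃ k, Mv Δ k x := by
      intro x hx c1 hc1
      by_contra hcon
      apply hx
      apply hfaith
      intro d
      by_contra hd
      exact hcon (exists_mv hc1 hd)
    obtain ⟨k, hk⟩ := hmv a ha1 ca hca'
    obtain ⟨l, hlb⟩ := hmv b hb1 cb hcb'
    have hnot : ∀ m, ¬ (Mv Δ m a ∧ Mv Δ m b) := by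
      rintro m ⟨h3, h4⟩
      exact f1 m ⟨delta_of_mv S (Mv.inv S h3), delta_of_mv S h4⟩
    have hkl : k ≠ l := fun h => hnot l ⟨h ▸ hk, hlb⟩
    have hka : ¬ Mv Δ l a := fun h => hnot l ⟨h, hlb⟩
    have hkb : ¬ Mv Δ k b := fun h => hnot k ⟨hk, h⟩
    have hcase : ∀ m : Fin 2, m = k ∨ m = l := by
      intro m; revert hkl; clear * -; revert k l m; decide
    -- no fixed neighbours in the moved direction
    have hna : ∀ c1, a • c1 = c1 → ∀ m, ∀ y ∈ Δ.Pan m c1, y ≠ c1 → a • y = y → m = l := by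
      intro c1 hc1 m y hy hne hay
      rcases hcase m with rfl | h
      · exfalso
        obtain ⟨g, hg⟩ := exists_smul S hth cb c1
        have e1 : (g * b * g⁻¹) • c1 = c1 := by
          rw [← hg, mul_smul, mul_smul, inv_smul_smul, hcb']
        have e2 : (g * b * g⁻¹) • y = y := by
          have h5 : g⁻¹ • y ∈ Δ.Pan m cb := by
            have := smul_mem_Pan S (g := g⁻¹) hy
            rwa [← hg, inv_smul_smul] at this
          rw [mul_smul, mul_smul, fix_of_not_mv hkb hcb' h5, smul_inv_smul]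
        exact hne (eq_of_fx_eq_one (hzall g) (by rw [mul_smul, e2, hay]) (by rw [mul_smul, e1, hc1]))
      · exact h
    have hnb : ∀ c1, b • c1 = c1 → ∀ m, ∀ y ∈ Δ.Pan m c1, y ≠ c1 → b • y = y → m = k := by
      intro c1 hc1 m y hy hne hay
      rcases hcase m with h | rfl
      · exact h
      · exfalso
        obtain ⟨g, hg⟩ := exists_smul S hth c1 ca
        have e1 : a • (g • c1) = g • c1 := by rw [hg, hca']
        have e2 : a • (g • y) = g • y := by
          have h5 : g • y ∈ Δ.Pan m ca := by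
            have := smul_mem_Pan S (g := g) hy
            rwa [hg] at this
          exact fix_of_not_mv hka hca' h5
        have e3 : (g * b * g⁻¹) • (g • y) = g • y := by rw [mul_smul, mul_smul, inv_smul_smul, hay]
        have e4 : (g * b * g⁻¹) • (g • c1) = g • c1 := by rw [mul_smul, mul_smul, inv_smul_smul, hc1]
        exact hne (smul_left_cancel g (eq_of_fx_eq_one (hzall g) (by rw [mul_smul, e3, e2]) (by rw [mul_smul, e4, e1])))
    have hfa : fx C a = q + 1 := fx_of_panel S (hq l) hna (fun c1 hc1 y hy => fix_of_not_mv hka hc1 hy) hca'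
    have hfb : fx C b = q + 1 := fx_of_panel S (hq k) hnb (fun c1 hc1 y hy => fix_of_not_mv hkb hc1 hy) hcb'
    have hw1 : wt Δ a b 1 = ((q + 1) * (q + 1) : ℕ) / (Nat.card C : ℚ) := by
      unfold wt
      rw [pn_pow hq, cs.length_one, pow_zero, mul_one, dn_one, dn_one, fx_inv, hfa, hfb]
    have hfc : fx C c = 1 := by
      have h2 := hc 1 1
      obtain ⟨h, hh⟩ := isConj_iff.1 h2
      rw [← fx_conj c h, hh]
      have e2 : 1 * a * 1⁻¹ * (1 * b * 1⁻¹) = a * (1 * b * 1⁻¹) := by group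
      rw [e2]
      exact hzall 1
    rw [hfc, hw1, hw] at hsum
    have hC : (Nat.card C : ℚ) ≠ 0 := by exact_mod_cast hNpos.ne'
    have hq0 : (q : ℚ) ≠ 0 := by
      have : q ≠ 0 := by omega
      exact_mod_cast this
    have h3 : (Nat.card C * q ^ 6 : ℚ) = (q + 1) * (q + 1) * q ^ 6 + dn Δ a⁻¹ (w0 cs) * dn Δ b (w0 cs) := by
      push_cast at hsum
      field_simp at hsum
      linarith only [hsum]
    have h4 : Nat.card C * q ^ 6 = (q + 1) * (q + 1) * q ^ 6 + dn Δ a⁻¹ (w0 cs) * dn Δ b (w0 cs) := by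
      exact_mod_cast h3
    exact arith2 hq3 hN hA hB h4.le
  · have hfc : 1 ≤ fx C c := by
      obtain ⟨x, hx⟩ := _root_.Cfsg.Agent.H197.Cls.exists_fixed S hpe
      unfold fx
      have : Nonempty {x : C // c • x = x} := ⟨⟨x, hx⟩⟩
      exact Nat.card_pos
    rw [wt_eq_zero_iff.2 h1, zero_add, hw] at hsum
    have h2 : (1 : ℚ) ≤ (dn Δ a⁻¹ (w0 cs) * dn Δ b (w0 cs) : ℕ) / ((Nat.card C * q ^ 6 : ℕ) : ℚ) := by
      rw [← hsum]
      exact_mod_cast hfc
    rw [le_div_iff₀ hP, one_mul] at h2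
    exact arith1 (by omega) hN hA hB (by exact_mod_cast h2)

include S in
/-- **`G₂(q)`, `q ≥ 3`** : `Dis ⊆ {1}`. -/
theorem g2_eq_one (hth : Δ.Thick) (hfaith : ∀ g : G, (∀ x : C, g • x = x) → g = 1) {a b c : G} (hc : AllConj a b c)
    (hpe : PE p c) (ha1 : a ≠ 1) (hb1 : b ≠ 1) {q : ℕ} (hq3 : 3 ≤ q) (hq : ∀ i, Δ.Param i q)
    (hD : ∀ w ∈ Dis Δ a b, w = 1 ∨ w = w0 cs) : ∀ w ∈ Dis Δ a b, w = 1 := by
  intro w hw
  rcases hD w hw with h | h
  · exact h
  · rw [h] at hw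
    exact (g2_false S hth hfaith hc hpe ha1 hb1 hq3 hq hD hw).elim

end Cfsg.Agent.H150.AH
end

-- part: H82/AH/RowC
section
prune_inst 0x400000
set_option linter.all false
open scoped Cfsg.Agent.FastGrp

/-!
# S2451 (helper82): part (C) for `G₂(q)` and `³D₄(q)`
-/

set_option autoImplicit false
set_option linter.unusedSectionVars false

open scoped Pointwise

namespace Cfsg.Agent.H82.AH

open Cfsg.Agent.Tits.Core Cfsg.Agent.Tits.Core.Bldg Cfsg.Agent.Tits Cfsg.Agent.FixBN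
open Cfsg.Agent.H197.Cls Cfsg.Agent.H330.ClassProd Cfsg.Agent.H27.AH
open Cfsg.Lie

universe u

section

variable {W : Type u} [Group W] {cs : CoxeterSystem CoxeterMatrix.G₂ W} {C : Type u} {Δ : Bldg cs C} {G : Type u}
  [Group G] [MulAction G C] {p : ℕ} [Fact p.Prime]

/-- type `G₂`, `Dis ⊆ {1}` -/
theorem hex_false [Finite W] (S : Sys Δ G p) (hth : Δ.Thick) (hfaith : ∀ g : G, (∀ x : C, g • x = x) → g = 1)
    {a b c : G} (ha : a ≠ 1) (hb : b ≠ 1) (h : AllConj a b c) (hc : PE p c) (hD : ∀ w ∈ Dis Δ a b, w = 1) : False := by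
  have hm : orderOf (cs.simple 1 * cs.simple 0) = 6 := by
    rw [LieRecognition.CoxForm.orderOf_eq cs 1 0]
    decide
  refine H148.Cls.rank_two S hth (H148.Cls.AllConj.good h hc) (fun w hw => hD w hw) h (i := 0) (j := 1) ?_ hm
    (by decide) (by decide) ?_ ?_
  · intro k
    fin_cases k
    · exact Or.inl rfl
    · exact Or.inr rfl
  · by_contra hcon
    push Not at hcon
    exact ha (hfaith a hcon)
  · by_contra hcon
    push Not at hcon
    exact hb (hfaith b hcon)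

end

/-- the rows from the building -/
theorem notC_of_hasDis {p : ℕ} [hpf : Fact p.Prime] {G : Type u} [Group G] [Finite G] {qs : Fin 2 → ℕ}
    {Q : ∀ (W : Type u) [Group W], CoxeterSystem CoxeterMatrix.G₂ W → W → Prop}
    (h : HasDis p G CoxeterMatrix.G₂ qs Q)
    (hQ : ∀ (W : Type u) [Group W] [Finite W] (cs : CoxeterSystem CoxeterMatrix.G₂ W) (C : Type u)
      [Finite C] [Nonempty C] [MulAction G C] (Δ : Bldg cs C) (_ : Sys Δ G p), Δ.Thick → (∀ i, Δ.Param i (qs i)) →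
      (∀ g : G, (∀ c : C, g • c = c) → g = 1) → ∀ a b c : G, a ≠ 1 → b ≠ 1 → AllConj a b c → PE p c →
      (∀ w ∈ Dis Δ a b, Q W cs w) → ∀ w ∈ Dis Δ a b, w = 1) : NotC p G := by
  intro a b c ha hb hc hall hpc
  obtain ⟨W, _, _, cs, C, _, _, _, Δ, S, hth, hpar, hfaith, hdis⟩ := h
  have hpe : PE p c := by
    obtain ⟨k, hk⟩ := hpc
    exact ⟨k, by rw [← hk, pow_orderOf_eq_one]⟩
  exact hex_false S hth hfaith ha hb hall hpe
    (hQ W cs C Δ S hth hpar hfaith a b c ha hb hall hpe (hdis a b (H148.Cls.AllConj.good hall hpe)))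

/-- **`G₂(q)`, `q ≥ 3`** -/
theorem notC_G2 {p : ℕ} [hpf : Fact p.Prime] (F : Type) [Field F] [Fintype F] [CharP F p]
    (h3 : 3 ≤ Fintype.card F) : NotC p ↥(Lie.chevG2.group F) := by
  have : IsSimpleGroup ↥(Lie.chevG2.group F) := H400.LieSimple.isSimple_of_lie
    (Or.inr (Or.inr (Or.inr (Or.inr (Or.inr (Or.inr (Or.inl ⟨F, inferInstance, inferInstance, inferInstance,
      Or.inl ⟨h3, ⟨MulEquiv.refl _⟩⟩⟩)))))) : IsLieTypeChar p _)
  refine notC_of_hasDis (hasDis_G2_three p h3) ?_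
  intro W _ _ cs C _ _ _ Δ S hth hpar hfaith a b c ha hb hall hpe hD
  exact H150.AH.g2_eq_one S hth hfaith hall hpe ha hb h3 hpar hD

/-- **`³D₄(q)`** -/
theorem notC_twD4 {p : ℕ} [hpf : Fact p.Prime] (K : Type) [Field K] [Fintype K] [CharP K p] (q : ℕ) (hq : IsPrimePow q)
    (hK : Fintype.card K = q ^ 3) : NotC p ↥(Lie.twistedD4 K q) := by
  have : IsSimpleGroup ↥(Lie.twistedD4 K q) := H400.LieSimple.isSimple_of_lie
    (Or.inr (Or.inr (Or.inr (Or.inr (Or.inr (Or.inr (Or.inr (Or.inl ⟨K, inferInstance, inferInstance, inferInstance, q, hq,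
      Or.inr ⟨hK, ⟨MulEquiv.refl _⟩⟩⟩))))))) : IsLieTypeChar p _)
  have hp2 : q = 2 → p = 2 := by
    rintro rfl
    obtain ⟨n, hn, h1⟩ := FiniteField.card K p
    rw [hK] at h1
    have h2 : p ∣ 2 ^ 3 := by rw [h1]; exact dvd_pow_self p n.2.ne'
    exact (Nat.prime_dvd_prime_iff_eq hn Nat.prime_two).1 (hn.dvd_of_dvd_pow h2)
  refine notC_of_hasDis (hasDis_twD4 p hq hK) ?_
  intro W _ _ cs C _ _ _ Δ S hth hpar hfaith a b c ha hb hall hpe hD w hw
  rcases hD w hw with h1 | ⟨h2, u, hu⟩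
  · exact h1
  · exfalso
    obtain rfl := hp2 h2
    subst h2
    have h0 : cs.simple 0 ∈ Dis Δ a b := by
      rw [← hu]
      exact dis_conj_mem S hth (H148.Cls.AllConj.good hall hpe) hw u
    refine false_of_long S hth hfaith hall hpe (hpar 0) (fun w hw => ?_) h0
    exact (hD w hw).imp id fun h => h.2

end Cfsg.Agent.H82.AH
end
end
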